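import Cfsg.Agent.Lib.SymDesign.Group
import Cfsg.Agent.Lib.Char.RecogTwoOrbits

/-!
# A subgroup of index equal to the degree, unfaithful on an orbit
-/

set_option autoImplicit false
set_option linter.unusedSectionVars false
set_option linter.style.haveILetI false

namespace CfsgLib.SymDesign

open Finset

universe u v

/-- Ito's theorem. -/
theorem ito {G : Type u} {Ω : Type v} [Group G] [Finite G] [MulAction G Ω] [FaithfulSMul G Ω]
    [Finite Ω] (h2 : MulAction.IsMultiplyPretransitive G Ω 2) (H : Subgroup G)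
    (hidx : H.index = Nat.card Ω) (hnt : ¬ MulAction.IsPretransitive H Ω)
    (hfix : ∀ a : Ω, ∃ h : H, h • a ≠ a)
    (hunf : ∃ a : Ω, ∃ h : H, h ≠ 1 ∧ ∀ b ∈ MulAction.orbit H a, h • b = b) :
    ∃ (m : ℕ) (F : Type) (_ : Field F) (_ : Fintype F), 2 ≤ m ∧
      Nat.card Ω = (Fintype.card F ^ (m + 1) - 1) / (Fintype.card F - 1) ∧
      ∃ N : Subgroup G, N.Normal ∧
        Nonempty (N ≃* Matrix.ProjectiveSpecialLinearGroup (Fin (m + 1)) F) ∧
        Subgroup.centralizer (N : Set G) = ⊥ := by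
  classical
  haveI := Fintype.ofFinite Ω
  haveI := Fintype.ofFinite (G ⧸ H)
  haveI := h2
  haveI : MulAction.IsPretransitive G Ω := MulAction.isPretransitive_of_is_two_pretransitive
  obtain ⟨a, h₀, h₀1, h₀fix⟩ := hunf
  have htwoP : ∀ x y x' y' : Ω, x ≠ y → x' ≠ y' → ∃ g : G, g • x = x' ∧ g • y = y' :=
    fun x y x' y' h h' => (MulAction.is_two_pretransitive_iff.1 h2) h h'
  have horb2 : Nat.card (MulAction.orbitRel.Quotient H Ω) = 2 := by
    refine le_antisymm (CfsgLib.Char.card_orbits_le_two h2 H hidx hnt).le ?_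
    exact (CfsgLib.Char.card_orbits_le_two h2 H hidx hnt).ge
  set O : Set Ω := MulAction.orbit H a with hO
  have haO : a ∈ O := MulAction.mem_orbit_self a
  have hOinv : ∀ (g : G), g ∈ H → ∀ x, g • x ∈ O ↔ x ∈ O := fun g hg x => by
    constructor
    · rintro ⟨h, hh⟩
      exact ⟨(⟨g, hg⟩ : H)⁻¹ * h, by
        simp only at hh ⊢; rw [mul_smul, inv_smul_eq_iff]; exact hh⟩
    · rintro ⟨h, rfl⟩
      exact ⟨(⟨g, hg⟩ : H) * h, by simp only; rw [mul_smul]; rfl⟩
  have hout : ∀ x y, x ∉ O → y ∉ O → ∃ h : H, h • x = y := by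
    intro x y hx hy
    haveI := Fintype.ofFinite (MulAction.orbitRel.Quotient H Ω)
    by_contra hcon
    have hne : ∀ {u v : Ω}, (¬ ∃ h : H, h • v = u) →
        (Quotient.mk'' u : MulAction.orbitRel.Quotient H Ω) ≠ Quotient.mk'' v := by
      intro u v h e
      exact h (MulAction.orbitRel_apply.1 (Quotient.exact e))
    have h3 : 3 ≤ Nat.card (MulAction.orbitRel.Quotient H Ω) := by
      rw [Nat.card_eq_fintype_card]
      refine le_trans ?_ (card_le_univ ({Quotient.mk'' y, Quotient.mk'' x, Quotient.mk'' a} :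
        Finset (MulAction.orbitRel.Quotient H Ω)))
      rw [card_eq_three.2 ⟨_, _, _, hne hcon, hne fun ⟨h, e⟩ => hy ⟨h, e⟩,
        hne fun ⟨h, e⟩ => hx ⟨h, e⟩, rfl⟩]
    omega
  let inc : Ω → G ⧸ H → Prop := fun x q => q.out⁻¹ • x ∈ O
  have hincmk : ∀ (x : Ω) (g : G), inc x (g : G ⧸ H) ↔ g⁻¹ • x ∈ O := by
    intro x g
    obtain ⟨h, hh⟩ := QuotientGroup.mk_out_eq_mul H g
    show (Quotient.out (g : G ⧸ H))⁻¹ • x ∈ O ↔ _
    rw [hh, mul_inv_rev, mul_smul]
    exact hOinv _ (H.inv_mem h.2) _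
  have hc : Compat G inc := by
    intro g x B
    obtain ⟨b, rfl⟩ := QuotientGroup.mk_surjective B
    rw [MulAction.Quotient.smul_coe, hincmk, hincmk, smul_eq_mul, mul_inv_rev, mul_smul,
      inv_smul_smul]
  set B₀ : G ⧸ H := ((1 : G) : G ⧸ H) with hB₀
  have hinc0 : ∀ x, inc x B₀ ↔ x ∈ O := fun x => by rw [hincmk, inv_one, one_smul]
  have hstab : ∀ g : G, g • B₀ = B₀ ↔ g ∈ H := fun g => by
    rw [hB₀, MulAction.Quotient.smul_coe, smul_eq_mul, mul_one, QuotientGroup.eq]
    simp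
  set k := Nat.card O with hk
  set n := Fintype.card Ω with hn
  have hQ : Fintype.card (G ⧸ H) = n := by
    rw [← Nat.card_eq_fintype_card, hn, ← Nat.card_eq_fintype_card (α := Ω), ← hidx]
    rfl
  have hpts : ∀ B, Nat.card {x // inc x B} = k := by
    intro B
    exact Nat.card_congr ⟨fun x => ⟨_, x.2⟩, fun x => ⟨B.out • (x : Ω), by
      show B.out⁻¹ • B.out • (x : Ω) ∈ O; rw [inv_smul_smul]; exact x.2⟩,
      fun x => Subtype.ext (smul_inv_smul _ _), fun x => Subtype.ext (inv_smul_smul _ _)⟩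
  have hblks_eq : ∀ x y : Ω, Nat.card {B // inc x B} = Nat.card {B // inc y B} := by
    intro x y
    obtain ⟨g, rfl⟩ := MulAction.exists_smul_eq G x y
    exact Nat.card_congr ((MulAction.toPerm g).subtypeEquiv fun B => (hc g x B).symm)
  have hdc : ∑ x : Ω, Nat.card {B // inc x B} = ∑ B : G ⧸ H, Nat.card {x // inc x B} := by
    simp only [Nat.card_eq_fintype_card, Fintype.card_subtype, card_filter]
    exact sum_comm
  have hblks : ∀ x, Nat.card {B // inc x B} = k := by
    intro x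
    rw [sum_congr rfl (fun B _ => hpts B), sum_congr rfl (fun y _ => hblks_eq y x), sum_const,
      sum_const, card_univ, card_univ, hQ, smul_eq_mul, smul_eq_mul] at hdc
    exact Nat.eq_of_mul_eq_mul_left (Fintype.card_pos_iff.2 ⟨a⟩) hdc
  obtain ⟨b, hb⟩ : ∃ b, b ∉ O := by
    by_contra hcon
    push Not at hcon
    refine hnt ⟨fun x y => ?_⟩
    obtain ⟨u, rfl⟩ := hcon x
    obtain ⟨v, rfl⟩ := hcon y
    exact ⟨v * u⁻¹, by simp only; rw [mul_smul, inv_smul_smul]⟩
  have hab : a ≠ b := fun e => hb (e ▸ haO)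
  set lam := Nat.card {B // inc a B ∧ inc b B} with hlam
  have hpair : ∀ x y, x ≠ y → Nat.card {B // inc x B ∧ inc y B} = lam := by
    intro x y hxy
    obtain ⟨g, rfl, rfl⟩ := htwoP a b x y hab hxy
    exact (Nat.card_congr ((MulAction.toPerm g).subtypeEquiv fun B =>
      (and_congr (hc g a B) (hc g b B)).symm)).symm
  have hk2 : 2 ≤ k := by
    obtain ⟨h, hh⟩ := hfix a
    haveI : Nontrivial O := ⟨⟨_, MulAction.mem_orbit a h⟩, ⟨a, haO⟩, fun e => hh (congrArg Subtype.val e)⟩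
    exact Finite.one_lt_card
  have hk' : k + 2 ≤ n := by
    obtain ⟨h, hh⟩ := hfix b
    have hhb : h • b ∉ O := fun e => hb ((hOinv h h.2 b).1 e)
    have h1 : ({b, h • b} : Finset Ω) ⊆ O.toFinsetᶜ := by
      intro z hz
      rw [mem_insert, mem_singleton] at hz
      rcases hz with rfl | rfl <;> simpa
    have h3 := card_le_card h1
    rw [card_pair (Ne.symm hh), card_compl, Set.toFinset_card, ← Nat.card_eq_fintype_card (α := O),
      ← hk, ← hn] at h3
    omega
  have hid : lam * (n - 1) = k * (k - 1) := by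
    let S := (univ : Finset (G ⧸ H)).filter fun B => inc a B
    let T := (univ : Finset Ω).erase a
    have hkey := Finset.sum_card_bipartiteAbove_eq_sum_card_bipartiteBelow
      (r := fun (y : Ω) (B : G ⧸ H) => inc y B) (s := T) (t := S)
    have hl : ∀ y ∈ T, (S.bipartiteAbove (fun (y : Ω) (B : G ⧸ H) => inc y B) y).card = lam := by
      intro y hy
      rw [← hpair a y (Ne.symm (mem_erase.1 hy).1), Nat.card_eq_fintype_card, Fintype.card_subtype]
      congr 1; ext B; simp [bipartiteAbove, S]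
    have hr : ∀ B ∈ S, (T.bipartiteBelow (fun (y : Ω) (B : G ⧸ H) => inc y B) B).card = k - 1 := by
      intro B hB
      rw [← hpts B, Nat.card_eq_fintype_card, Fintype.card_subtype,
        ← card_erase_of_mem (a := a) (mem_filter.2 ⟨mem_univ _, (mem_filter.1 hB).2⟩)]
      congr 1; ext z; simp [bipartiteBelow, T, and_comm]
    rw [sum_congr rfl hl, sum_congr rfl hr, sum_const, sum_const, smul_eq_mul, smul_eq_mul,
      card_erase_of_mem (mem_univ a), card_univ,
      show S.card = k by rw [← hblks a, Nat.card_eq_fintype_card, Fintype.card_subtype], ← hn] at hkey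
    linarith
  let D : Des Ω (G ⧸ H) :=
    { inc := inc, k := k, lam := lam, card_eq := hQ.symm, pts := hpts, blks := hblks
      pair_pts := hpair
      pair_blks := exists_des hQ.symm hpts hblks hpair hk2 hk' hid
      two_le := hk2, add_two_le := hk', ident := hid }
  have hc' : Compat G D.inc := hc
  -- the group is transitive on the other blocks
  have hother : ∀ B C : G ⧸ H, B ≠ B₀ → C ≠ B₀ → ∃ h : H, h • B = C := by
    intro B C hB hC
    have hq := D.orbits_card hc' H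
    rw [horb2] at hq
    haveI := Fintype.ofFinite (MulAction.orbitRel.Quotient H (G ⧸ H))
    by_contra hcon
    have hne : ∀ {u v : G ⧸ H}, (¬ ∃ h : H, h • v = u) →
        (Quotient.mk'' u : MulAction.orbitRel.Quotient H (G ⧸ H)) ≠ Quotient.mk'' v := by
      intro u v h e
      exact h (MulAction.orbitRel_apply.1 (Quotient.exact e))
    have hfixB : ∀ h : H, h • B₀ = B₀ := fun h => (hstab h).2 h.2
    have h3 : 3 ≤ Nat.card (MulAction.orbitRel.Quotient H (G ⧸ H)) := by
      rw [Nat.card_eq_fintype_card]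
      refine le_trans ?_ (card_le_univ ({Quotient.mk'' C, Quotient.mk'' B, Quotient.mk'' B₀} :
        Finset (MulAction.orbitRel.Quotient H (G ⧸ H))))
      rw [card_eq_three.2 ⟨_, _, _, hne hcon, hne fun ⟨h, e⟩ => hC ((hfixB h) ▸ e).symm,
        hne fun ⟨h, e⟩ => hB ((hfixB h) ▸ e).symm, rfl⟩]
    have h4 : 3 ≤ 2 := le_of_le_of_eq h3 hq.symm
    omega
  have hpairs : ∀ B C B' C' : G ⧸ H, B ≠ C → B' ≠ C' → ∃ g : G, g • B = B' ∧ g • C = C' := by
    intro B C B' C' hBC hBC'
    obtain ⟨b₁, rfl⟩ := QuotientGroup.mk_surjective B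
    obtain ⟨b₂, rfl⟩ := QuotientGroup.mk_surjective B'
    have e : ∀ g : G, ((g : G) : G ⧸ H) = g • B₀ := fun g => by
      rw [hB₀, MulAction.Quotient.smul_coe, smul_eq_mul, mul_one]
    rw [e] at hBC hBC'
    obtain ⟨h, hh⟩ := hother (b₁⁻¹ • C) (b₂⁻¹ • C')
      (fun he => hBC (inv_smul_eq_iff.1 he).symm) (fun he => hBC' (inv_smul_eq_iff.1 he).symm)
    refine ⟨b₂ * h * b₁⁻¹, ?_, ?_⟩
    · rw [e, e, mul_smul, mul_smul, inv_smul_smul, (hstab h).2 h.2]
    · rw [mul_smul, mul_smul, show (h : G) • b₁⁻¹ • C = b₂⁻¹ • C' from hh, smul_inv_smul]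
  let K : Subgroup G :=
    { carrier := {g | g ∈ H ∧ ∀ x ∈ O, g • x = x}
      one_mem' := ⟨H.one_mem, fun x _ => one_smul _ x⟩
      mul_mem' := fun {g g'} hg hg' => ⟨H.mul_mem hg.1 hg'.1, fun x hx => by
        rw [mul_smul, hg'.2 x hx, hg.2 x hx]⟩
      inv_mem' := fun {g} hg => ⟨H.inv_mem hg.1, fun x hx => by
        rw [inv_smul_eq_iff, hg.2 x hx]⟩ }
  have hKfix : ∀ h ∈ K, ∀ x, D.inc x B₀ → h • x = x := fun h hh x hx => hh.2 x ((hinc0 x).1 hx)
  have hK : K ≠ ⊥ := fun e => by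
    have : (h₀ : G) ∈ K := ⟨h₀.2, fun x hx => h₀fix x hx⟩
    rw [e, Subgroup.mem_bot] at this
    exact h₀1 (Subtype.ext this)
  have hKn : ∀ g : G, g • B₀ = B₀ → ∀ h ∈ K, g * h * g⁻¹ ∈ K := by
    intro g hg h hh
    have hgH := (hstab g).1 hg
    refine ⟨H.mul_mem (H.mul_mem hgH hh.1) (H.inv_mem hgH), fun x hx => ?_⟩
    rw [mul_smul, mul_smul, hh.2 _ ((hOinv _ (H.inv_mem hgH) x).2 hx), smul_inv_smul]
  have hF : D.Full := full_of_axis hc' htwoP hpairs B₀ K hK hKn hKfix
  let I : Ito G D :=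
    { compat := hc', full := hF, pairs := hpairs, B₀ := B₀
      transIn := fun x y hx hy => by
        obtain ⟨u, rfl⟩ := (hinc0 x).1 hx
        obtain ⟨v, rfl⟩ := (hinc0 y).1 hy
        exact ⟨(v * u⁻¹ : H), (hstab _).2 (v * u⁻¹ : H).2, by
          show (v * u⁻¹ : H) • u • a = v • a; rw [mul_smul, inv_smul_smul]⟩
      transOut := fun x y hx hy => by
        obtain ⟨h, hh⟩ := hout x y (fun e => hx ((hinc0 x).2 e)) (fun e => hy ((hinc0 y).2 e))
        exact ⟨h, (hstab _).2 h.2, hh⟩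
      K := K, nontriv := hK, norm := hKn, fixK := hKfix }
  exact I.exists_psl

end CfsgLib.SymDesign
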