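import Cfsg.Agent.Lib.SymDesign.Full

/-!
# Elations of a design in which all lines meet all blocks
-/

set_option autoImplicit false
set_option linter.unusedSectionVars false
set_option linter.style.haveILetI false

namespace CfsgLib.SymDesign

open Finset

variable {G P Q : Type*} [Group G] [MulAction G P] [MulAction G Q] [Fintype P] [Fintype Q]
  {D : Des P Q}

/-- The element fixes all points of the block. -/
def Axis (D : Des P Q) (B : Q) (h : G) : Prop := ∀ x, D.inc x B → h • x = x

/-- The element fixes the block pointwise and moves no line through the centre. -/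
def Centre (D : Des P Q) (B : Q) (h : G) (c : P) : Prop :=
  D.inc c B ∧ ∀ y, ¬ D.inc y B → h • y ∈ D.line c y

/-- An elation: the identity, or fixing exactly the points of the block. -/
def IsElation (D : Des P Q) (B : Q) (h : G) : Prop :=
  Axis D B h ∧ (h = 1 ∨ ∀ y, ¬ D.inc y B → h • y ≠ y)

namespace Des

theorem meet_unique {x y : P} {B : Q} (hxy : x ≠ y) (hB : ¬ D.inc x B ∨ ¬ D.inc y B) {u v : P}
    (hu : u ∈ D.line x y) (hv : v ∈ D.line x y) (hu' : D.inc u B) (hv' : D.inc v B) : u = v := by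
  by_contra h
  have := D.line_subset_block hxy h hu hv hu' hv'
  rcases hB with hB | hB
  · exact hB (this x (D.left_mem_line _ _))
  · exact hB (this y (D.right_mem_line _ _))

theorem Full.three_le_line (hF : D.Full) {x y : P} (hxy : x ≠ y) : 3 ≤ (D.line x y).card := by
  by_contra hcon
  have h2 := D.two_le_line hxy
  have h := hF.q_spec hxy
  have hl := hF.line_card hxy
  have hn := D.add_two_le
  rw [show (D.line x y).card = 2 by omega] at h hl
  push_cast at h hl
  omega

/-- Lines in a plane meet. -/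
theorem Full.plane_meet (hF : D.Full) {x y p : P} (hxy : x ≠ y) (hp : p ∉ D.line x y) {u v : P}
    (huv : u ≠ v) (hu : ∀ B, D.inc x B → D.inc y B → D.inc p B → D.inc u B)
    (hv : ∀ B, D.inc x B → D.inc y B → D.inc p B → D.inc v B) :
    ∃ w, w ∈ D.line u v ∧ w ∈ D.line x y := by
  classical
  obtain ⟨R, hRx, hRy, hRp⟩ : ∃ R, D.inc x R ∧ D.inc y R ∧ ¬ D.inc p R := by
    by_contra hcon
    push Not at hcon
    exact hp (D.mem_line.2 hcon)
  obtain ⟨w, hw, hwR⟩ := hF u v huv R
  refine ⟨w, hw, ?_⟩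
  have hwall : ∀ B, D.inc x B → D.inc y B → D.inc p B → D.inc w B := fun B a b c =>
    D.mem_line.1 hw B (hu B a b c) (hv B a b c)
  by_contra hwL
  have hsub : D.bl x ∩ D.bl y ∩ D.bl p ⊆ D.bl x ∩ D.bl y ∩ D.bl w := fun B hB => by
    simp only [mem_inter, D.mem_bl] at hB ⊢
    exact ⟨hB.1, hwall B hB.1.1 hB.1.2 hB.2⟩
  have h1 := hF.mu hxy hp
  have h2 := hF.mu hxy hwL
  have hq : ((D.line x y).card : ℤ) - 1 ≠ 0 := by have := D.two_le_line hxy; omega
  have h3 := mul_left_cancel₀ hq (h1.trans h2.symm)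
  have heq := eq_of_subset_of_card_le hsub (by exact_mod_cast h3.ge)
  have : R ∈ D.bl x ∩ D.bl y ∩ D.bl w := by simp [mem_inter, D.mem_bl, hRx, hRy, hwR]
  rw [← heq] at this
  simp only [mem_inter, D.mem_bl] at this
  exact hRp this.2

/-- A point outside a block and off a given line through an outside point. -/
theorem Full.exists_off (hF : D.Full) (B : Q) {z w : P} (hzw : z ≠ w) (hz : ¬ D.inc z B) :
    ∃ u, ¬ D.inc u B ∧ u ∉ D.line z w := by
  classical
  obtain ⟨c, hc, hcB⟩ := hF z w hzw B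
  obtain ⟨x', hx', hx'c⟩ := exists_mem_ne (show 1 < (D.pt B).card by
    rw [D.card_pt]; have := D.two_le; omega) c
  rw [D.mem_pt] at hx'
  have hzx : z ≠ x' := fun e => hz (e ▸ hx')
  obtain ⟨u, hu⟩ := card_pos.1 (show 0 < (((D.line z x').erase z).erase x').card by
    rw [card_erase_of_mem (mem_erase.2 ⟨hzx.symm, D.right_mem_line _ _⟩),
      card_erase_of_mem (D.left_mem_line _ _)]
    have := hF.three_le_line hzx; omega)
  rw [mem_erase, mem_erase] at hu
  refine ⟨u, fun huB => hu.1 (D.meet_unique hzx (.inl hz) hu.2.2 (D.right_mem_line _ _) huB hx'), fun huL => hx'c ?_⟩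
  have e1 := D.line_eq_of_mem hzx (Ne.symm hu.2.1) hu.2.2
  have e2 := D.line_eq_of_mem hzw (Ne.symm hu.2.1) huL
  refine D.meet_unique hzw (.inl hz) ?_ hc hx' hcB
  rw [← e2, e1]
  exact D.right_mem_line _ _

end Des

section

variable [FaithfulSMul G P] (hc : Compat G D.inc) (hF : D.Full)
include hc hF

omit hF in
theorem Axis.fixBlock {B : Q} {h : G} (ha : Axis D B h) : h • B = B := by
  classical
  exact (D.ext_pt fun x hx => by
    have := (hc h x B).2 hx
    rwa [ha x hx] at this).symm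

omit hF in
theorem Axis.inc_iff {B : Q} {h : G} (ha : Axis D B h) (x : P) : D.inc (h • x) B ↔ D.inc x B := by
  conv_lhs => rw [← Axis.fixBlock hc ha]
  exact hc h x B

omit hF in
/-- The blocks through an outside point and its image are fixed, so the line is stable. -/
theorem Axis.line_stable {B : Q} {h : G} (ha : Axis D B h) {y : P} (hy : ¬ D.inc y B) (v : P) :
    h • v ∈ D.line y (h • y) ↔ v ∈ D.line y (h • y) := by
  classical
  have key : ∀ C, D.inc y C → D.inc (h • y) C → h • C = C := by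
    intro C h1 h2
    by_contra hC
    have hCB : C ≠ B := fun e => hC (by rw [e]; exact Axis.fixBlock hc ha)
    have hsub : D.pt C ∩ D.pt B ⊆ D.pt C ∩ D.pt (h • C) := by
      intro x hx
      rw [mem_inter, D.mem_pt, D.mem_pt] at hx ⊢
      refine ⟨hx.1, ?_⟩
      have := (hc h x C).2 hx.1
      rwa [ha x hx.2] at this
    have heq := eq_of_subset_of_card_le hsub (by rw [D.card_pt_inter hCB, D.card_pt_inter (Ne.symm hC)])
    have : h • y ∈ D.pt C ∩ D.pt (h • C) :=
      mem_inter.2 ⟨D.mem_pt.2 h2, D.mem_pt.2 ((hc h y C).2 h1)⟩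
    rw [← heq, mem_inter, D.mem_pt, D.mem_pt, Axis.inc_iff hc ha] at this
    exact hy this.2
  simp only [Des.mem_line]
  refine forall_congr' fun C => forall_congr' fun a => forall_congr' fun b => ?_
  conv_lhs => rw [← key C a b]
  exact hc h v C

/-- An element fixing a block pointwise fixes at most one further point, unless trivial. -/
theorem Axis.fix_unique {B : Q} {h : G} (ha : Axis D B h) (h1 : h ≠ 1) {z w : P} (hz : ¬ D.inc z B)
    (hw : ¬ D.inc w B) (hz' : h • z = z) (hw' : h • w = w) : z = w := by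
  by_contra hzw
  have hmem : ∀ z', ¬ D.inc z' B → h • z' = z' → ∀ y, h • y ≠ y → z' ∈ D.line y (h • y) := by
    intro z' hz0 hz1 y hy
    have hzy : z' ≠ y := fun e => hy (by rw [← e]; exact hz1)
    obtain ⟨x, hx, hxB⟩ := hF z' y hzy B
    have hzx : z' ≠ x := fun e => hz0 (e ▸ hxB)
    have e1 : D.line z' x = D.line z' y := D.line_eq_of_mem hzy hzx hx
    have hhy : h • y ∈ D.line z' y := by
      have := (smul_mem_line hc h (x := z') (y := x) (w := y)).2 (e1 ▸ D.right_mem_line _ _)
      rwa [hz1, ha x hxB, e1] at this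
    rw [D.line_eq_of_mem_mem hzy (Ne.symm hy) (D.right_mem_line _ _) hhy]
    exact D.left_mem_line _ _
  have key : ∀ z' w', ¬ D.inc z' B → ¬ D.inc w' B → h • z' = z' → h • w' = w' → z' ≠ w' →
      ∀ y, h • y ≠ y → y ∈ D.line z' w' := by
    intro z' w' a b c d e y hy
    rw [D.line_eq_of_mem_mem (Ne.symm hy) e (hmem z' a c y hy) (hmem w' b d y hy)]
    exact D.left_mem_line _ _
  obtain ⟨y, hy⟩ : ∃ y, h • y ≠ y := by
    by_contra hcon
    push Not at hcon
    exact h1 (FaithfulSMul.eq_of_smul_eq_smul fun x : P => by rw [hcon x, one_smul])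
  obtain ⟨u, hu, huL⟩ := hF.exists_off B hzw hz
  have hu' : h • u = u := by_contra fun hu' => huL (key z w hz hw hz' hw' hzw u hu')
  have hzu : z ≠ u := fun e => huL (e ▸ D.left_mem_line _ _)
  have hy1 := key z w hz hw hz' hw' hzw y hy
  have hy2 := key z u hz hu hz' hu' hzu y hy
  have hzy : z ≠ y := fun e => hy (by rw [← e]; exact hz')
  have e1 := D.line_eq_of_mem hzw hzy hy1
  have e2 := D.line_eq_of_mem hzu hzy hy2
  exact huL (by rw [← e1, e2]; exact D.right_mem_line _ _)

theorem IsElation.exists_centre {B : Q} {h : G} (he : IsElation D B h) : ∃ c, Centre D B h c := by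
  classical
  obtain ⟨ha, rfl | hmov⟩ := he
  · obtain ⟨c, hc'⟩ := card_pos.1 (show 0 < (D.pt B).card by rw [D.card_pt]; have := D.two_le; omega)
    exact ⟨c, D.mem_pt.1 hc', fun y _ => by rw [one_smul]; exact D.right_mem_line _ _⟩
  obtain ⟨y₀, hy₀⟩ : ∃ y, ¬ D.inc y B := by
    by_contra hcon
    push Not at hcon
    have : D.pt B = univ := eq_univ_of_forall fun x => D.mem_pt.2 (hcon x)
    have h1 := D.card_pt B
    rw [this, card_univ] at h1
    have := D.add_two_le
    omega
  have hne₀ := (hmov y₀ hy₀).symm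
  obtain ⟨c, hcL, hcB⟩ := hF y₀ (h • y₀) hne₀ B
  refine ⟨c, hcB, fun z hz => ?_⟩
  have hnez := (hmov z hz).symm
  have hcz : c ≠ z := fun e => hz (e ▸ hcB)
  suffices hmem : c ∈ D.line z (h • z) by
    rw [D.line_comm c z, D.line_eq_of_mem hnez hcz.symm hmem]
    exact D.right_mem_line _ _
  by_cases hzL : z ∈ D.line y₀ (h • y₀)
  · rw [D.line_eq_of_mem_mem hne₀ hnez hzL ((Axis.line_stable hc ha hy₀ z).2 hzL)]
    exact hcL
  have hyz : y₀ ≠ z := fun e => hzL (e ▸ D.left_mem_line _ _)
  obtain ⟨w, hw, hwB⟩ := hF y₀ z hyz B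
  have hyw : y₀ ≠ w := fun e => hy₀ (e ▸ hwB)
  have hhz : h • z ∈ D.line (h • y₀) w := by
    have := (smul_mem_line hc h (x := y₀) (y := w) (w := z)).2
      (by rw [D.line_eq_of_mem hyz hyw hw]; exact D.right_mem_line _ _)
    rwa [ha w hwB] at this
  obtain ⟨v, hv, hvL⟩ := hF.plane_meet hne₀ hzL hnez (fun C _ _ a => a)
    (fun C a b d => D.mem_line.1 hhz C b (D.mem_line.1 hw C a d))
  have hvfix : h • v = v := by
    by_contra hne
    have e1 := D.line_eq_of_mem_mem hnez (Ne.symm hne) hv ((Axis.line_stable hc ha hz v).2 hv)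
    have e2 := D.line_eq_of_mem_mem hne₀ (Ne.symm hne) hvL ((Axis.line_stable hc ha hy₀ v).2 hvL)
    exact hzL (by rw [← e2, e1]; exact D.left_mem_line _ _)
  have hvB : D.inc v B := by_contra fun h' => hmov v h' hvfix
  rwa [D.meet_unique hne₀ (.inl hy₀) hcL hvL hcB hvB]

omit hF in
theorem IsElation.centre_unique {B : Q} {h : G} (he : IsElation D B h) (h1 : h ≠ 1) {c c' : P}
    (hc1 : Centre D B h c) (hc2 : Centre D B h c') : c = c' := by
  classical
  obtain ⟨y, hy⟩ : ∃ y, ¬ D.inc y B := by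
    by_contra hcon
    push Not at hcon
    have : D.pt B = univ := eq_univ_of_forall fun x => D.mem_pt.2 (hcon x)
    have h1 := D.card_pt B
    rw [this, card_univ] at h1
    have := D.add_two_le
    omega
  have hne := (he.2.resolve_left h1 y hy).symm
  have hcy : c ≠ y := fun e => hy (e ▸ hc1.1)
  have hcy' : c' ≠ y := fun e => hy (e ▸ hc2.1)
  have e1 := D.line_eq_of_mem_mem hcy hne (D.right_mem_line _ _) (hc1.2 y hy)
  have e2 := D.line_eq_of_mem_mem hcy' hne (D.right_mem_line _ _) (hc2.2 y hy)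
  refine D.meet_unique hcy (.inr hy) (D.left_mem_line _ _) ?_ hc1.1 hc2.1
  rw [← e1, e2]; exact D.left_mem_line _ _

omit hF in
theorem Centre.mul {B : Q} {a b : G} {c : P} (hb : Axis D B b) (h1 : Centre D B a c)
    (h2 : Centre D B b c) : Centre D B (a * b) c := by
  refine ⟨h1.1, fun y hy => ?_⟩
  rw [mul_smul]
  have hy' : ¬ D.inc (b • y) B := fun e => hy ((Axis.inc_iff hc hb y).1 e)
  rw [← D.line_eq_of_mem (fun e : c = y => hy (e ▸ h1.1)) (show c ≠ b • y from fun e => hy' (e ▸ h1.1)) (h2.2 y hy)]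
  exact h1.2 _ hy'

theorem IsElation.mul {B : Q} {a b : G} (ha : IsElation D B a) (hb : IsElation D B b) :
    IsElation D B (a * b) := by
  refine ⟨fun x hx => by rw [mul_smul, hb.1 x hx, ha.1 x hx], ?_⟩
  by_contra hcon
  push Not at hcon
  obtain ⟨hab, z, hz, hzfix⟩ := hcon
  rcases eq_or_ne b 1 with rfl | hb1
  · rw [mul_one] at hab hzfix; exact ha.2.resolve_left hab z hz hzfix
  rcases eq_or_ne a 1 with rfl | ha1
  · rw [one_mul] at hab hzfix; exact hb.2.resolve_left hab z hz hzfix
  obtain ⟨ca, hca⟩ := ha.exists_centre hc hF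
  obtain ⟨cb, hcb⟩ := hb.exists_centre hc hF
  have hne := (hb.2.resolve_left hb1 z hz).symm
  have hbz : ¬ D.inc (b • z) B := fun e => hz ((Axis.inc_iff hc hb.1 z).1 e)
  have hm : z ∈ D.line ca (b • z) := by
    have := hca.2 _ hbz
    rwa [← mul_smul, hzfix] at this
  have hcaz : ca ≠ b • z := fun e => hbz (e ▸ hca.1)
  have hcbz : cb ≠ z := fun e => hz (e ▸ hcb.1)
  have e1 := D.line_eq_of_mem_mem hcaz hne hm (D.right_mem_line _ _)
  have e2 := D.line_eq_of_mem_mem hcbz hne (D.right_mem_line _ _) (hcb.2 z hz)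
  have hcc : ca = cb := D.meet_unique hcbz (.inr hz)
    (by rw [← e2, e1]; exact D.left_mem_line _ _) (D.left_mem_line _ _) hca.1 hcb.1
  subst hcc
  have hcen := Centre.mul hc hb.1 hca hcb
  have hax : Axis D B (a * b) := fun x hx => by rw [mul_smul, hb.1 x hx, ha.1 x hx]
  obtain ⟨u, hu, huL⟩ := hF.exists_off B (Ne.symm hcbz) hz
  have huz : z ≠ u := fun e => huL (e ▸ D.left_mem_line _ _)
  have humov : (a * b) • u ≠ u := fun e => huz (Axis.fix_unique hc hF hax hab hz hu hzfix e)
  obtain ⟨x, hx, hxB⟩ := hF z u huz B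
  have hzx : z ≠ x := fun e => hz (e ▸ hxB)
  have e3 : D.line z x = D.line z u := D.line_eq_of_mem huz hzx hx
  have h4 : (a * b) • u ∈ D.line z u := by
    have := (smul_mem_line hc (a * b) (x := z) (y := x) (w := u)).2 (e3 ▸ D.right_mem_line _ _)
    rwa [hzfix, hax x hxB, e3] at this
  have hcu : ca ≠ u := fun e => hu (e ▸ hca.1)
  have e4 := D.line_eq_of_mem_mem huz (Ne.symm humov) (D.right_mem_line _ _) h4
  have e5 := D.line_eq_of_mem_mem hcu (Ne.symm humov) (D.right_mem_line _ _) (hcen.2 u hu)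
  have hca' : ca ∈ D.line z u := by rw [← e4, e5]; exact D.left_mem_line _ _
  refine huL ?_
  rw [D.line_eq_of_mem huz (Ne.symm hcbz) hca']
  exact D.right_mem_line _ _

end

/-- The elation group of a block. -/
noncomputable def elations [Finite G] [FaithfulSMul G P] (hc : Compat G D.inc) (hF : D.Full) (B : Q) :
    Subgroup G where
  carrier := {h | IsElation D B h}
  one_mem' := ⟨fun x _ => one_smul _ x, .inl rfl⟩
  mul_mem' ha hb := IsElation.mul hc hF ha hb
  inv_mem' {a} ha := by
    refine ⟨fun x hx => ?_, ?_⟩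
    · rw [inv_smul_eq_iff]; exact (ha.1 x hx).symm
    · rcases ha.2 with rfl | h
      · exact .inl inv_one
      · exact .inr fun y hy e => h y hy (inv_smul_eq_iff.1 e).symm

theorem mem_elations [Finite G] [FaithfulSMul G P] {hc : Compat G D.inc} {hF : D.Full} {B : Q}
    {h : G} : h ∈ elations hc hF B ↔ IsElation D B h := Iff.rfl

end CfsgLib.SymDesign
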