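import Mathlib

/-!
# Symmetric designs

A symmetric design is given by an incidence relation between two finite types of the same size.
Lines are the intersections of all blocks through two points.
-/

set_option autoImplicit false
set_option linter.unusedSectionVars false
set_option linter.style.haveILetI false

namespace CfsgLib.SymDesign

open Finset Matrix

/-- A symmetric design with block size `k` and `lam` blocks through two points. -/
structure Des (P Q : Type*) [Fintype P] [Fintype Q] where
  inc : P → Q → Prop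
  k : ℕ
  lam : ℕ
  card_eq : Fintype.card P = Fintype.card Q
  pts : ∀ B, Nat.card {x // inc x B} = k
  blks : ∀ x, Nat.card {B // inc x B} = k
  pair_pts : ∀ x y, x ≠ y → Nat.card {B // inc x B ∧ inc y B} = lam
  pair_blks : ∀ B C, B ≠ C → Nat.card {x // inc x B ∧ inc x C} = lam
  two_le : 2 ≤ k
  add_two_le : k + 2 ≤ Fintype.card P
  ident : lam * (Fintype.card P - 1) = k * (k - 1)

namespace Des

variable {P Q : Type*} [Fintype P] [Fintype Q] (D : Des P Q)

/-- The dual design. -/
def dual : Des Q P where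
  inc B x := D.inc x B
  k := D.k
  lam := D.lam
  card_eq := D.card_eq.symm
  pts := D.blks
  blks := D.pts
  pair_pts := D.pair_blks
  pair_blks := D.pair_pts
  two_le := D.two_le
  add_two_le := D.card_eq ▸ D.add_two_le
  ident := by rw [← D.card_eq]; exact D.ident

/-- The points of a block. -/
noncomputable def pt (B : Q) : Finset P := by
  classical exact univ.filter fun x => D.inc x B

/-- The blocks through a point. -/
noncomputable def bl (x : P) : Finset Q := by
  classical exact univ.filter fun B => D.inc x B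

theorem mem_pt {x : P} {B : Q} : x ∈ D.pt B ↔ D.inc x B := by simp [pt]

theorem mem_bl {x : P} {B : Q} : B ∈ D.bl x ↔ D.inc x B := by simp [bl]

theorem dual_pt (x : P) : D.dual.pt x = D.bl x := by
  ext B; simp [mem_pt, mem_bl, dual]

theorem dual_bl (B : Q) : D.dual.bl B = D.pt B := by
  ext B; simp [mem_pt, mem_bl, dual]

theorem card_pt (B : Q) : (D.pt B).card = D.k := by
  classical
  rw [← D.pts B, Nat.card_eq_fintype_card, Fintype.card_subtype, pt]

theorem card_bl (x : P) : (D.bl x).card = D.k := D.dual_pt x ▸ D.dual.card_pt x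

theorem card_pt_inter [DecidableEq P] {B C : Q} (h : B ≠ C) : (D.pt B ∩ D.pt C).card = D.lam := by
  classical
  rw [← D.pair_blks B C h, Nat.card_eq_fintype_card, Fintype.card_subtype]
  congr 1; ext x; simp [mem_pt]

theorem card_bl_inter [DecidableEq Q] {x y : P} (h : x ≠ y) : (D.bl x ∩ D.bl y).card = D.lam := by
  rw [← D.dual_pt, ← D.dual_pt]; exact D.dual.card_pt_inter h

theorem lam_pos : 1 ≤ D.lam := by
  by_contra h
  have h2 := D.two_le
  have := D.ident
  rw [show D.lam = 0 by omega, zero_mul] at this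
  rcases Nat.mul_eq_zero.1 this.symm with h | h <;> omega

theorem lam_lt : D.lam < D.k := by
  by_contra h
  have h2 := D.two_le
  have h3 := D.add_two_le
  have := D.ident
  have : D.k * (Fintype.card P - 1) ≤ D.k * (D.k - 1) := this ▸ Nat.mul_le_mul_right _ (not_lt.1 h)
  have := Nat.le_of_mul_le_mul_left this (by omega)
  omega

/-- The two forms of the parameter identity, over the integers. -/
theorem ident_int : (D.lam : ℤ) * ((Fintype.card P : ℤ) - 1) = (D.k : ℤ) * ((D.k : ℤ) - 1) := by
  have h := D.ident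
  have h2 := D.two_le
  have h3 := D.add_two_le
  zify [show 1 ≤ Fintype.card P by omega, show 1 ≤ D.k by omega] at h
  exact h

theorem order_two_le : 2 ≤ D.k - D.lam := by
  by_contra h
  have h1 := D.lam_lt
  have h2 := D.ident_int
  have h3 : (D.lam : ℤ) = (D.k : ℤ) - 1 := by omega
  rw [h3] at h2
  have h4 := D.two_le
  have h5 := D.add_two_le
  have h6 : ((D.k : ℤ) - 1) * ((Fintype.card P : ℤ) - 1 - D.k) = 0 := by linarith
  rcases mul_eq_zero.1 h6 with h | h <;> omega

theorem eq_of_pt_subset [DecidableEq P] {B C : Q} (h : D.pt B ⊆ D.pt C) : B = C := by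
  by_contra hne
  have h1 := D.card_pt_inter hne
  rw [inter_eq_left.2 h, D.card_pt] at h1
  have := D.lam_lt
  omega

theorem ext_pt [DecidableEq P] {B C : Q} (h : ∀ x, D.inc x B → D.inc x C) : B = C :=
  D.eq_of_pt_subset fun x hx => D.mem_pt.2 (h x (D.mem_pt.1 hx))

/-- The line through two points: the points on all blocks through both. -/
noncomputable def line (x y : P) : Finset P := by
  classical exact univ.filter fun z => ∀ B, D.inc x B → D.inc y B → D.inc z B

theorem mem_line {x y z : P} : z ∈ D.line x y ↔ ∀ B, D.inc x B → D.inc y B → D.inc z B := by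
  simp [line]

theorem left_mem_line (x y : P) : x ∈ D.line x y := D.mem_line.2 fun _ h _ => h

theorem right_mem_line (x y : P) : y ∈ D.line x y := D.mem_line.2 fun _ _ h => h

theorem line_comm (x y : P) : D.line x y = D.line y x := by
  ext z; simp only [mem_line]; exact ⟨fun h B a b => h B b a, fun h B a b => h B b a⟩

theorem bl_inter_eq [DecidableEq Q] {x y z : P} (hxy : x ≠ y) (hxz : x ≠ z) (hz : z ∈ D.line x y) :
    D.bl x ∩ D.bl y = D.bl x ∩ D.bl z := by
  refine eq_of_subset_of_card_le (fun B hB => ?_) (by rw [D.card_bl_inter hxy, D.card_bl_inter hxz])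
  rw [mem_inter, mem_bl, mem_bl] at hB ⊢
  exact ⟨hB.1, D.mem_line.1 hz B hB.1 hB.2⟩

theorem line_eq_of_mem {x y z : P} (hxy : x ≠ y) (hxz : x ≠ z) (hz : z ∈ D.line x y) :
    D.line x z = D.line x y := by
  classical
  have h := D.bl_inter_eq hxy hxz hz
  have h' : ∀ B, (D.inc x B ∧ D.inc y B) ↔ (D.inc x B ∧ D.inc z B) := fun B => by
    simpa [mem_bl] using congrArg (B ∈ ·) h
  ext w
  simp only [mem_line]
  constructor
  · exact fun hw B a b => hw B a ((h' B).1 ⟨a, b⟩).2
  · exact fun hw B a b => hw B a ((h' B).2 ⟨a, b⟩).2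

theorem line_eq_of_mem_mem {x y u v : P} (hxy : x ≠ y) (huv : u ≠ v) (hu : u ∈ D.line x y)
    (hv : v ∈ D.line x y) : D.line u v = D.line x y := by
  rcases eq_or_ne x u with rfl | hxu
  · exact D.line_eq_of_mem hxy huv hv
  · have h1 : D.line x u = D.line x y := D.line_eq_of_mem hxy hxu hu
    rw [← h1, D.line_comm x u]
    refine D.line_eq_of_mem hxu.symm huv ?_
    rw [D.line_comm, h1]; exact hv

/-- A block with two points of a line contains the line. -/
theorem line_subset_block {x y : P} {B : Q} {u v : P} (hxy : x ≠ y) (huv : u ≠ v)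
    (hu : u ∈ D.line x y) (hv : v ∈ D.line x y) (huB : D.inc u B) (hvB : D.inc v B) :
    ∀ w ∈ D.line x y, D.inc w B := fun w hw => by
  rw [← D.line_eq_of_mem_mem hxy huv hu hv] at hw
  exact D.mem_line.1 hw B huB hvB

/-- The number of blocks meeting a line in exactly one point. -/
theorem card_tangent_blocks [DecidableEq P] [DecidableEq Q] {x y : P} (hxy : x ≠ y) :
    ((univ : Finset Q).filter fun B => (D.pt B ∩ D.line x y).card = 1).card =
      (D.line x y).card * (D.k - D.lam) := by
  classical
  have key : ∀ z ∈ D.line x y, ((univ : Finset Q).filter fun B => D.pt B ∩ D.line x y = {z}).card =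
      D.k - D.lam := by
    intro z hz
    obtain ⟨w, hw, hwz⟩ : ∃ w ∈ D.line x y, z ≠ w := by
      rcases eq_or_ne z x with rfl | h
      · exact ⟨y, D.right_mem_line _ _, hxy⟩
      · exact ⟨x, D.left_mem_line _ _, h⟩
    have h1 : ((univ : Finset Q).filter fun B => D.pt B ∩ D.line x y = {z}) = D.bl z \ D.bl w := by
      ext B
      simp only [mem_filter, mem_univ, true_and, mem_sdiff, mem_bl]
      constructor
      · intro h
        refine ⟨?_, fun hwB => hwz ?_⟩
        · have : z ∈ D.pt B ∩ D.line x y := h ▸ mem_singleton_self z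
          exact D.mem_pt.1 (mem_inter.1 this).1
        · have : w ∈ D.pt B ∩ D.line x y := mem_inter.2 ⟨D.mem_pt.2 hwB, hw⟩
          rw [h, mem_singleton] at this
          exact this.symm
      · rintro ⟨hzB, hwB⟩
        refine eq_singleton_iff_unique_mem.2 ⟨mem_inter.2 ⟨D.mem_pt.2 hzB, hz⟩, fun v hv => ?_⟩
        rw [mem_inter, D.mem_pt] at hv
        by_contra hvz
        exact hwB (D.line_subset_block hxy hvz hv.2 hz hv.1 hzB w hw)
    rw [h1, card_sdiff, D.card_bl, inter_comm, D.card_bl_inter hwz]
  rw [← smul_eq_mul, ← sum_const, ← sum_congr rfl key, ← card_biUnion]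
  · congr 1
    ext B
    simp only [mem_filter, mem_univ, true_and, mem_biUnion, card_eq_one]
    exact ⟨fun ⟨z, hz⟩ => ⟨z, (mem_inter.1 (hz ▸ mem_singleton_self z)).2, hz⟩, fun ⟨z, _, hz⟩ => ⟨z, hz⟩⟩
  · intro a _ b _ hab
    simp only [Function.onFun, disjoint_left, mem_filter, mem_univ, true_and]
    intro B ha hb
    exact hab (singleton_injective (ha.symm.trans hb))

theorem pt_inter_line [DecidableEq P] {x y : P} (hxy : x ≠ y) (B : Q) :
    (D.inc x B ∧ D.inc y B) ∨ (D.pt B ∩ D.line x y).card ≤ 1 := by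
  rcases le_or_gt (D.pt B ∩ D.line x y).card 1 with h | h
  · exact .inr h
  · obtain ⟨u, hu, v, hv, huv⟩ := one_lt_card.1 h
    rw [mem_inter, D.mem_pt] at hu hv
    have := D.line_subset_block hxy huv hu.2 hv.2 hu.1 hv.1
    exact .inl ⟨this x (D.left_mem_line _ _), this y (D.right_mem_line _ _)⟩

theorem line_mul_le {x y : P} (hxy : x ≠ y) :
    (D.line x y).card * (D.k - D.lam) + D.lam ≤ Fintype.card P := by
  classical
  rw [← D.card_tangent_blocks hxy, ← D.card_bl_inter hxy, ← card_union_of_disjoint, D.card_eq]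
  · exact card_le_univ _
  · rw [disjoint_left]
    intro B hB hB'
    rw [mem_inter, mem_bl, mem_bl] at hB'
    simp only [mem_filter, mem_univ, true_and] at hB
    exact hxy (card_le_one.1 hB.le x (mem_inter.2 ⟨D.mem_pt.2 hB'.1, D.left_mem_line _ _⟩) y
      (mem_inter.2 ⟨D.mem_pt.2 hB'.2, D.right_mem_line _ _⟩))

/-- Every line meets every block. -/
def Full : Prop := ∀ x y, x ≠ y → ∀ B, ∃ z, z ∈ D.line x y ∧ D.inc z B

theorem meets_iff {x y : P} (hxy : x ≠ y) :
    (∀ B, ∃ z, z ∈ D.line x y ∧ D.inc z B) ↔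
      (D.line x y).card * (D.k - D.lam) + D.lam = Fintype.card P := by
  classical
  have hd : Disjoint ((univ : Finset Q).filter fun B => (D.pt B ∩ D.line x y).card = 1)
      (D.bl x ∩ D.bl y) := by
    rw [disjoint_left]
    intro B hB hB'
    rw [mem_inter, mem_bl, mem_bl] at hB'
    simp only [mem_filter, mem_univ, true_and] at hB
    exact hxy (card_le_one.1 hB.le x (mem_inter.2 ⟨D.mem_pt.2 hB'.1, D.left_mem_line _ _⟩) y
      (mem_inter.2 ⟨D.mem_pt.2 hB'.2, D.right_mem_line _ _⟩))
  rw [← D.card_tangent_blocks hxy, ← D.card_bl_inter hxy, ← card_union_of_disjoint hd, D.card_eq,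
    card_eq_iff_eq_univ, eq_univ_iff_forall]
  refine forall_congr' fun B => ?_
  simp only [mem_union, mem_filter, mem_univ, true_and, mem_inter, mem_bl]
  constructor
  · rintro ⟨z, hz, hzB⟩
    rcases D.pt_inter_line hxy B with h | h
    · exact .inr h
    · have : 0 < (D.pt B ∩ D.line x y).card := card_pos.2 ⟨z, mem_inter.2 ⟨D.mem_pt.2 hzB, hz⟩⟩
      exact .inl (by omega)
  · rintro (h | h)
    · obtain ⟨z, hz⟩ := card_pos.1 (show 0 < (D.pt B ∩ D.line x y).card by omega)
      rw [mem_inter, D.mem_pt] at hz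
      exact ⟨z, hz.2, hz.1⟩
    · exact ⟨x, D.left_mem_line _ _, h.1⟩

theorem two_le_line {x y : P} (hxy : x ≠ y) : 2 ≤ (D.line x y).card :=
  one_lt_card.2 ⟨x, D.left_mem_line _ _, y, D.right_mem_line _ _, hxy⟩

end Des

end CfsgLib.SymDesign
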