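import Mathlib

/-!
# Characteristically simple groups covered by proper normal subgroups
-/

set_option autoImplicit false
set_option linter.unusedSectionVars false

namespace CfsgLib.SymDesign

open scoped Pointwise

variable {S : Type*} [Group S] [Finite S]

/-- A characteristically simple group covered by proper normal subgroups has prime power order. -/
theorem isPGroup_of_mem_proper [Nontrivial S]
    (hchar : ∀ M : Subgroup S, M.Characteristic → M = ⊥ ∨ M = ⊤)
    (hcov : ∀ h : S, ∃ N : Subgroup S, N.Normal ∧ h ∈ N ∧ N ≠ ⊤) :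
    ∃ p : ℕ, p.Prime ∧ IsPGroup p S := by
  classical
  by_cases hR : ∃ (p : ℕ) (R : Subgroup S), p.Prime ∧ R.Normal ∧ R ≠ ⊥ ∧ IsPGroup p R
  · obtain ⟨p, R, hp, hRn, hR1, hRp⟩ := hR
    haveI : Fact p.Prime := ⟨hp⟩
    refine ⟨p, hp, ?_⟩
    set M : Subgroup S := ⨅ P : Sylow p S, (P : Subgroup S) with hM
    have hM1 : M ≠ ⊥ := by
      refine ne_bot_of_le_ne_bot hR1 (le_iInf fun P => ?_)
      obtain ⟨P₀, hP₀⟩ := hRp.exists_le_sylow
      obtain ⟨g, hg⟩ := MulAction.exists_smul_eq S P₀ P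
      intro x hx
      rw [← hg, Sylow.smul_def, Sylow.pointwise_smul_def, Subgroup.mem_pointwise_smul_iff_inv_smul_mem]
      exact hP₀ (by simpa [MulAut.conj_apply, MulAut.smul_def] using hRn.conj_mem x hx g⁻¹)
    have hMc : M.Characteristic := by
      refine Subgroup.characteristic_iff_map_le.2 fun φ => le_iInf fun P => ?_
      rintro _ ⟨x, hx, rfl⟩
      have := Subgroup.mem_iInf.1 hx ((φ : MulAut S)⁻¹ • P)
      rw [Sylow.pointwise_smul_def, Subgroup.mem_pointwise_smul_iff_inv_smul_mem, inv_inv] at this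
      exact this
    rcases hchar M hMc with h | h
    · exact absurd h hM1
    · obtain ⟨P⟩ := (inferInstance : Nonempty (Sylow p S))
      have : (P : Subgroup S) = ⊤ := top_le_iff.1 (h ▸ iInf_le _ P)
      exact IsPGroup.of_equiv (this ▸ P.isPGroup') Subgroup.topEquiv
  exfalso
  push Not at hR
  let Min : Set (Subgroup S) := {T | T.Normal ∧ T ≠ ⊥ ∧ ∀ U : Subgroup S, U.Normal → U ≤ T → U = ⊥ ∨ U = T}
  have hexmin : Min.Nonempty := by
    obtain ⟨T, hT, hmin⟩ := (Set.toFinite {T : Subgroup S | T.Normal ∧ T ≠ ⊥}).exists_minimal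
      ⟨⊤, inferInstance, top_ne_bot⟩
    refine ⟨T, hT.1, hT.2, fun U hU hUT => ?_⟩
    by_contra hcon
    push Not at hcon
    exact hcon.2 (le_antisymm hUT (hmin ⟨hU, hcon.1⟩ hUT))
  have hsoc : sSup Min = ⊤ := by
    refine (hchar _ (Subgroup.characteristic_iff_map_le.2 fun φ => ?_)).resolve_left ?_
    · rw [Subgroup.map_le_iff_le_comap]
      refine sSup_le fun T hT => ?_
      rw [← Subgroup.map_le_iff_le_comap]
      refine le_sSup ⟨hT.1.map _ φ.surjective, ?_, fun U hU hUT => ?_⟩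
      · rw [Ne, Subgroup.map_eq_bot_iff_of_injective _ φ.injective]; exact hT.2.1
      · have hUc : (U.comap φ.toMonoidHom).Normal := hU.comap _
        have hle : U.comap φ.toMonoidHom ≤ T :=
          (Subgroup.comap_mono hUT).trans_eq (Subgroup.comap_map_eq_self_of_injective φ.injective _)
        have hback : (U.comap φ.toMonoidHom).map φ.toMonoidHom = U :=
          Subgroup.map_comap_eq_self_of_surjective φ.surjective U
        rcases hT.2.2 _ hUc hle with h | h
        · left; rw [← hback, h, Subgroup.map_bot]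
        · right; rw [← hback, h]
    · obtain ⟨T, hT⟩ := hexmin
      exact ne_bot_of_le_ne_bot hT.2.1 (le_sSup hT)
  have hnab : ∀ T ∈ Min, ∃ a ∈ T, ∃ b ∈ T, a * b ≠ b * a := by
    intro T hT
    by_contra hcon
    push Not at hcon
    obtain ⟨p, hp, hpd⟩ := Nat.exists_prime_and_dvd
      (show Nat.card T ≠ 1 from fun h => hT.2.1 (Subgroup.card_eq_one.1 h))
    haveI : Fact p.Prime := ⟨hp⟩
    let R : Subgroup S :=
      { carrier := {t | t ∈ T ∧ t ^ p = 1}
        one_mem' := ⟨T.one_mem, one_pow _⟩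
        mul_mem' := fun {a b} ha hb => ⟨T.mul_mem ha.1 hb.1, by
          rw [Commute.mul_pow (hcon a ha.1 b hb.1), ha.2, hb.2, one_mul]⟩
        inv_mem' := fun {a} ha => ⟨T.inv_mem ha.1, by rw [inv_pow, ha.2, inv_one]⟩ }
    have hRn : R.Normal := ⟨fun t ht g => ⟨hT.1.conj_mem t ht.1 g, by
      rw [conj_pow, ht.2, mul_one, mul_inv_cancel]⟩⟩
    obtain ⟨t, ht⟩ := exists_prime_orderOf_dvd_card' p hpd
    refine hR p R hp hRn ?_ fun r => ⟨1, Subtype.ext (by rw [pow_one]; exact r.2.2)⟩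
    intro h
    have htR : (t : S) ∈ R := ⟨t.2, by rw [← Subgroup.coe_pow, ← ht, pow_orderOf_eq_one]; rfl⟩
    rw [h, Subgroup.mem_bot] at htR
    have h1 : t = 1 := Subtype.ext htR
    rw [h1, orderOf_one] at ht
    exact hp.ne_one ht.symm
  obtain ⟨h, hh⟩ := Finite.exists_max fun h : S => Nat.card (Subgroup.normalClosure ({h} : Set S))
  set N := Subgroup.normalClosure ({h} : Set S) with hN
  obtain ⟨M, hMn, hhM, hMtop⟩ := hcov h
  haveI := hMn
  have hNtop : N ≠ ⊤ := fun e => hMtop (top_le_iff.1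
    (e ▸ Subgroup.normalClosure_le_normal (Set.singleton_subset_iff.2 hhM)))
  obtain ⟨T, hT, hTN⟩ : ∃ T ∈ Min, ¬ T ≤ N := by
    by_contra hcon
    push Not at hcon
    exact hNtop (top_le_iff.1 (hsoc ▸ sSup_le hcon))
  haveI := hT.1
  have hinf : N ⊓ T = ⊥ :=
    (hT.2.2 _ (Subgroup.normal_inf_normal N T) inf_le_right).resolve_right
      fun e => hTN (e ▸ inf_le_left)
  obtain ⟨a, ha, b, hb, hab⟩ := hnab T hT
  have hhb : h * b = b * h := Subgroup.commute_of_normal_of_disjoint N T inferInstance hT.1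
    (disjoint_iff.2 hinf) h b (Subgroup.subset_normalClosure rfl) hb
  set N' := Subgroup.normalClosure ({h * a} : Set S) with hN'
  have hha : h * a ∈ N' := Subgroup.subset_normalClosure rfl
  have hcomm : a * b * a⁻¹ * b⁻¹ ∈ N' ⊓ T := by
    refine ⟨?_, T.mul_mem (T.mul_mem (T.mul_mem ha hb) (T.inv_mem ha)) (T.inv_mem hb)⟩
    have h1 : (h * a) * (b * (h * a)⁻¹ * b⁻¹) ∈ N' :=
      N'.mul_mem hha (Subgroup.normalClosure_normal.conj_mem _ (N'.inv_mem hha) b)
    have hha' : h * a = a * h := Subgroup.commute_of_normal_of_disjoint N T inferInstance hT.1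
      (disjoint_iff.2 hinf) h a (Subgroup.subset_normalClosure rfl) ha
    have h2 : (h * a) * (b * (h * a)⁻¹ * b⁻¹) = a * b * a⁻¹ * b⁻¹ := by
      rw [hha', mul_inv_rev, show a * h * (b * (h⁻¹ * a⁻¹) * b⁻¹) = a * (h * b * h⁻¹) * a⁻¹ * b⁻¹ by group,
        hhb]
      group
    rwa [h2] at h1
  have hTN' : T ≤ N' := by
    refine ((hT.2.2 _ (Subgroup.normal_inf_normal N' T) inf_le_right).resolve_left
      fun e => ?_) ▸ inf_le_left
    rw [e, Subgroup.mem_bot, mul_inv_eq_one, mul_inv_eq_iff_eq_mul] at hcomm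
    exact hab hcomm
  have hhN' : h ∈ N' := by
    have := N'.mul_mem hha (N'.inv_mem (hTN' ha))
    rwa [mul_inv_cancel_right] at this
  have hlt : N < N' := lt_of_le_of_ne (Subgroup.normalClosure_le_normal (Set.singleton_subset_iff.2 hhN'))
    fun e => hTN (e ▸ hTN')
  exact absurd (hh (h * a)) (not_le.2 (Set.ncard_lt_ncard hlt (Set.toFinite _)))

end CfsgLib.SymDesign
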