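import Cfsg.Agent.Lib.SymDesign.Basic

/-!
# The design of a subgroup of index equal to the degree

The orbit theorem: an automorphism of a symmetric design fixes as many points as blocks.
-/

set_option autoImplicit false
set_option linter.unusedSectionVars false
set_option linter.style.haveILetI false

namespace CfsgLib.SymDesign

open Finset Matrix

variable {G P Q : Type*} [Group G] [MulAction G P] [MulAction G Q] [Fintype P] [Fintype Q]

/-- The group acts by automorphisms of the incidence relation. -/
def Compat (G : Type*) {P Q : Type*} [Group G] [MulAction G P] [MulAction G Q]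
    (inc : P → Q → Prop) : Prop :=
  ∀ (g : G) (x : P) (B : Q), inc (g • x) (g • B) ↔ inc x B

open Classical in
/-- The incidence matrix. -/
noncomputable def incMat (inc : P → Q → Prop) : Matrix P Q ℚ :=
  Matrix.of fun x B => if inc x B then 1 else 0

open Classical in
theorem incMat_mul_transpose_apply (inc : P → Q → Prop) (x y : P) :
    (incMat inc * (incMat inc)ᵀ) x y = (Nat.card {B // inc x B ∧ inc y B} : ℚ) := by
  rw [Matrix.mul_apply, Nat.card_eq_fintype_card, Fintype.card_subtype, ← sum_boole]
  refine sum_congr rfl fun B _ => ?_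
  simp only [incMat, transpose_apply, of_apply]
  split_ifs <;> simp_all

open Classical in
theorem transpose_mul_incMat_apply (inc : P → Q → Prop) (B C : Q) :
    ((incMat inc)ᵀ * incMat inc) B C = (Nat.card {x // inc x B ∧ inc x C} : ℚ) := by
  rw [Matrix.mul_apply, Nat.card_eq_fintype_card, Fintype.card_subtype, ← sum_boole]
  refine sum_congr rfl fun B _ => ?_
  simp only [incMat, transpose_apply, of_apply]
  split_ifs <;> simp_all

open Classical in
/-- The incidence matrix of a pairwise balanced square structure has a right inverse. -/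
theorem exists_right_inv {inc : P → Q → Prop} {k lam : ℕ} (hblks : ∀ x, Nat.card {B // inc x B} = k)
    (hpair : ∀ x y, x ≠ y → Nat.card {B // inc x B ∧ inc y B} = lam) (hlt : lam < k)
    (hid : (lam : ℤ) * ((Fintype.card P : ℤ) - 1) = (k : ℤ) * ((k : ℤ) - 1)) :
    incMat inc * (incMat inc)ᵀ =
        ((k : ℚ) - lam) • (1 : Matrix P P ℚ) + (lam : ℚ) • (Matrix.of fun _ _ => 1) ∧
      ∃ R : Matrix Q P ℚ, incMat inc * R = 1 := by
  set N := incMat inc with hN
  set n := Fintype.card P
  let J : Matrix P P ℚ := Matrix.of fun _ _ => 1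
  have hNN : N * Nᵀ = ((k : ℚ) - lam) • (1 : Matrix P P ℚ) + (lam : ℚ) • J := by
    ext x y
    rw [hN, incMat_mul_transpose_apply]
    rcases eq_or_ne x y with rfl | h
    · simp only [and_self, hblks x]; simp [J]
    · rw [hpair x y h]; simp [h, J]
  refine ⟨hNN, Nᵀ * ((((k : ℚ) - lam) * (k : ℚ) ^ 2)⁻¹ •
    ((k : ℚ) ^ 2 • (1 : Matrix P P ℚ) - (lam : ℚ) • J)), ?_⟩
  rw [← Matrix.mul_assoc, hNN, Matrix.mul_smul, Matrix.add_mul, Matrix.mul_sub, Matrix.mul_sub]
  have hlt' : (lam : ℚ) < k := by exact_mod_cast hlt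
  have hk0 : (k : ℚ) ≠ 0 := by exact_mod_cast (show k ≠ 0 by omega)
  have hid' : (lam : ℚ) * ((n : ℚ) - 1) = k * ((k : ℚ) - 1) := by exact_mod_cast hid
  have hJJ : J * J = (n : ℚ) • J := by
    ext x y; simp [Matrix.mul_apply, J, n]
  simp only [Matrix.smul_mul, Matrix.mul_smul, Matrix.one_mul, Matrix.mul_one, hJJ, smul_smul]
  ext x y
  simp only [Matrix.smul_apply, Matrix.add_apply, Matrix.sub_apply, smul_eq_mul, of_apply, J,
    Matrix.one_apply]
  rw [inv_mul_eq_iff_eq_mul₀ (mul_ne_zero (sub_ne_zero.2 hlt'.ne') (pow_ne_zero 2 hk0))]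
  split_ifs <;> linear_combination -(lam : ℚ) * hid'

open Classical in
/-- Square incidence structures with constant row, column and pair counts are symmetric designs. -/
theorem exists_des {inc : P → Q → Prop} {k lam : ℕ} (hcard : Fintype.card P = Fintype.card Q)
    (hpts : ∀ B, Nat.card {x // inc x B} = k) (hblks : ∀ x, Nat.card {B // inc x B} = k)
    (hpair : ∀ x y, x ≠ y → Nat.card {B // inc x B ∧ inc y B} = lam) (hk : 2 ≤ k)
    (hk' : k + 2 ≤ Fintype.card P) (hid : lam * (Fintype.card P - 1) = k * (k - 1)) :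
    ∀ B C, B ≠ C → Nat.card {x // inc x B ∧ inc x C} = lam := by
  set N := incMat inc with hN
  set n := Fintype.card P with hn
  have hid' : (lam : ℚ) * ((n : ℚ) - 1) = k * ((k : ℚ) - 1) := by
    have h := congrArg (Nat.cast (R := ℚ)) hid
    push_cast [Nat.cast_sub (show 1 ≤ n by omega), Nat.cast_sub (show 1 ≤ k by omega)] at h
    exact h
  let o : ℚ := (k : ℚ) - lam
  have hlt : lam < k := by
    by_contra h
    have : k * (n - 1) ≤ k * (k - 1) := hid ▸ Nat.mul_le_mul_right _ (not_lt.1 h)
    have := Nat.le_of_mul_le_mul_left this (by omega)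
    omega
  have ho : o ≠ 0 := sub_ne_zero.2 (by exact_mod_cast Nat.ne_of_gt hlt)
  let JP : Matrix P P ℚ := Matrix.of fun _ _ => 1
  let JPQ : Matrix P Q ℚ := Matrix.of fun _ _ => 1
  let JQ : Matrix Q Q ℚ := Matrix.of fun _ _ => 1
  obtain ⟨hNN, R, hR⟩ := exists_right_inv hblks hpair hlt (by
    zify [show 1 ≤ n by omega, show 1 ≤ k by omega] at hid
    exact hid)
  have hJN : JP * N = (k : ℚ) • JPQ := by
    ext x B
    simp only [Matrix.mul_apply, JP, JPQ, hN, incMat, of_apply, Matrix.smul_apply, smul_eq_mul,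
      mul_one, one_mul, sum_boole]
    rw [← hpts B, Nat.card_eq_fintype_card, Fintype.card_subtype]
  have hNJ : N * JQ = (k : ℚ) • JPQ := by
    ext x B
    simp only [Matrix.mul_apply, JQ, JPQ, hN, incMat, of_apply, Matrix.smul_apply, smul_eq_mul,
      mul_one, sum_boole]
    rw [← hblks x, Nat.card_eq_fintype_card, Fintype.card_subtype]
  have hleft : R * N = 1 :=
    (Matrix.mul_eq_one_comm_of_equiv (Fintype.equivOfCardEq hcard)).1 hR
  have hY : N * (Nᵀ * N - o • (1 : Matrix Q Q ℚ) - (lam : ℚ) • JQ) = 0 := by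
    rw [Matrix.mul_sub, Matrix.mul_sub, ← Matrix.mul_assoc, hNN, Matrix.add_mul, Matrix.smul_mul,
      Matrix.one_mul, Matrix.smul_mul, hJN, Matrix.mul_smul, Matrix.mul_one, Matrix.mul_smul, hNJ]
    abel
  have hY' : Nᵀ * N - o • (1 : Matrix Q Q ℚ) - (lam : ℚ) • JQ = 0 := by
    have h := congrArg (R * ·) hY
    simp only [← Matrix.mul_assoc R N, hleft, Matrix.one_mul, Matrix.mul_zero] at h
    exact h
  intro B C hBC
  have h := congrFun (congrFun hY' B) C
  simp only [Matrix.sub_apply, Matrix.smul_apply, Matrix.one_apply_ne hBC, smul_zero, sub_zero,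
    Matrix.zero_apply, JQ, of_apply, smul_eq_mul, mul_one, hN, transpose_mul_incMat_apply] at h
  exact_mod_cast (show (Nat.card {x // inc x B ∧ inc x C} : ℚ) = lam by linarith)

namespace Des

variable (D : Des P Q)

open Classical in
/-- The orbit theorem. -/
theorem fix_card (hc : Compat G D.inc) (g : G) :
    ((univ : Finset P).filter fun x => g • x = x).card =
      ((univ : Finset Q).filter fun B => g • B = B).card := by
  set N := incMat D.inc with hN
  let A : Matrix P P ℚ := Matrix.of fun x y => if g • x = y then 1 else 0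
  let C : Matrix Q Q ℚ := Matrix.of fun B B' => if g • B = B' then 1 else 0
  have hAC : A * N = N * C := by
    ext x B
    simp only [Matrix.mul_apply, A, C, hN, incMat, of_apply, ite_mul, one_mul, zero_mul,
      Finset.sum_ite_eq, mem_univ, if_true]
    rw [Finset.sum_eq_single (g⁻¹ • B)]
    · rw [smul_inv_smul, if_pos rfl]
      have := hc g x (g⁻¹ • B)
      rw [smul_inv_smul] at this
      simp [this]
    · intro b _ hb
      have hb' : g • b ≠ B := fun h => hb (by rw [← h, inv_smul_smul])
      simp [hb']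
    · simp
  obtain ⟨-, R, hR⟩ := exists_right_inv D.blks D.pair_pts D.lam_lt D.ident_int
  have hl : R * N = 1 := (Matrix.mul_eq_one_comm_of_equiv (Fintype.equivOfCardEq D.card_eq)).1 hR
  have hA : A = N * C * R := by rw [← hAC, Matrix.mul_assoc, hR, Matrix.mul_one]
  have ht : A.trace = C.trace := by
    rw [hA, Matrix.trace_mul_comm, ← Matrix.mul_assoc, hl, Matrix.one_mul]
  simp only [Matrix.trace, Matrix.diag, A, C, of_apply, sum_boole] at ht
  exact_mod_cast ht

open Classical in
/-- Groups of automorphisms have as many orbits on points as on blocks. -/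
theorem orbits_card (hc : Compat G D.inc) (H : Subgroup G) [Finite G] :
    Nat.card (MulAction.orbitRel.Quotient H P) = Nat.card (MulAction.orbitRel.Quotient H Q) := by
  haveI := Fintype.ofFinite H
  haveI := Fintype.ofFinite (MulAction.orbitRel.Quotient H P)
  haveI := Fintype.ofFinite (MulAction.orbitRel.Quotient H Q)
  have h1 := MulAction.sum_card_fixedBy_eq_card_orbits_mul_card_group H P
  have h2 := MulAction.sum_card_fixedBy_eq_card_orbits_mul_card_group H Q
  have h3 : ∀ h : H, Fintype.card (MulAction.fixedBy P h) = Fintype.card (MulAction.fixedBy Q h) := by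
    intro h
    rw [← Set.toFinset_card, ← Set.toFinset_card]
    convert D.fix_card hc (h : G) using 2 <;> (ext; simp [Subgroup.smul_def])
  rw [sum_congr rfl (fun h _ => h3 h), h2] at h1
  rw [Nat.card_eq_fintype_card, Nat.card_eq_fintype_card]
  exact (Nat.eq_of_mul_eq_mul_right Fintype.card_pos h1).symm

end Des

end CfsgLib.SymDesign
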