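import Cfsg.Agent.Lib.Char.NatSL.Natural

/-!
# The field of a system of shears

Components of equal size with, between any two, a group of homomorphisms regular on the non-zero
elements, closed under inverses and composition, are lines over a finite field.
-/

set_option autoImplicit false
set_option linter.unusedSectionVars false

namespace CfsgLib.SymDesign

universe u

theorem hua_step {A : Type*} [AddCommGroup A] (Γ Δ : AddSubgroup (AddMonoid.End A))
    (hΓ : ∀ a ∈ Γ, a ≠ 0 → ∃ b ∈ Δ, a * b = 1 ∧ b * a = 1)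
    (hΔ : ∀ a ∈ Δ, a ≠ 0 → ∃ b ∈ Γ, a * b = 1 ∧ b * a = 1)
    {a b : AddMonoid.End A} (ha : a ∈ Γ) (hb : b ∈ Δ) : a * b * a ∈ Γ := by
  rcases eq_or_ne a 0 with rfl | ha0
  · simp
  rcases eq_or_ne b 0 with rfl | hb0
  · simp
  obtain ⟨c, hc, hbc, hcb⟩ := hΔ b hb hb0
  obtain ⟨a', ha', haa, ha'a⟩ := hΓ a ha ha0
  rcases eq_or_ne (c - a) 0 with h | h
  · rw [sub_eq_zero.1 h] at hcb
    rw [hcb, one_mul]; exact ha
  obtain ⟨d, hd, hcd, hdc⟩ := hΓ (c - a) (Γ.sub_mem hc ha) h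
  set z := a' + d with hz
  have hz1 : z * (a - a * b * a) = 1 := by
    have e : a - a * b * a = (c - a) * b * a := by rw [sub_mul, hcb, sub_mul, one_mul]
    have e1 : a' * ((c - a) * b * a) = 1 - b * a := by
      rw [← e, mul_sub, ha'a, ← mul_assoc, ← mul_assoc, ha'a, one_mul]
    have e2 : d * ((c - a) * b * a) = b * a := by
      rw [← mul_assoc, ← mul_assoc, hdc, one_mul]
    rw [e, hz, add_mul, e1, e2, sub_add_cancel]
  rcases eq_or_ne z 0 with hz0 | hz0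
  · rw [hz0, zero_mul] at hz1
    rw [← mul_one (a * b * a), ← hz1, mul_zero]
    exact Γ.zero_mem
  obtain ⟨w, hw, hzw, hwz⟩ := hΔ z (Δ.add_mem ha' hd) hz0
  have : a - a * b * a = w := by
    rw [← one_mul (a - a * b * a), ← hwz, mul_assoc, hz1, mul_one]
  have h2 : a * b * a = a - w := by rw [← this, sub_sub_cancel]
  rw [h2]
  exact Γ.sub_mem ha hw

/-- A system of shears comes from a finite field. -/
theorem exists_field {ι : Type*} {A : ι → Type u} [∀ i, AddCommGroup (A i)] [∀ i, Finite (A i)]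
    {i₀ i₁ : ι} (h01 : i₀ ≠ i₁) {p : ℕ} [Fact p.Prime] (hp : ∀ a : A i₀, p • a = 0)
    (S : ∀ i j, AddSubgroup (A i →+ A j)) (hnt : Nontrivial (A i₀))
    (hcard : ∀ i, Nat.card (A i) = Nat.card (A i₀))
    (hsurj : ∀ i j, i ≠ j → ∀ a : A i, a ≠ 0 → ∀ b : A j, ∃ σ ∈ S i j, σ a = b)
    (hinj : ∀ i j, i ≠ j → ∀ σ ∈ S i j, σ ≠ 0 → ∀ a, σ a = 0 → a = 0)
    (hinv : ∀ i j, i ≠ j → ∀ σ ∈ S i j, σ ≠ 0 → ∃ τ ∈ S j i, ∀ a, τ (σ a) = a)
    (hcomp : ∀ i j l, i ≠ j → j ≠ l → i ≠ l → ∀ σ ∈ S i j, ∀ τ ∈ S j l, τ.comp σ ∈ S i l) :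
    ∃ (F : Type) (_ : Field F) (_ : Fintype F) (ψ : ∀ i, F ≃+ A i),
      ∀ i j, i ≠ j → ∀ f : F, ∃ σ ∈ S i j, ∀ x, σ (ψ i x) = ψ j (f * x) := by
  classical
  have hp' := (Fact.out : p.Prime)
  have hne : ∀ i, Nontrivial (A i) := fun i =>
    Finite.one_lt_card_iff_nontrivial.1 (hcard i ▸ Finite.one_lt_card)
  have hcardS : ∀ i j, i ≠ j → Nat.card (S i j) = Nat.card (A i₀) := by
    intro i j hij
    haveI := hne i
    obtain ⟨a, ha⟩ := exists_ne (0 : A i)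
    rw [← hcard j]
    refine Nat.card_congr (Equiv.ofBijective (fun σ : S i j => (σ : A i →+ A j) a) ⟨fun σ τ h => ?_, fun b => ?_⟩)
    · by_contra hne'
      refine ha (hinj i j hij ((σ : A i →+ A j) - τ) ((S i j).sub_mem σ.2 τ.2)
        (sub_ne_zero.2 fun e => hne' (Subtype.ext e)) a ?_)
      rw [AddMonoidHom.sub_apply, sub_eq_zero]; exact h
    · obtain ⟨σ, hσ, e⟩ := hsurj i j hij a ha b
      exact ⟨⟨σ, hσ⟩, e⟩
  have htwo : ∀ i j, i ≠ j → ∀ σ ∈ S i j, σ ≠ 0 → ∃ τ ∈ S j i, τ ≠ 0 ∧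
      (∀ a, τ (σ a) = a) ∧ ∀ b, σ (τ b) = b := by
    intro i j hij σ hσ h0
    obtain ⟨τ, hτ, h1⟩ := hinv i j hij σ hσ h0
    have hτ0 : τ ≠ 0 := by
      intro e
      haveI := hne i
      obtain ⟨a, ha⟩ := exists_ne (0 : A i)
      exact ha (by rw [← h1 a, e, AddMonoidHom.zero_apply])
    refine ⟨τ, hτ, hτ0, h1, fun b => sub_eq_zero.1 (hinj j i hij.symm τ hτ hτ0 _ ?_)⟩
    rw [map_sub, h1, sub_self]
  have hpick : ∀ i j, i ≠ j → ∃ σ ∈ S i j, σ ≠ 0 := by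
    intro i j hij
    haveI := hne i
    obtain ⟨a, ha⟩ := exists_ne (0 : A i)
    haveI := hne j
    obtain ⟨b, hb⟩ := exists_ne (0 : A j)
    obtain ⟨σ, hσ, e⟩ := hsurj i j hij a ha b
    exact ⟨σ, hσ, fun h => hb (by rw [← e, h, AddMonoidHom.zero_apply])⟩
  obtain ⟨s, hs, hs0⟩ := hpick i₀ i₁ h01
  obtain ⟨s', hs', hs'0, hss, hss'⟩ := htwo i₀ i₁ h01 s hs hs0
  let mkΓ : (A i₀ →+ A i₁) →+ AddMonoid.End (A i₀) :=
    { toFun := fun σ => (s'.comp σ : AddMonoid.End (A i₀))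
      map_zero' := by ext a; exact map_zero s'
      map_add' := fun σ τ => by ext a; exact map_add s' (σ a) (τ a) }
  let mkΔ : (A i₁ →+ A i₀) →+ AddMonoid.End (A i₀) :=
    { toFun := fun τ => (τ.comp s : AddMonoid.End (A i₀))
      map_zero' := by ext a; rfl
      map_add' := fun σ τ => by ext a; rfl }
  set Γ := (S i₀ i₁).map mkΓ with hΓdef
  set Δ := (S i₁ i₀).map mkΔ with hΔdef
  have hΓinv : ∀ a ∈ Γ, a ≠ 0 → ∃ b ∈ Δ, a * b = 1 ∧ b * a = 1 := by
    rintro _ ⟨σ, hσ, rfl⟩ h0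
    obtain ⟨τ, hτ, -, e1, e2⟩ := htwo i₀ i₁ h01 σ hσ fun e => h0 (by rw [e, map_zero])
    refine ⟨_, ⟨τ, hτ, rfl⟩, ?_, ?_⟩ <;> ext a
    · show s' (σ (τ (s a))) = a
      rw [e2, hss]
    · show τ (s (s' (σ a))) = a
      rw [hss', e1]
  have hΔinv : ∀ a ∈ Δ, a ≠ 0 → ∃ b ∈ Γ, a * b = 1 ∧ b * a = 1 := by
    rintro _ ⟨τ, hτ, rfl⟩ h0
    obtain ⟨σ, hσ, -, e1, e2⟩ := htwo i₁ i₀ h01.symm τ hτ fun e => h0 (by rw [e, map_zero])
    refine ⟨_, ⟨σ, hσ, rfl⟩, ?_, ?_⟩ <;> ext a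
    · show τ (s (s' (σ a))) = a
      rw [hss', e2]
    · show s' (σ (τ (s a))) = a
      rw [e1, hss]
  have h1Γ : (1 : AddMonoid.End (A i₀)) ∈ Γ := ⟨s, hs, by ext a; exact hss a⟩
  have h1Δ : (1 : AddMonoid.End (A i₀)) ∈ Δ := ⟨s', hs', by ext a; exact hss a⟩
  have hΔΓ : Δ ≤ Γ := fun b hb => by
    have := hua_step Γ Δ hΓinv hΔinv h1Γ hb
    rwa [one_mul, mul_one] at this
  have hΓΔ : Γ ≤ Δ := fun b hb => by
    have := hua_step Δ Γ hΔinv hΓinv h1Δ hb
    rwa [one_mul, mul_one] at this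
  have hΓeq : Γ = Δ := le_antisymm hΓΔ hΔΓ
  have hcardΓ : Nat.card Γ = Nat.card (A i₀) := by
    rw [← hcardS i₀ i₁ h01]
    refine (Nat.card_congr ((S i₀ i₁).equivMapOfInjective mkΓ fun σ τ h => ?_).toEquiv).symm
    ext a
    have : s' (σ a) = s' (τ a) := DFunLike.congr_fun h a
    rw [← hss' (σ a), this, hss']
  have hunit : ∀ a ∈ Γ, a ≠ 0 → IsUnit a := fun a ha h0 => by
    obtain ⟨b, -, e1, e2⟩ := hΓinv a ha h0
    exact ⟨⟨a, b, e1, e2⟩, rfl⟩
  have key := CfsgLib.Char.NatSL.jordanEnd (p := p) hp Γ hcardΓ h1Γ hunit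
    fun a ha b hb => hua_step Γ Δ hΓinv hΔinv ha (hΓeq ▸ hb)
  let R : Subring (AddMonoid.End (A i₀)) :=
    { Γ with
      one_mem' := h1Γ
      mul_mem' := fun {a b} ha hb => (key a ha b hb).1 }
  letI : CommRing R := { (inferInstance : Ring R) with
    mul_comm := fun a b => Subtype.ext (key a a.2 b b.2).2 }
  haveI : Finite R := Finite.of_injective (fun r : R => ((r : AddMonoid.End (A i₀)) : A i₀ → A i₀))
    fun r r' h => Subtype.ext (DFunLike.coe_injective h)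
  haveI : Nontrivial R := ⟨⟨0, 1, fun h => by
    obtain ⟨a, ha⟩ := exists_ne (0 : A i₀)
    exact ha (DFunLike.congr_fun (congrArg Subtype.val h) a).symm⟩⟩
  haveI : NoZeroDivisors R := ⟨fun {a b} h => by
    by_contra hcon
    push Not at hcon
    have := (hunit a a.2 fun e => hcon.1 (Subtype.ext e)).mul_right_eq_zero.1 (congrArg Subtype.val h)
    exact hcon.2 (Subtype.ext this)⟩
  haveI : IsDomain R := NoZeroDivisors.to_isDomain R
  letI : Field R := (Finite.isField_of_domain R).toField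
  haveI : CharP R p := (CharP.charP_iff_prime_eq_zero hp').2 (Subtype.ext (AddMonoidHom.ext fun a => by
    show (((p : R) : AddMonoid.End (A i₀))) a = 0
    rw [show (((p : R) : AddMonoid.End (A i₀))) = (p : AddMonoid.End (A i₀)) from map_natCast R.subtype p,
      AddMonoid.End.natCast_apply, hp]))
  haveI := Fintype.ofFinite R
  obtain ⟨d, -, hd⟩ : ∃ d : ℕ+, p.Prime ∧ Fintype.card R = p ^ (d : ℕ) := by
    obtain ⟨d, h1, h2⟩ := FiniteField.card R p
    exact ⟨d, h1, h2⟩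
  let F := GaloisField p (d : ℕ)
  haveI : Fintype F := Fintype.ofFinite F
  have hFcard : Fintype.card F = Fintype.card R := by
    rw [← Nat.card_eq_fintype_card, GaloisField.card p (d : ℕ) d.ne_zero, hd]
  let e : F ≃+* R := FiniteField.ringEquivOfCardEq hFcard
  obtain ⟨w, hw⟩ := exists_ne (0 : A i₀)
  have hev : Function.Bijective fun f : F => ((e f : R) : AddMonoid.End (A i₀)) w := by
    letI := Fintype.ofFinite (A i₀)
    refine (Fintype.bijective_iff_injective_and_card _).2 ⟨fun f g h => ?_, ?_⟩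
    · by_contra hne'
      refine hw ?_
      obtain ⟨v, hv⟩ := (hunit _ (e (f - g)).2 fun h' =>
        hne' (sub_eq_zero.1 (e.map_eq_zero_iff.1 (Subtype.ext h')))).exists_left_inv
      rw [← show (v * ((e (f - g) : R) : AddMonoid.End (A i₀))) w = w by rw [hv]; rfl]
      show v ((((e (f - g) : R)) : AddMonoid.End (A i₀)) w) = 0
      rw [map_sub, show ((e f - e g : R) : AddMonoid.End (A i₀)) = (e f : R) - (e g : R) from R.subtype.map_sub _ _]
      show v ((((e f : R)) : AddMonoid.End (A i₀)) w - (((e g : R)) : AddMonoid.End (A i₀)) w) = 0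
      rw [show (((e f : R)) : AddMonoid.End (A i₀)) w = (((e g : R)) : AddMonoid.End (A i₀)) w from h,
        sub_self, map_zero]
    · letI := Fintype.ofFinite (A i₀)
      rw [hFcard, ← Nat.card_eq_fintype_card, ← Nat.card_eq_fintype_card]
      exact hcardΓ
  let ψ₀ : F ≃+ A i₀ := AddEquiv.ofBijective
    ({ toFun := fun f => ((e f : R) : AddMonoid.End (A i₀)) w
       map_zero' := by rw [map_zero]; rfl
       map_add' := fun f g => by rw [map_add]; rfl } : F →+ A i₀) hev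
  have hψ₀ : ∀ f x : F, ((e f : R) : AddMonoid.End (A i₀)) (ψ₀ x) = ψ₀ (f * x) := fun f x => by
    show ((e f : R) : AddMonoid.End (A i₀)) (((e x : R) : AddMonoid.End (A i₀)) w) =
      ((e (f * x) : R) : AddMonoid.End (A i₀)) w
    rw [map_mul]; rfl
  -- maps from the first two components
  have hL : ∀ i, i ≠ i₀ → ∃ (c : A i₀ →+ A i) (c' : A i →+ A i₀), (∀ a, c' (c a) = a) ∧ (∀ b, c (c' b) = b) ∧
      (∀ f : F, c.comp ((e f : R) : A i₀ →+ A i₀) ∈ S i₀ i) ∧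
      (∀ f : F, (((e f : R) : A i₀ →+ A i₀)).comp c' ∈ S i i₀) := by
    intro i hi
    have hup : ∀ f : F, s.comp ((e f : R) : A i₀ →+ A i₀) ∈ S i₀ i₁ := fun f => by
      obtain ⟨σ, hσ, hσe⟩ := (e f).2
      rw [← hσe]
      refine Eq.mpr (congrArg (fun z => z ∈ S i₀ i₁) (show _ = σ from AddMonoidHom.ext fun a => ?_)) hσ
      exact hss' _
    have hdown : ∀ f : F, (((e f : R) : A i₀ →+ A i₀)).comp s' ∈ S i₁ i₀ := fun f => by
      obtain ⟨τ, hτ, hτe⟩ := hΓΔ (e f).2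
      rw [← hτe]
      refine Eq.mpr (congrArg (fun z => z ∈ S i₁ i₀) (show _ = τ from AddMonoidHom.ext fun a => ?_)) hτ
      exact congrArg τ (hss' a)
    by_cases hi1 : i = i₁
    · subst hi1
      exact ⟨s, s', hss, hss', hup, hdown⟩
    obtain ⟨t, ht, ht0⟩ := hpick i₁ i (Ne.symm hi1)
    obtain ⟨t', ht', -, htt, htt'⟩ := htwo i₁ i (Ne.symm hi1) t ht ht0
    refine ⟨t.comp s, s'.comp t', fun a => ?_, fun b => ?_, fun f => ?_, fun f => ?_⟩
    · show s' (t' (t (s a))) = a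
      rw [htt, hss]
    · show t (s (s' (t' b))) = b
      rw [hss', htt']
    · rw [AddMonoidHom.comp_assoc]
      exact hcomp i₀ i₁ i h01 (Ne.symm hi1) (Ne.symm hi) _ (hup f) _ ht
    · rw [← AddMonoidHom.comp_assoc]
      exact hcomp i i₁ i₀ hi1 h01.symm hi _ ht' _ (hdown f)
  choose c c' hcc hcc' hcup hcdown using hL
  let ψ : ∀ i, F ≃+ A i := fun i =>
    if h : i = i₀ then h ▸ ψ₀ else
      ψ₀.trans { c i h with
        invFun := c' i h
        left_inv := hcc i h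
        right_inv := hcc' i h }
  have hψ0 : ψ i₀ = ψ₀ := by simp [ψ]
  have hψne : ∀ i (h : i ≠ i₀) x, ψ i x = c i h (ψ₀ x) := fun i h x => by simp [ψ, h]
  refine ⟨F, inferInstance, inferInstance, ψ, fun i j hij f => ?_⟩
  by_cases hi : i = i₀
  · subst hi
    refine ⟨_, hcup j hij.symm f, fun x => ?_⟩
    rw [hψ0, hψne j hij.symm]
    show c j _ (((e f : R) : AddMonoid.End (A i)) (ψ₀ x)) = _
    rw [hψ₀]
  by_cases hj : j = i₀
  · subst hj
    refine ⟨_, hcdown i hij f, fun x => ?_⟩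
    rw [hψ0, hψne i hij]
    show (((e f : R) : AddMonoid.End (A j))) (c' i _ (c i _ (ψ₀ x))) = _
    rw [hcc, hψ₀]
  refine ⟨_, hcomp i i₀ j hi (Ne.symm hj) hij _ (hcdown i hi 1) _ (hcup j hj f), fun x => ?_⟩
  rw [hψne i hi, hψne j hj]
  show c j hj (((e f : R) : AddMonoid.End (A i₀)) ((((e 1 : R) : AddMonoid.End (A i₀))) (c' i hi (c i hi (ψ₀ x))))) = _
  rw [hcc, hψ₀, hψ₀, one_mul]

end CfsgLib.SymDesign
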