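import Cfsg.Agent.Lib.SymDesign.Basic

/-!
# Designs in which all lines meet all blocks

If in the dual of a symmetric design all lines meet all blocks, then so they do in the design:
the first three moments of the triple intersection numbers are self-dual.
-/

set_option autoImplicit false
set_option linter.unusedSectionVars false
set_option linter.style.haveILetI false

namespace CfsgLib.SymDesign

open Finset

variable {P Q : Type*} [Fintype P] [Fintype Q] (D : Des P Q)

namespace Des

/-- The number of blocks through all points of a tuple. -/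
noncomputable def tup {m : ℕ} (T : Fin m → P) : ℕ := by
  classical exact ((univ : Finset Q).filter fun B => ∀ a, D.inc (T a) B).card

theorem tup_cast {m : ℕ} (T : Fin m → P) [∀ x B, Decidable (D.inc x B)] :
    (D.tup T : ℤ) = ∑ B, ∏ a, (if D.inc (T a) B then (1 : ℤ) else 0) := by
  classical
  rw [tup, card_filter, Nat.cast_sum]
  refine sum_congr rfl fun B _ => ?_
  rw [Fintype.prod_boole]
  split_ifs <;> simp_all

open Classical in
theorem moment (m j : ℕ) :
    ∑ T : Fin m → P, (D.tup T : ℤ) ^ j = ∑ S : Fin j → Q, (D.dual.tup S : ℤ) ^ m := by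
  simp only [tup_cast, Fintype.sum_pow]
  rw [sum_comm]
  refine sum_congr rfl fun S _ => sum_congr rfl fun T _ => ?_
  rw [prod_comm]
  rfl

open Classical in
theorem tup_zero (T : Fin 0 → P) : D.tup T = Fintype.card Q := by
  simp [tup, card_univ]

open Classical in
theorem tup_one (T : Fin 1 → P) : D.tup T = D.k := by
  rw [← D.card_bl (T 0), tup]
  congr 1
  ext B
  simp [mem_bl, Fin.forall_fin_one]

open Classical in
theorem tup_two (T : Fin 2 → P) : D.tup T = if T 0 = T 1 then D.k else D.lam := by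
  split_ifs with h
  · rw [← D.card_bl (T 0), tup]
    congr 1; ext B; simp [mem_bl, Fin.forall_fin_two, ← h]
  · rw [← D.card_bl_inter h, tup]
    congr 1; ext B; simp [mem_bl, Fin.forall_fin_two]

open Classical in
theorem moment_three (j : ℕ) (hj : j ≤ 3) :
    ∑ T : Fin 3 → P, (D.tup T : ℤ) ^ j = ∑ S : Fin 3 → Q, (D.dual.tup S : ℤ) ^ j := by
  let e : P ≃ Q := Fintype.equivOfCardEq D.card_eq
  rw [D.moment 3 j, ← D.moment j 3]
  show ∑ S : Fin j → Q, (D.dual.tup S : ℤ) ^ 3 = ∑ T : Fin j → P, (D.tup T : ℤ) ^ 3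
  rcases eq_or_ne j 3 with rfl | hj'
  · exact (D.moment 3 3).symm
  refine (Fintype.sum_equiv (Equiv.arrowCongr (Equiv.refl _) e) _ _ fun T => ?_).symm
  congr 2
  obtain rfl | rfl | rfl : j = 0 ∨ j = 1 ∨ j = 2 := by omega
  · rw [tup_zero, tup_zero, D.card_eq]
  · rw [tup_one, tup_one]; rfl
  · rw [tup_two, tup_two]
    simp only [Equiv.arrowCongr_apply, Equiv.refl_symm, Equiv.coe_refl, Function.comp_apply, id_eq,
      e.injective.eq_iff]
    rfl

open Classical in
theorem cubic_sum (c₀ c₁ c₂ c₃ : ℤ) :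
    ∑ T : Fin 3 → P, (c₀ + c₁ * (D.tup T : ℤ) + c₂ * (D.tup T : ℤ) ^ 2 + c₃ * (D.tup T : ℤ) ^ 3) =
      ∑ S : Fin 3 → Q,
        (c₀ + c₁ * (D.dual.tup S : ℤ) + c₂ * (D.dual.tup S : ℤ) ^ 2 + c₃ * (D.dual.tup S : ℤ) ^ 3) := by
  have h1 := D.moment_three 1 (by omega)
  have h2 := D.moment_three 2 (by omega)
  have h3 := D.moment_three 3 le_rfl
  simp only [pow_one] at h1
  simp only [sum_add_distrib, ← mul_sum, h1, h2, h3, sum_const, card_univ, Fintype.card_pi,
    prod_const, D.card_eq]

variable {D}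

theorem Full.line_card (hF : D.Full) {x y : P} (hxy : x ≠ y) :
    ((D.line x y).card : ℤ) * ((D.k : ℤ) - D.lam) + D.lam = Fintype.card P := by
  have h := congrArg (Nat.cast (R := ℤ)) ((D.meets_iff hxy).1 (hF x y hxy))
  push_cast [Nat.cast_sub D.lam_lt.le] at h
  exact h

/-- In a full design lines have `q + 1` points, where `k = q * lam + 1`. -/
theorem Full.q_spec (hF : D.Full) {x y : P} (hxy : x ≠ y) :
    (((D.line x y).card : ℤ) - 1) * D.lam = (D.k : ℤ) - 1 := by
  have h1 := hF.line_card hxy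
  have h2 := D.ident_int
  have h3 : (D.k : ℤ) - D.lam ≠ 0 := by have := D.lam_lt; omega
  refine mul_right_cancel₀ h3 ?_
  linear_combination (D.lam : ℤ) * h1 + h2

/-- The blocks through three points not on a line. -/
theorem Full.mu [DecidableEq Q] (hF : D.Full) {x y z : P} (hxy : x ≠ y) (hz : z ∉ D.line x y) :
    (((D.line x y).card : ℤ) - 1) * ((D.bl x ∩ D.bl y ∩ D.bl z).card : ℤ) = (D.lam : ℤ) - 1 := by
  classical
  set L := D.line x y with hL
  set S := D.bl x ∩ D.bl y with hS
  set q : ℤ := (L.card : ℤ) - 1 with hq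
  let i : P → Q → ℤ := fun w B => if D.inc w B then 1 else 0
  let μ : P → ℤ := fun w => ∑ B ∈ S, i w B
  have hμ : ∀ w, μ w = ((S ∩ D.bl w).card : ℤ) := fun w => by
    simp only [μ, i, sum_boole]
    congr 2; ext B; simp [mem_bl]
  have hSc : (S.card : ℤ) = D.lam := by rw [hS, D.card_bl_inter hxy]
  have hLB : ∀ B ∈ S, L ⊆ D.pt B := fun B hB w hw => by
    rw [hS, mem_inter, mem_bl, mem_bl] at hB
    exact D.mem_pt.2 (D.mem_line.1 hw B hB.1 hB.2)
  have hone : ∀ B ∈ S, ∑ w ∈ univ \ L, i w B = (D.k : ℤ) - L.card := by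
    intro B hB
    simp only [i, sum_boole]
    rw [show ((univ \ L).filter fun w => D.inc w B) = D.pt B \ L by ext w; simp [mem_pt, and_comm],
      card_sdiff_of_subset (hLB B hB), Nat.cast_sub (card_le_card (hLB B hB)), D.card_pt]
  have htwo : ∀ B ∈ S, ∀ B' ∈ S, ∑ w ∈ univ \ L, i w B * i w B' =
      if B = B' then (D.k : ℤ) - L.card else (D.lam : ℤ) - L.card := by
    intro B hB B' hB'
    split_ifs with h
    · subst h
      rw [← hone B hB]
      exact sum_congr rfl fun w _ => by simp only [i]; split_ifs <;> simp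
    · have e : ∀ w, i w B * i w B' = if D.inc w B ∧ D.inc w B' then 1 else 0 := fun w => by
        simp only [i]; split_ifs <;> simp_all
      simp only [e, sum_boole]
      have hsub : L ⊆ D.pt B ∩ D.pt B' := fun w hw => mem_inter.2 ⟨hLB B hB hw, hLB B' hB' hw⟩
      rw [show ((univ \ L).filter fun w => D.inc w B ∧ D.inc w B') = (D.pt B ∩ D.pt B') \ L by
          ext w; simp [mem_pt, and_comm],
        card_sdiff_of_subset hsub, Nat.cast_sub (card_le_card hsub), D.card_pt_inter h]
  have hs1 : ∑ w ∈ univ \ L, μ w = (D.lam : ℤ) * ((D.k : ℤ) - L.card) := by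
    simp only [μ]
    rw [sum_comm, sum_congr rfl hone, sum_const, nsmul_eq_mul, hSc]
  have hs2 : ∑ w ∈ univ \ L, μ w ^ 2 = (D.lam : ℤ) * ((D.k : ℤ) - L.card) +
      (D.lam : ℤ) * ((D.lam : ℤ) - 1) * ((D.lam : ℤ) - L.card) := by
    simp only [μ, sq, sum_mul_sum]
    rw [sum_comm]
    have e : ∀ B ∈ S, ∑ w ∈ univ \ L, ∑ B' ∈ S, i w B * i w B' =
        ((D.k : ℤ) - L.card) + ((D.lam : ℤ) - 1) * ((D.lam : ℤ) - L.card) := by
      intro B hB
      rw [sum_comm, sum_congr rfl (htwo B hB), ← add_sum_erase _ _ hB, if_pos rfl,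
        sum_congr rfl (fun B' hB' => if_neg (ne_of_mem_erase hB').symm), sum_const, nsmul_eq_mul,
        card_erase_of_mem hB, Nat.cast_sub (card_pos.2 ⟨B, hB⟩), hSc, Nat.cast_one]
    rw [sum_congr rfl e, sum_const, nsmul_eq_mul, hSc]
    ring
  have hn : ((univ \ L).card : ℤ) = (Fintype.card P : ℤ) - L.card := by
    rw [card_sdiff_of_subset (subset_univ _), card_univ, Nat.cast_sub (card_le_univ _)]
  have hk : (D.k : ℤ) = q * D.lam + 1 := by have := hF.q_spec hxy; linarith
  have hL' : (L.card : ℤ) = q + 1 := by omega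
  have hnval : (Fintype.card P : ℤ) = q * D.k + 1 := by
    have h := hF.line_card hxy
    rw [← hL, hL', hk] at h
    rw [hk]; linarith
  have hzero : ∑ w ∈ univ \ L, (q * μ w - ((D.lam : ℤ) - 1)) ^ 2 = 0 := by
    have e : ∀ w, (q * μ w - ((D.lam : ℤ) - 1)) ^ 2 = q ^ 2 * μ w ^ 2 -
        2 * q * ((D.lam : ℤ) - 1) * μ w + ((D.lam : ℤ) - 1) ^ 2 := fun w => by ring
    simp only [e, sum_add_distrib, sum_sub_distrib, ← mul_sum, sum_const, nsmul_eq_mul, hs1, hs2, hn]
    rw [hnval, hL', hk]
    ring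
  have hzz : z ∈ univ \ L := mem_sdiff.2 ⟨mem_univ _, hz⟩
  have h := (sum_eq_zero_iff_of_nonneg fun w _ => sq_nonneg _).1 hzero z hzz
  rw [sq_eq_zero_iff, hμ, sub_eq_zero] at h
  exact h

open Classical in
/-- If all lines of the dual meet all blocks, so do the lines of the design. -/
theorem Full.of_dual (hF : D.dual.Full) : D.Full := by
  obtain ⟨B₀, C₀, hBC⟩ := Fintype.one_lt_card_iff.1
    (show 1 < Fintype.card Q by have := D.card_eq; have := D.add_two_le; omega)
  have hq0 := hF.q_spec hBC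
  set q : ℤ := ((D.dual.line B₀ C₀).card : ℤ) - 1 with hq
  change q * (D.lam : ℤ) = (D.k : ℤ) - 1 at hq0
  have hq1 : 1 ≤ q := by have := D.dual.two_le_line hBC; omega
  have hlam1 : (1 : ℤ) ≤ (D.lam : ℤ) := by exact_mod_cast D.lam_pos
  let f : ℕ → ℤ := fun m => (q * (m : ℤ) - ((D.lam : ℤ) - 1)) ^ 2 * ((D.lam : ℤ) - m)
  have hsame : ∑ T : Fin 3 → P, f (D.tup T) = ∑ S : Fin 3 → Q, f (D.dual.tup S) := by
    have h := D.cubic_sum (((D.lam : ℤ) - 1) ^ 2 * D.lam)
      (-(2 * q * ((D.lam : ℤ) - 1) * D.lam) - ((D.lam : ℤ) - 1) ^ 2)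
      (q ^ 2 * D.lam + 2 * q * ((D.lam : ℤ) - 1)) (-(q ^ 2))
    calc _ = _ := sum_congr rfl fun T _ => by simp only [f]; ring
      _ = _ := h
      _ = _ := sum_congr rfl fun T _ => by simp only [f]; ring
  let e : P ≃ Q := Fintype.equivOfCardEq D.card_eq
  let E : (Fin 3 → P) ≃ (Fin 3 → Q) := Equiv.arrowCongr (Equiv.refl _) e
  -- the value at a triple with repetition
  have hdeg : ∀ T : Fin 3 → P, ¬ Function.Injective T → D.tup T = D.dual.tup (E T) := by
    intro T hT
    have hE : ∀ a, E T a = e (T a) := fun a => rfl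
    obtain ⟨a, b, hab, hne⟩ : ∃ a b, T a = T b ∧ a ≠ b := by
      simpa [Function.Injective] using hT
    obtain ⟨c, hac, hcov⟩ := (show ∀ a b : Fin 3, a ≠ b →
      ∃ c, a ≠ c ∧ ∀ d, d = a ∨ d = b ∨ d = c by decide) a b hne
    have h1 : D.tup T = D.tup ![T a, T c] := by
      simp only [tup]
      congr 1; ext B
      simp only [mem_filter, mem_univ, true_and, Fin.forall_fin_two, Matrix.cons_val_zero,
        Matrix.cons_val_one]
      refine ⟨fun h => ⟨h a, h c⟩, fun h d => ?_⟩
      rcases hcov d with rfl | rfl | rfl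
      exacts [h.1, hab ▸ h.1, h.2]
    have h2 : D.dual.tup (E T) = D.dual.tup ![e (T a), e (T c)] := by
      simp only [tup]
      congr 1; ext B
      simp only [mem_filter, mem_univ, true_and, Fin.forall_fin_two, Matrix.cons_val_zero,
        Matrix.cons_val_one, hE]
      refine ⟨fun h => ⟨h a, h c⟩, fun h d => ?_⟩
      rcases hcov d with rfl | rfl | rfl
      exacts [h.1, hab ▸ h.1, h.2]
    rw [h1, h2, tup_two, tup_two]
    simp only [Matrix.cons_val_zero, Matrix.cons_val_one, e.injective.eq_iff]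
    rfl
  have hSzero : ∀ S : Fin 3 → Q, Function.Injective S → f (D.dual.tup S) = 0 := by
    intro S hS
    have h01 : S 0 ≠ S 1 := fun h => by simpa using hS h
    have ht : D.dual.tup S = (D.dual.bl (S 0) ∩ D.dual.bl (S 1) ∩ D.dual.bl (S 2)).card := by
      rw [tup]; congr 1; ext x
      simp [Fin.forall_fin_succ, mem_bl, and_assoc]
    by_cases hc : S 2 ∈ D.dual.line (S 0) (S 1)
    · have he : D.dual.bl (S 0) ∩ D.dual.bl (S 1) ⊆ D.dual.bl (S 2) := fun x hx => by
        rw [mem_inter, mem_bl, mem_bl] at hx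
        exact D.dual.mem_bl.2 (D.dual.mem_line.1 hc x hx.1 hx.2)
      rw [ht, inter_eq_left.2 he, D.dual.card_bl_inter h01]
      simp only [f]
      show _ * ((D.lam : ℤ) - (D.lam : ℤ)) = 0
      ring
    · have h := hF.mu h01 hc
      have hql : ((D.dual.line (S 0) (S 1)).card : ℤ) - 1 = q :=
        mul_right_cancel₀ (show (D.lam : ℤ) ≠ 0 by omega) ((hF.q_spec h01).trans hq0.symm)
      rw [hql] at h
      change q * _ = (D.lam : ℤ) - 1 at h
      simp only [f, ht, h, sub_self]
      ring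
  have hinjE : ∀ T, Function.Injective (E T) ↔ Function.Injective T := fun T =>
    show Function.Injective (e ∘ T) ↔ _ from e.injective.of_comp_iff T
  have hsum0 : ∑ T ∈ univ.filter (fun T : Fin 3 → P => Function.Injective T), f (D.tup T) = 0 := by
    rw [← sum_filter_add_sum_filter_not univ (fun T : Fin 3 → P => Function.Injective T),
      ← sum_filter_add_sum_filter_not univ (fun S : Fin 3 → Q => Function.Injective S),
      sum_eq_zero (s := univ.filter fun S : Fin 3 → Q => Function.Injective S)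
        (fun S hS => hSzero S (mem_filter.1 hS).2), zero_add] at hsame
    have : ∑ T ∈ univ.filter (fun T : Fin 3 → P => ¬ Function.Injective T), f (D.tup T) =
        ∑ S ∈ univ.filter (fun S : Fin 3 → Q => ¬ Function.Injective S), f (D.dual.tup S) := by
      refine sum_equiv E (fun T => ?_) fun T hT => by rw [hdeg T (mem_filter.1 hT).2]
      simp only [mem_filter, mem_univ, true_and, hinjE]
    linarith
  intro x y hxy
  rw [D.meets_iff hxy]
  set L := D.line x y with hL
  set S := D.bl x ∩ D.bl y with hS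
  let μ : P → ℕ := fun w => (S ∩ D.bl w).card
  have hSc : S.card = D.lam := D.card_bl_inter hxy
  set Z := univ \ ({x, y} : Finset P) with hZ
  have hval : ∀ z ∈ Z, (q * (μ z : ℤ) - ((D.lam : ℤ) - 1)) =
      if z ∈ L then q * (D.lam : ℤ) - ((D.lam : ℤ) - 1) else 0 := by
    intro z hz
    rw [hZ, mem_sdiff, mem_insert, mem_singleton] at hz
    have hμ : D.tup ![x, y, z] = μ z := by
      rw [tup]; simp only [μ, hS]; congr 1; ext B
      simp [Fin.forall_fin_succ, mem_bl, and_assoc]
    split_ifs with hzL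
    · have : S ⊆ D.bl z := fun B hB => by
        rw [hS, mem_inter, mem_bl, mem_bl] at hB
        exact D.mem_bl.2 (D.mem_line.1 hzL B hB.1 hB.2)
      simp only [μ, inter_eq_left.2 this, hSc]
    · have hlt : μ z < D.lam := by
        rw [← hSc]
        refine card_lt_card (Finset.ssubset_iff_subset_ne.2 ⟨inter_subset_left, fun heq => hzL ?_⟩)
        refine D.mem_line.2 fun B a b => ?_
        exact D.mem_bl.1 (inter_eq_left.1 heq (mem_inter.2 ⟨D.mem_bl.2 a, D.mem_bl.2 b⟩))
      have hinj : Function.Injective ![x, y, z] := by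
        intro a b
        fin_cases a <;> fin_cases b <;> simp_all [eq_comm]
      have hnn : ∀ T ∈ univ.filter (fun T : Fin 3 → P => Function.Injective T), 0 ≤ f (D.tup T) := by
        intro T hT
        refine mul_nonneg (sq_nonneg _) (sub_nonneg.2 (Int.ofNat_le.2 ?_))
        have h01 : T 0 ≠ T 1 := fun h => by simpa using (mem_filter.1 hT).2 h
        rw [← D.card_bl_inter h01, tup]
        refine card_le_card fun B hB => ?_
        rw [mem_filter] at hB
        exact mem_inter.2 ⟨D.mem_bl.2 (hB.2 0), D.mem_bl.2 (hB.2 1)⟩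
      have h0 := (sum_eq_zero_iff_of_nonneg hnn).1 hsum0 ![x, y, z] (mem_filter.2 ⟨mem_univ _, hinj⟩)
      simp only [f, hμ] at h0
      rcases mul_eq_zero.1 h0 with h | h
      · exact sq_eq_zero_iff.1 h
      · omega
  let i : P → Q → ℤ := fun w B => if D.inc w B then 1 else 0
  have hcount : ∑ z ∈ Z, (μ z : ℤ) = (D.lam : ℤ) * ((D.k : ℤ) - 2) := by
    have hone : ∀ B ∈ S, ∑ w ∈ Z, i w B = (D.k : ℤ) - 2 := by
      intro B hB
      rw [hS, mem_inter, mem_bl, mem_bl] at hB
      simp only [i, sum_boole]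
      have hsub : ({x, y} : Finset P) ⊆ D.pt B := by
        simp [insert_subset_iff, mem_pt, hB.1, hB.2]
      rw [show (Z.filter fun w => D.inc w B) = D.pt B \ {x, y} by ext w; simp [hZ, mem_pt, and_comm],
        card_sdiff_of_subset hsub, Nat.cast_sub (card_le_card hsub), D.card_pt, card_pair hxy]
      rfl
    calc ∑ z ∈ Z, (μ z : ℤ) = ∑ z ∈ Z, ∑ B ∈ S, i z B := sum_congr rfl fun w _ => by
          simp only [μ, i, sum_boole]
          congr 2; ext B; simp [mem_bl]
      _ = _ := by rw [sum_comm, sum_congr rfl hone, sum_const, nsmul_eq_mul, hSc]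
  have hsum := sum_congr rfl hval
  rw [← sum_filter, sum_const, sum_sub_distrib, ← mul_sum, hcount, sum_const, nsmul_eq_mul,
    nsmul_eq_mul] at hsum
  have hxyL : ({x, y} : Finset P) ⊆ L := by
    simp [insert_subset_iff, hL, D.left_mem_line, D.right_mem_line]
  have hZc : (Z.card : ℤ) = (Fintype.card P : ℤ) - 2 := by
    rw [hZ, card_sdiff_of_subset (subset_univ _), card_univ, Nat.cast_sub (card_le_univ _),
      card_pair hxy]
    rfl
  have hLc : ((Z.filter fun z => z ∈ L).card : ℤ) = (L.card : ℤ) - 2 := by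
    rw [show (Z.filter fun z => z ∈ L) = L \ {x, y} by ext w; simp [hZ, and_comm],
      card_sdiff_of_subset hxyL, Nat.cast_sub (card_le_card hxyL), card_pair hxy]
    rfl
  rw [hZc, hLc] at hsum
  have hk : (D.k : ℤ) = q * D.lam + 1 := by linarith
  have hnval : (Fintype.card P : ℤ) = q * D.k + 1 := by
    have h2 := D.ident_int
    have : ((Fintype.card P : ℤ) - 1) = q * D.k :=
      mul_left_cancel₀ (show (D.lam : ℤ) ≠ 0 by omega) (by
        rw [h2]; rw [show (D.k : ℤ) - 1 = q * D.lam by linarith]; ring)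
    linarith
  have hl : (L.card : ℤ) = q + 1 := by
    have hpos : q * (D.lam : ℤ) - ((D.lam : ℤ) - 1) ≠ 0 := by nlinarith
    have h : ((L.card : ℤ) - 2) * (q * (D.lam : ℤ) - ((D.lam : ℤ) - 1)) =
        (q - 1) * (q * (D.lam : ℤ) - ((D.lam : ℤ) - 1)) := by
      rw [← hsum, hnval, hk]; ring
    have := mul_right_cancel₀ hpos h
    linarith
  have hgoal : ((L.card * (D.k - D.lam) + D.lam : ℕ) : ℤ) = (Fintype.card P : ℤ) := by
    push_cast [Nat.cast_sub D.lam_lt.le]
    rw [hl, hnval, hk]; ring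
  exact_mod_cast hgoal

end Des

end CfsgLib.SymDesign
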