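import Cfsg.Agent.Lib.SymDesign.Regular

/-!
# A frame: independent centres and hyperplanes through an origin
-/

set_option autoImplicit false
set_option linter.unusedSectionVars false
set_option linter.style.haveILetI false

namespace CfsgLib.SymDesign

open Finset

variable {G P Q : Type*} [Group G] [MulAction G P] [MulAction G Q] [Fintype P] [Fintype Q]
  [Finite G] [FaithfulSMul G P] {D : Des P Q}

namespace Ito

variable (I : Ito G D)

include I

theorem stab_of_centre {c : P} {hc : D.inc c I.B₀} {B : Q} (hcB : D.inc c B) {h : G}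
    (hh : h ∈ I.El' c hc) : h • B = B := by
  classical
  suffices h⁻¹ • B = B by rw [← this, smul_inv_smul, this]
  symm
  refine D.ext_pt fun x hx => ?_
  refine (I.compat h x (h⁻¹ • B)).1 ?_
  rw [smul_inv_smul]
  by_cases hx0 : D.inc x I.B₀
  · rwa [((I.mem_El).1 hh.1).1 x hx0]
  · exact D.mem_line.1 (hh.2.2 x hx0) B hcB hx

theorem stab_iff {o : P} (ho : ¬ D.inc o I.B₀) {B : Q} (hoB : D.inc o B) {h : G}
    (hh : h ∈ I.El I.B₀) : h • B = B ↔ D.inc (h • o) B := by
  refine ⟨fun e => ?_, fun h' => ?_⟩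
  · have := (I.compat h o B).2 hoB
    rwa [e] at this
  · rcases eq_or_ne h 1 with rfl | h1
    · exact one_smul _ _
    obtain ⟨c, hc, hhc⟩ := I.exists_El' hh
    refine I.stab_of_centre (hc := hc) ?_ hhc
    have hco : c ≠ o := fun e => ho (e ▸ hc)
    have hne : o ≠ h • o := fun e => h1 (I.El_semi hh ho e.symm)
    have e1 := D.line_eq_of_mem_mem hco hne (D.right_mem_line _ _) (hhc.2.2 o ho)
    exact D.mem_line.1 (e1 ▸ D.left_mem_line c o) B hoB h'

theorem centre_of_stab {o : P} (ho : ¬ D.inc o I.B₀) {B : Q} (hoB : D.inc o B) {c : P}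
    {hc : D.inc c I.B₀} {h : G} (hh : h ∈ I.El' c hc) (h1 : h ≠ 1) (he : h • B = B) : D.inc c B := by
  have h' := (I.stab_iff ho hoB hh.1).1 he
  have hco : c ≠ o := fun e => ho (e ▸ hc)
  have hne : o ≠ h • o := fun e => h1 (I.El_semi hh.1 ho e.symm)
  have e1 := D.line_eq_of_mem_mem hco hne (D.right_mem_line _ _) (hh.2.2 o ho)
  exact D.mem_line.1 (e1 ▸ D.left_mem_line c o) B hoB h'

open Classical in
theorem card_stab {o : P} (ho : ¬ D.inc o I.B₀) {B : Q} (hoB : D.inc o B) :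
    Nat.card (I.El I.B₀ ⊓ MulAction.stabilizer G B : Subgroup G) = D.k - D.lam := by
  have hB : B ≠ I.B₀ := fun e => ho (e ▸ hoB)
  rw [← D.card_pt B, ← D.card_pt_inter hB, ← card_sdiff_add_card_inter (D.pt B) (D.pt I.B₀),
    Nat.add_sub_cancel, ← Fintype.card_coe, ← Nat.card_eq_fintype_card]
  refine Nat.card_congr (Equiv.ofBijective (fun h => ⟨(h : G) • o, ?_⟩) ⟨?_, ?_⟩)
  · rw [mem_sdiff, D.mem_pt, D.mem_pt]
    exact ⟨(I.stab_iff ho hoB h.2.1).1 h.2.2, I.El_out h.2.1 ho⟩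
  · intro a b hab
    have hab' : (a : G) • o = (b : G) • o := congrArg Subtype.val hab
    have := I.El_semi ((I.El I.B₀).mul_mem ((I.El I.B₀).inv_mem b.2.1) a.2.1) ho
      (by rw [mul_smul, hab', inv_smul_smul])
    exact Subtype.ext (inv_mul_eq_one.1 this).symm
  · rintro ⟨z, hz⟩
    rw [mem_sdiff, D.mem_pt, D.mem_pt] at hz
    obtain ⟨h, hh, rfl⟩ := I.El_regular ho hz.2
    exact ⟨⟨h, hh, (I.stab_iff ho hoB hh).2 hz.1⟩, rfl⟩

/-- A block through the origin is determined by its stabiliser in the elation group. -/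
theorem block_ext {o : P} (ho : ¬ D.inc o I.B₀) {B C : Q} (hoB : D.inc o B) (hoC : D.inc o C)
    (h : ∀ e ∈ I.El I.B₀, e • B = B → e • C = C) : B = C := by
  classical
  by_contra hne
  have hsub : D.pt B \ D.pt I.B₀ ⊆ D.pt B ∩ D.pt C := by
    intro z hz
    rw [mem_sdiff, D.mem_pt, D.mem_pt] at hz
    obtain ⟨e, he, rfl⟩ := I.El_regular ho hz.2
    rw [mem_inter, D.mem_pt, D.mem_pt]
    exact ⟨hz.1, (I.stab_iff ho hoC he).1 (h e he ((I.stab_iff ho hoB he).2 hz.1))⟩
  have hB : B ≠ I.B₀ := fun e => ho (e ▸ hoB)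
  have h1 := card_le_card hsub
  rw [D.card_pt_inter hne] at h1
  have h2 := card_sdiff_add_card_inter (D.pt B) (D.pt I.B₀)
  rw [D.card_pt, D.card_pt_inter hB] at h2
  obtain ⟨hq, hk, -⟩ := I.full.params
  have : 2 * D.lam ≤ D.q * D.lam := Nat.mul_le_mul_right _ hq
  omega

/-- The elations with centre on a line lie in the product of those of two of its points. -/
theorem El'_le_sup {o : P} (ho : ¬ D.inc o I.B₀) {c d x : P} (hc : D.inc c I.B₀) (hd : D.inc d I.B₀)
    (hx : D.inc x I.B₀) (hcd : c ≠ d) (hxl : x ∈ D.line c d) {f : G} (hf : f ∈ I.El' x hx) :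
    ∃ a ∈ I.El' c hc, ∃ b ∈ I.El' d hd, f = a * b := by
  rcases eq_or_ne f 1 with rfl | h1
  · exact ⟨1, Subgroup.one_mem _, 1, Subgroup.one_mem _, (one_mul 1).symm⟩
  rcases eq_or_ne x c with rfl | hxc
  · exact ⟨f, hf, 1, Subgroup.one_mem _, (mul_one f).symm⟩
  have hfo : ¬ D.inc (f • o) I.B₀ := I.El_out hf.1 ho
  have hoc : o ≠ c := fun e => ho (e ▸ hc)
  have hfc : f • o ≠ c := fun e => hfo (e ▸ hc)
  have hdL : d ∉ D.line o c := fun h =>
    hcd (D.meet_unique hoc (.inl ho) (D.right_mem_line _ _) h hc hd)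
  obtain ⟨w, hw, hwL⟩ := I.full.plane_meet (x := o) (y := d) (p := c)
    (show o ≠ d from fun e => ho (e ▸ hd))
    (fun h => hcd (D.meet_unique (show o ≠ d from fun e => ho (e ▸ hd)) (.inl ho) h
      (D.right_mem_line _ _) hc hd))
    hfc
    (fun B a b e => D.mem_line.1 (hf.2.2 o ho) B (D.mem_line.1 hxl B e b) a) (fun B _ _ e => e)
  have hwd : w ≠ d := by
    rintro rfl
    exact hcd (D.meet_unique hfc (.inl hfo) (D.right_mem_line _ _) hw hc hd)
  rw [D.line_comm o d] at hwL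
  obtain ⟨b, hb, rfl⟩ := I.El'_regular hd ho hwL hwd
  have hbo : ¬ D.inc (b • o) I.B₀ := I.El_out hb.1 ho
  have hcb : c ≠ b • o := fun e => hbo (e ▸ hc)
  have hmem : f • o ∈ D.line c (b • o) := by
    have e1 := D.line_eq_of_mem_mem hfc hcb (D.right_mem_line _ _) hw
    rw [e1]; exact D.left_mem_line _ _
  obtain ⟨a, ha, hab⟩ := I.El'_regular hc hbo hmem hfc
  refine ⟨a, ha, b, hb, ?_⟩
  have := I.El_semi ((I.El I.B₀).mul_mem ((I.El I.B₀).inv_mem ((I.El I.B₀).mul_mem ha.1 hb.1)) hf.1) ho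
    (by rw [mul_smul, ← hab, ← mul_smul a b, inv_smul_smul])
  exact (inv_mul_eq_one.1 this).symm

end Ito

/-- An origin, independent centres on the axis and the opposite hyperplanes through the origin. -/
structure Frame (I : Ito G D) where
  m : ℕ
  o : P
  out : ¬ D.inc o I.B₀
  b : Fin m → Q
  origin : ∀ i, D.inc o (b i)
  c : Fin m → P
  axis : ∀ i, D.inc (c i) I.B₀
  mem : ∀ i j, i ≠ j → D.inc (c i) (b j)
  notMem : ∀ i, ¬ D.inc (c i) (b i)
  sep : ∀ h ∈ I.El I.B₀, (∀ i, h • b i = b i) → h = 1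
  two_le : 2 ≤ m

theorem Ito.exists_frame (I : Ito G D) : Nonempty (Frame I) := by
  classical
  obtain ⟨o, ho⟩ := I.exists_outside I.B₀
  let good : Finset Q → Prop := fun S => S ⊆ D.bl o ∧ ∀ h ∈ I.El I.B₀, (∀ B ∈ S, h • B = B) → h = 1
  have hall : good (D.bl o) := by
    refine ⟨Subset.rfl, fun h hh hfix => ?_⟩
    by_contra h1
    have hne : o ≠ h • o := fun e => h1 (I.El_semi hh ho e.symm)
    have hsub : D.bl o ⊆ D.bl o ∩ D.bl (h • o) := fun B hB =>
      mem_inter.2 ⟨hB, D.mem_bl.2 ((I.stab_iff ho (D.mem_bl.1 hB) hh).1 (hfix B hB))⟩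
    have h2 := card_le_card hsub
    rw [D.card_bl, D.card_bl_inter hne] at h2
    have := D.lam_lt
    omega
  obtain ⟨S, hS, hmin⟩ := exists_min_image ((univ : Finset (Finset Q)).filter good) Finset.card
    ⟨D.bl o, mem_filter.2 ⟨mem_univ _, hall⟩⟩
  obtain ⟨hSo, hSsep⟩ := (mem_filter.1 hS).2
  have hex : ∀ B ∈ S, ∃ c, ∃ hc : D.inc c I.B₀, (∀ B' ∈ S, B' ≠ B → D.inc c B') ∧ ¬ D.inc c B := by
    intro B hB
    have hnot : ¬ good (S.erase B) := fun hg => by
      have := hmin _ (mem_filter.2 ⟨mem_univ _, hg⟩)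
      have := card_lt_card (erase_ssubset hB)
      omega
    simp only [good, not_and, not_forall] at hnot
    obtain ⟨h, hh, hfix, h1⟩ := hnot ((erase_subset _ _).trans hSo)
    obtain ⟨c, hc, hhc⟩ := I.exists_El' hh
    refine ⟨c, hc, fun B' hB' hne => I.centre_of_stab ho (D.mem_bl.1 (hSo hB')) hhc h1
      (hfix B' (mem_erase.2 ⟨hne, hB'⟩)), fun hcB => h1 (hSsep h hh fun B' hB' => ?_)⟩
    rcases eq_or_ne B' B with rfl | hne
    · exact I.stab_of_centre hcB hhc
    · exact hfix B' (mem_erase.2 ⟨hne, hB'⟩)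
  choose c hc hcmem hcnot using hex
  let e := S.equivFin.symm
  have hm : 2 ≤ S.card := by
    by_contra hcon
    rcases S.eq_empty_or_nonempty with rfl | ⟨B, hB⟩
    · exact I.El_ne_bot ((Subgroup.eq_bot_iff_forall _).2 fun h hh => hSsep h hh (by simp))
    · have hS1 : S = {B} := by
        refine (card_eq_one.1 (show S.card = 1 by have := card_pos.2 ⟨B, hB⟩; omega)).elim fun a ha => ?_
        rw [ha] at hB ⊢; rw [mem_singleton.1 hB]
      have h1 := I.card_stab ho (D.mem_bl.1 (hSo hB))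
      have h2 : (I.El I.B₀ ⊓ MulAction.stabilizer G B : Subgroup G) = ⊥ :=
        (Subgroup.eq_bot_iff_forall _).2 fun h hh => hSsep h hh.1 fun B' hB' => by
          rw [hS1, mem_singleton] at hB'
          exact hB' ▸ hh.2
      rw [h2, Subgroup.card_bot] at h1
      have := D.order_two_le
      omega
  exact ⟨{
    m := S.card
    o := o
    out := ho
    b := fun i => (e i : Q)
    origin := fun i => D.mem_bl.1 (hSo (e i).2)
    c := fun i => c (e i) (e i).2
    axis := fun i => hc (e i) (e i).2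
    mem := fun i j hij => hcmem (e i) (e i).2 (e j) (e j).2 fun h => hij (e.injective (Subtype.ext h)).symm
    notMem := fun i => hcnot (e i) (e i).2
    sep := fun h hh hfix => hSsep h hh fun B hB => by
      obtain ⟨i, hi⟩ := e.surjective ⟨B, hB⟩
      have := hfix i
      rwa [hi] at this
    two_le := hm }⟩

end CfsgLib.SymDesign
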