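import Cfsg.Agent.Lib.SymDesign.Pencil
import Cfsg.Agent.Lib.SymDesign.Cubic
import Cfsg.Agent.Lib.SymDesign.CharSimple

/-!
# A group fixing a block pointwise makes all lines meet all blocks
-/

set_option autoImplicit false
set_option linter.unusedSectionVars false
set_option linter.style.haveILetI false

namespace CfsgLib.SymDesign

open Finset

variable {G P Q : Type*} [Group G] [MulAction G P] [MulAction G Q] [Fintype P] [Fintype Q]
  {D : Des P Q}

/-- Automorphisms map lines to lines. -/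
theorem smul_mem_line (hc : Compat G D.inc) (g : G) {x y w : P} :
    g • w ∈ D.line (g • x) (g • y) ↔ w ∈ D.line x y := by
  simp only [Des.mem_line]
  constructor
  · intro h B a b
    exact (hc g w B).1 (h (g • B) ((hc g x B).2 a) ((hc g y B).2 b))
  · intro h B a b
    obtain ⟨B', rfl⟩ : ∃ B', g • B' = B := ⟨g⁻¹ • B, smul_inv_smul _ _⟩
    exact (hc g w B').2 (h B' ((hc g x B').1 a) ((hc g y B').1 b))

theorem card_line_smul [DecidableEq P] (hc : Compat G D.inc) (g : G) (x y : P) :
    (D.line (g • x) (g • y)).card = (D.line x y).card := by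
  rw [← card_image_of_injective (D.line x y) (MulAction.injective g)]
  congr 1
  ext w
  obtain ⟨v, rfl⟩ : ∃ v, g • v = w := ⟨g⁻¹ • w, smul_inv_smul _ _⟩
  rw [smul_mem_line hc, mem_image]
  exact ⟨fun h => ⟨v, h, rfl⟩, fun ⟨u, hu, he⟩ => MulAction.injective g he ▸ hu⟩

/-- A set stable under an element of prime order without fixed points there. -/
theorem dvd_card_of_moved {h : G} {p : ℕ} [Fact p.Prime] (hp : h ^ p = 1) (S : Finset P)
    (hinv : ∀ w, h • w ∈ S ↔ w ∈ S) (hmov : ∀ w ∈ S, h • w ≠ w) : p ∣ S.card := by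
  classical
  let σ : Equiv.Perm {w // w ∈ S} := (MulAction.toPerm h).subtypePerm fun w => hinv w
  have hσp : σ ^ p ^ 1 = 1 := by
    have hpow : ∀ (m : ℕ) (w : {w // w ∈ S}), ((σ ^ m) w : P) = (h ^ m) • (w : P) := by
      intro m
      induction m with
      | zero => intro w; simp
      | succ m ih => intro w; rw [pow_succ, pow_succ, mul_smul, Equiv.Perm.mul_apply, ih]; rfl
    rw [pow_one]
    ext w
    rw [hpow, hp, one_smul]; rfl
  have h1 := Equiv.Perm.card_compl_support_modEq hσp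
  have h2 : σ.support = univ := by
    refine eq_univ_of_forall fun w => Equiv.Perm.mem_support.2 fun e => hmov w.1 w.2 ?_
    exact congrArg Subtype.val e
  rw [h2, compl_univ, card_empty, Fintype.card_coe] at h1
  exact (Nat.modEq_zero_iff_dvd).1 h1.symm

section

variable [Finite G] [FaithfulSMul G P] (hc : Compat G D.inc)
include hc

/-- An element fixing a block and a further point makes all lines meet all blocks. -/
theorem full_of_fixed (htwo : ∀ x y x' y' : P, x ≠ y → x' ≠ y' → ∃ g : G, g • x = x' ∧ g • y = y')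
    {B : Q} {h : G} {p : ℕ} (hp : p.Prime) (hhp : h ^ p = 1) (h1 : h ≠ 1)
    (hfix : ∀ x, D.inc x B → h • x = x) {z : P} (hzB : ¬ D.inc z B) (hz : h • z = z) : D.Full := by
  classical
  haveI : Fact p.Prime := ⟨hp⟩
  have hB : h • B = B := (D.ext_pt fun x hx => by
    have := (hc h x B).2 hx
    rwa [hfix x hx] at this).symm
  have hinc : ∀ x, D.inc (h • x) B ↔ D.inc x B := fun x => by
    conv_lhs => rw [← hB]
    exact hc h x B
  have hmoved : ∀ C, h • C ≠ C → ∀ x, D.inc x C → D.inc x (h • C) → D.inc x B := by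
    intro C hC x a b
    have hCB : C ≠ B := fun e => hC (by rw [e, hB])
    have hsub : D.pt C ∩ D.pt B ⊆ D.pt C ∩ D.pt (h • C) := by
      intro y hy
      rw [mem_inter, D.mem_pt, D.mem_pt] at hy ⊢
      refine ⟨hy.1, ?_⟩
      have := (hc h y C).2 hy.1
      rwa [hfix y hy.2] at this
    have heq := eq_of_subset_of_card_le hsub (by rw [D.card_pt_inter hCB, D.card_pt_inter hC.symm])
    have : x ∈ D.pt C ∩ D.pt (h • C) := mem_inter.2 ⟨D.mem_pt.2 a, D.mem_pt.2 b⟩
    rw [← heq, mem_inter, D.mem_pt, D.mem_pt] at this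
    exact this.2
  have hfixbl : ∀ w, ¬ D.inc w B → h • w = w → ∀ C, D.inc w C → h • C = C := by
    intro w hw hw' C hwC
    by_contra hC
    refine hw (hmoved C hC w hwC ?_)
    have := (hc h w C).2 hwC
    rwa [hw'] at this
  have hline : ∀ w y, ¬ D.inc w B → h • w = w → h • y ≠ y → w ∈ D.line y (h • y) := by
    intro w y hw hw' hy
    have hyw : y ≠ w := fun e => hy (by rw [e]; exact hw')
    have hsub : D.bl y ∩ D.bl w ⊆ D.bl y ∩ D.bl (h • y) := by
      intro C hC
      rw [mem_inter, D.mem_bl, D.mem_bl] at hC ⊢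
      refine ⟨hC.1, ?_⟩
      have := (hc h y C).2 hC.1
      rwa [hfixbl w hw hw' C hC.2] at this
    have heq := eq_of_subset_of_card_le hsub
      (by rw [D.card_bl_inter hyw, D.card_bl_inter (Ne.symm hy)])
    refine D.mem_line.2 fun C a b => ?_
    have : C ∈ D.bl y ∩ D.bl (h • y) := mem_inter.2 ⟨D.mem_bl.2 a, D.mem_bl.2 b⟩
    rw [← heq, mem_inter, D.mem_bl, D.mem_bl] at this
    exact this.2
  -- only one further fixed point
  have huniq : ∀ w, ¬ D.inc w B → h • w = w → w = z := by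
    intro w hw hw'
    by_contra hwz
    obtain ⟨y, hy⟩ : ∃ y, h • y ≠ y := by
      by_contra hcon
      push Not at hcon
      exact h1 (FaithfulSMul.eq_of_smul_eq_smul fun x : P => by rw [hcon x, one_smul])
    have hall : ∀ v, ¬ D.inc v B → v ∈ D.line z w := by
      intro v hv
      by_cases hv' : h • v = v
      · rw [D.line_eq_of_mem_mem (Ne.symm hy) (Ne.symm hwz) (hline z y hzB hz hy) (hline w y hw hw' hy)]
        exact hline v y hv hv' hy
      · rw [D.line_eq_of_mem_mem (Ne.symm hv') (Ne.symm hwz) (hline z v hzB hz hv')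
          (hline w v hw hw' hv')]
        exact D.left_mem_line _ _
    have hcard : Fintype.card P - D.k ≤ (D.line z w).card := by
      rw [← D.card_pt B, ← card_compl]
      exact card_le_card fun v hv => hall v fun h' => mem_compl.1 hv (D.mem_pt.2 h')
    have hl := D.line_mul_le (Ne.symm hwz)
    have ho := D.order_two_le
    have hid := D.ident_int
    have hk := D.two_le
    have hn := D.add_two_le
    have hlam := D.lam_lt
    have h9 := le_trans (Nat.add_le_add_right (Nat.mul_le_mul_right (D.k - D.lam) hcard) D.lam) hl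
    have h10 := Int.ofNat_le.2 h9
    push_cast [Nat.cast_sub hlam.le, Nat.cast_sub (show D.k ≤ Fintype.card P by omega)] at h10
    have ho' : (2 : ℤ) ≤ (D.k : ℤ) - D.lam := by omega
    have hkey : ((D.k : ℤ) - D.lam) * ((Fintype.card P : ℤ) - 1) =
        (D.k : ℤ) * ((Fintype.card P : ℤ) - D.k) := by linear_combination -hid
    have h11 : (Fintype.card P : ℤ) - D.k ≤ 2 := by nlinarith
    nlinarith
  -- lines through the fixed point meet the block
  have hstab : ∀ y, h • y ≠ y → ∀ v, h • v ∈ D.line z y ↔ v ∈ D.line z y := by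
    intro y hy v
    have hyz : z ≠ y := fun e => hy (by rw [← e]; exact hz)
    have hzl := hline z y hzB hz hy
    have e1 : D.line z y = D.line y (h • y) := by
      rw [D.line_comm z y]
      exact D.line_eq_of_mem (Ne.symm hy) hyz.symm hzl
    have hhy : h • y ∈ D.line z y := e1 ▸ D.right_mem_line _ _
    have e2 : D.line z (h • y) = D.line z y :=
      D.line_eq_of_mem hyz (fun e => hyz (MulAction.injective h (hz.trans e))) hhy
    have := smul_mem_line hc h (x := z) (y := y) (w := v)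
    rwa [hz, e2] at this
  obtain ⟨x, hx⟩ : ∃ x, D.inc x B := by
    obtain ⟨x, hx⟩ := card_pos.1 (show 0 < (D.pt B).card by rw [D.card_pt]; have := D.two_le; omega)
    exact ⟨x, D.mem_pt.1 hx⟩
  have hzx : z ≠ x := fun e => hzB (e ▸ hx)
  set l := (D.line z x).card with hl
  have hlen : ∀ y, z ≠ y → (D.line z y).card = l := by
    intro y hy
    obtain ⟨g, hg1, hg2⟩ := htwo z x z y hzx hy
    rw [hl, ← card_line_smul hc g z x, hg1, hg2]
  have hmeet : ∀ y, z ≠ y → ∃ v, v ∈ D.line z y ∧ D.inc v B := by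
    intro y hy
    by_contra hcon
    push Not at hcon
    have hy' : h • y ≠ y := fun e => hy (huniq y (hcon y (D.right_mem_line _ _)) e).symm
    have hd1 : p ∣ ((D.line z y).erase z).card := by
      refine dvd_card_of_moved hhp _ (fun w => ?_) fun w hw e => ?_
      · simp only [mem_erase, hstab y hy', ne_eq]
        rw [smul_eq_iff_eq_inv_smul, inv_smul_eq_iff.2 hz.symm]
      · rw [mem_erase] at hw
        exact hw.1 (huniq w (hcon w hw.2) e)
    have hmemB : ∀ w ∈ D.line z x, D.inc w B → w = x := fun w hw hwB => by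
      by_contra hne
      exact hzB (D.line_subset_block hzx hne hw (D.right_mem_line _ _) hwB hx z (D.left_mem_line _ _))
    have hd2 : p ∣ (((D.line z x).erase z).erase x).card := by
      refine dvd_card_of_moved hhp _ (fun w => ?_) fun w hw e => ?_
      · simp only [mem_erase, ne_eq]
        rw [smul_eq_iff_eq_inv_smul, smul_eq_iff_eq_inv_smul, inv_smul_eq_iff.2 hz.symm,
          inv_smul_eq_iff.2 (hfix x hx).symm]
        have : h • w ∈ D.line z x ↔ w ∈ D.line z x := by
          have := smul_mem_line hc h (x := z) (y := x) (w := w)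
          rwa [hz, hfix x hx] at this
        rw [this]
      · rw [mem_erase, mem_erase] at hw
        exact hw.2.1 (huniq w (fun hwB => hw.1 (hmemB w hw.2.2 hwB)) e)
    rw [card_erase_of_mem (D.left_mem_line _ _), hlen y hy] at hd1
    rw [card_erase_of_mem (mem_erase.2 ⟨Ne.symm hzx, D.right_mem_line _ _⟩),
      card_erase_of_mem (D.left_mem_line _ _)] at hd2
    have h2l : 2 ≤ l := D.two_le_line hzx
    have hd3 := Nat.dvd_sub hd1 hd2
    rw [show l - 1 - (l - 1 - 1) = 1 by omega] at hd3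
    exact hp.ne_one (Nat.dvd_one.1 hd3)
  -- count
  have hcount : D.k * (l - 1) = Fintype.card P - 1 := by
    rw [← card_univ, ← card_erase_of_mem (mem_univ z),
      show (univ.erase z) = (D.pt B).biUnion (fun v => (D.line z v).erase z) from ?_, card_biUnion,
      sum_congr rfl (fun v hv => ?_), sum_const, D.card_pt, smul_eq_mul]
    · rw [card_erase_of_mem (D.left_mem_line _ _), hlen v fun e => hzB (e ▸ D.mem_pt.1 hv)]
    · intro u hu v hv huv
      simp only [Function.onFun, disjoint_left, mem_erase]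
      rintro w ⟨hwz, hwu⟩ ⟨-, hwv⟩
      rw [mem_coe, D.mem_pt] at hu hv
      have hzu : z ≠ u := fun e => hzB (e ▸ hu)
      have hzv : z ≠ v := fun e => hzB (e ▸ hv)
      have e1 := D.line_eq_of_mem hzu (Ne.symm hwz) hwu
      have e2 := D.line_eq_of_mem hzv (Ne.symm hwz) hwv
      have hvu : v ∈ D.line z u := by rw [← e1, e2]; exact D.right_mem_line _ _
      exact hzB (D.line_subset_block hzu huv (D.right_mem_line _ _) hvu hu hv z (D.left_mem_line _ _))
    · ext y
      simp only [mem_erase, mem_univ, and_true, mem_biUnion, D.mem_pt]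
      refine ⟨fun hy => ?_, fun ⟨v, _, hy, _⟩ => hy⟩
      obtain ⟨v, hv, hvB⟩ := hmeet y (Ne.symm hy)
      refine ⟨v, hvB, hy, ?_⟩
      have hzv : z ≠ v := fun e => hzB (e ▸ hvB)
      rw [D.line_eq_of_mem (Ne.symm hy) hzv hv]
      exact D.right_mem_line _ _
  intro u v huv
  rw [D.meets_iff huv]
  obtain ⟨g, hg1, hg2⟩ := htwo z x u v hzx huv
  rw [← hg1, ← hg2, card_line_smul hc]
  have hid := D.ident_int
  have h2l : 2 ≤ l := D.two_le_line hzx
  have hn := D.add_two_le
  have h12 := congrArg (Nat.cast (R := ℤ)) hcount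
  push_cast [Nat.cast_sub (show 1 ≤ l by omega), Nat.cast_sub (show 1 ≤ Fintype.card P by omega)] at h12
  have hlk : ((l : ℤ) - 1) * D.lam = (D.k : ℤ) - 1 := by
    refine mul_left_cancel₀ (show (D.k : ℤ) ≠ 0 by have := D.two_le; omega) ?_
    linear_combination (D.lam : ℤ) * h12 + hid
  have hgoal : (((D.line z x).card * (D.k - D.lam) + D.lam : ℕ) : ℤ) = (Fintype.card P : ℤ) := by
    push_cast [Nat.cast_sub D.lam_lt.le]
    linear_combination h12 - hlk
  exact_mod_cast hgoal

/-- A nontrivial group fixing a block pointwise, normal in the stabiliser of the block. -/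
theorem full_of_axis (htwo : ∀ x y x' y' : P, x ≠ y → x' ≠ y' → ∃ g : G, g • x = x' ∧ g • y = y')
    (hpairs : ∀ B C B' C' : Q, B ≠ C → B' ≠ C' → ∃ g : G, g • B = B' ∧ g • C = C')
    (B₀ : Q) (K : Subgroup G) (hK : K ≠ ⊥)
    (hnorm : ∀ g : G, g • B₀ = B₀ → ∀ h ∈ K, g * h * g⁻¹ ∈ K)
    (hfix : ∀ h ∈ K, ∀ x, D.inc x B₀ → h • x = x) : D.Full := by
  classical
  haveI := Fintype.ofFinite G
  by_cases hsemi : ∃ h ∈ K, h ≠ 1 ∧ ∃ z, ¬ D.inc z B₀ ∧ h • z = z
  · obtain ⟨h, hh, h1, z, hzB, hz⟩ := hsemi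
    obtain ⟨p, hp, hpd⟩ := Nat.exists_prime_and_dvd (show orderOf h ≠ 1 from
      fun e => h1 (orderOf_eq_one_iff.1 e))
    refine full_of_fixed hc htwo hp (h := h ^ (orderOf h / p)) ?_ ?_ (fun x hx => ?_) hzB ?_
    · rw [← pow_mul, Nat.div_mul_cancel hpd, pow_orderOf_eq_one]
    · intro e
      have hpos := orderOf_pos h
      have h3 := Nat.le_of_dvd (Nat.div_pos (Nat.le_of_dvd hpos hpd) hp.pos) (orderOf_dvd_of_pow_eq_one e)
      have h4 := Nat.div_lt_self hpos hp.one_lt
      omega
    · exact hfix _ (K.pow_mem hh _) x hx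
    · exact MulAction.mem_stabilizer_iff.1 ((MulAction.stabilizer G z).pow_mem hz _)
  push Not at hsemi
  obtain ⟨N, ⟨hN1, hNK, hNn⟩, hNmin⟩ :=
    (Set.toFinite {N : Subgroup G | N ≠ ⊥ ∧ N ≤ K ∧
      ∀ g : G, g • B₀ = B₀ → ∀ h ∈ N, g * h * g⁻¹ ∈ N}).exists_minimal ⟨K, hK, le_rfl, hnorm⟩
  refine Des.Full.of_dual ?_
  by_contra hfull
  simp only [Des.Full, not_forall, not_exists, not_and] at hfull
  obtain ⟨B₁, C₁, hne₁, z₁, hz₁⟩ := hfull
  have htrans : ∀ B : Q, ∃ g : G, g • B₀ = B := by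
    intro B
    rcases eq_or_ne B₀ B with rfl | h
    · exact ⟨1, one_smul _ _⟩
    · obtain ⟨g, hg, -⟩ := hpairs B₀ B B B₀ h h.symm
      exact ⟨g, hg⟩
  choose gB hgB using htrans
  let E : Elat G D :=
    { K := fun B => N.map (MulAut.conj (gB B)).toMonoidHom
      compat := hc
      conj := by
        rintro g B _ ⟨a, ha, rfl⟩
        refine ⟨((gB (g • B))⁻¹ * g * gB B) * a * ((gB (g • B))⁻¹ * g * gB B)⁻¹, hNn _ ?_ a ha, ?_⟩
        · rw [mul_smul, mul_smul, hgB, inv_smul_eq_iff, hgB]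
        · simp only [MulEquiv.coe_toMonoidHom, MulAut.conj_apply]
          group
      fixPt := by
        rintro B _ ⟨a, ha, rfl⟩ x hx
        simp only [MulEquiv.coe_toMonoidHom, MulAut.conj_apply, mul_smul]
        rw [hfix a (hNK ha) _ ((hc (gB B) ((gB B)⁻¹ • x) B₀).1 (by rwa [smul_inv_smul, hgB])),
          smul_inv_smul]
      semi := by
        rintro B _ ⟨a, ha, rfl⟩ x hx he
        simp only [MulEquiv.coe_toMonoidHom, MulAut.conj_apply, mul_smul] at he
        replace he := congrArg ((gB B)⁻¹ • ·) he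
        simp only [inv_smul_smul] at he
        have : a = 1 := by
          by_contra ha1
          refine hsemi a (hNK ha) ha1 ((gB B)⁻¹ • x) (fun h' => hx ?_) he
          have := (hc (gB B) ((gB B)⁻¹ • x) B₀).2 h'
          rwa [smul_inv_smul, hgB] at this
        simp [this]
      nontriv := fun B => by
        rw [Ne, Subgroup.map_eq_bot_iff_of_injective _ (MulAut.conj (gB B)).injective]
        exact hN1
      pairs := hpairs }
  have hout : ∀ B C : Q, B ≠ C → ∃ z, Elat.Outside D B C z := by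
    intro B C hne
    obtain ⟨g, hg1, hg2⟩ := hpairs B₁ C₁ B C hne₁ hne
    refine ⟨g • z₁, fun R hR hzR => hz₁ (g⁻¹ • R) (D.dual.mem_line.2 fun x a b => ?_) ?_⟩
    · refine (hc g x (g⁻¹ • R)).1 ?_
      rw [smul_inv_smul]
      exact hR _ (hg1 ▸ (hc g x B₁).2 a) (hg2 ▸ (hc g x C₁).2 b)
    · exact (hc g z₁ (g⁻¹ • R)).1 (by rwa [smul_inv_smul])
  obtain ⟨b₀, hb₀K⟩ : ∃ b₀ : G, E.K B₀ = N.map (MulAut.conj b₀).toMonoidHom := ⟨_, rfl⟩
  have hEN : E.K B₀ = N := by
    refine le_antisymm ?_ fun a ha => ?_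
    · rintro _ ⟨a, ha, rfl⟩
      exact hNn _ (hgB B₀) a ha
    · refine ⟨(gB B₀)⁻¹ * a * gB B₀, ?_, by simp [mul_assoc]⟩
      simpa using hNn (gB B₀)⁻¹ (inv_smul_eq_iff.2 (hgB B₀).symm) a ha
  obtain ⟨C₀, hC₀⟩ := E.exists_other B₀
  obtain ⟨p, hp, hpN⟩ : ∃ p : ℕ, p.Prime ∧ IsPGroup p N := by
    haveI : Nontrivial N := (Subgroup.nontrivial_iff_ne_bot N).2 hN1
    refine isPGroup_of_mem_proper (fun M hM => ?_) fun a => ?_
    · by_contra hcon
      push Not at hcon
      have hle : M.map N.subtype ≤ N := Subgroup.map_subtype_le M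
      have hmem : M.map N.subtype ∈ {N : Subgroup G | N ≠ ⊥ ∧ N ≤ K ∧
          ∀ g : G, g • B₀ = B₀ → ∀ h ∈ N, g * h * g⁻¹ ∈ N} := by
        refine ⟨fun e => hcon.1 ((Subgroup.map_eq_bot_iff_of_injective _ N.subtype_injective).1 e),
          hle.trans hNK, ?_⟩
        rintro g hg _ ⟨⟨a, ha⟩, haM, rfl⟩
        have hback : ∀ b ∈ N, g⁻¹ * b * g ∈ N := fun b hb => by
          simpa using hNn g⁻¹ (inv_smul_eq_iff.2 hg.symm) b hb
        let φ : N ≃* N :=
          { toFun := fun b => ⟨g * b * g⁻¹, hNn g hg b b.2⟩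
            invFun := fun b => ⟨g⁻¹ * b * g, hback b b.2⟩
            left_inv := fun b => Subtype.ext (by simp [mul_assoc])
            right_inv := fun b => Subtype.ext (by simp [mul_assoc])
            map_mul' := fun b c => Subtype.ext (by simp [mul_assoc]) }
        exact ⟨φ ⟨a, ha⟩, (Subgroup.characteristic_iff_map_le.1 hM φ) ⟨_, haM, rfl⟩, rfl⟩
      have := hNmin hmem hle
      refine hcon.2 (eq_top_iff.2 fun a _ => ?_)
      obtain ⟨b, hb, hba⟩ := this a.2
      rwa [← Subtype.ext hba]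
    · rcases eq_or_ne a 1 with rfl | ha1
      · exact ⟨⊥, inferInstance, Subgroup.one_mem _, bot_ne_top⟩
      have ha : (a : G) ∈ E.K B₀ := by rw [hEN]; exact a.2
      obtain ⟨C, hC, hCfix⟩ := E.exists_fixed_other ha
      obtain ⟨z, hz⟩ := hout B₀ C hC.symm
      obtain ⟨M, hMK, haM, hMne, hMn⟩ := E.mem_proper_normal hC.symm hz
        (E.mem_sub.2 ⟨ha, hCfix⟩) (fun e => ha1 (Subtype.ext e))
      rw [hEN] at hMK hMne hMn
      refine ⟨M.subgroupOf N, ⟨fun m hm u => hMn u u.2 m hm⟩, haM, fun e => hMne ?_⟩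
      exact le_antisymm hMK (Subgroup.subgroupOf_eq_top.1 e)
  obtain ⟨z, hz⟩ := hout B₀ C₀ hC₀.symm
  exact E.not_pgroup hC₀.symm hz hp (hpN.map _)

end

end CfsgLib.SymDesign
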