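import Cfsg.Agent.Lib.SymDesign.Model
import Cfsg.Agent.Lib.AutPSL.Main

/-!
# The group contains the projective special linear group as a normal subgroup
-/

set_option autoImplicit false
set_option linter.unusedSectionVars false
set_option linter.style.haveILetI false

namespace CfsgLib.SymDesign

open Finset Matrix CfsgLib.ProjGeom

variable {G P Q : Type*} [Group G] [MulAction G P] [MulAction G Q] [Fintype P] [Fintype Q]
  [Finite G] [FaithfulSMul G P] {D : Des P Q}

theorem transvection_mulVec {n : Type*} [Fintype n] [DecidableEq n] {R : Type*} [CommRing R]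
    (i j : n) (c : R) (v : n → R) : Matrix.transvection i j c *ᵥ v = v + Pi.single i (c * v j) := by
  ext k
  rw [Matrix.transvection, Matrix.add_mulVec, Matrix.one_mulVec, Matrix.single_mulVec]
  simp [Pi.single]

theorem Prop1.mulVec {n : Type*} [Fintype n] {F : Type*} [Field F] (A : Matrix n n F) {v w : n → F}
    (h : Prop1 v w) : Prop1 (A *ᵥ v) (A *ᵥ w) := by
  obtain ⟨c, hc, rfl⟩ := h
  exact ⟨c, hc, Matrix.mulVec_smul _ _ _⟩

theorem map_mulVec' {n : Type*} [Fintype n] {F : Type*} [Field F] (σ : RingAut F) (A : Matrix n n F)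
    (v : n → F) : (fun i => σ ((A *ᵥ v) i)) = A.map σ *ᵥ fun i => σ (v i) := by
  funext i
  simp [Matrix.mulVec, dotProduct, map_sum, map_mul]

theorem Prop1.map {n : Type*} {F : Type*} [Field F] (σ : RingAut F) {v w : n → F}
    (h : Prop1 v w) : Prop1 (fun i => σ (v i)) (fun i => σ (w i)) := by
  obtain ⟨c, hc, rfl⟩ := h
  exact ⟨σ c, by simpa using hc, by funext i; simp⟩

variable {I : Ito G D} (M : Model I)

namespace Model

/-- The element acts on the homogeneous coordinates by the matrix. -/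
def Acts (g : G) (A : Matrix (Fin (M.m + 1)) (Fin (M.m + 1)) M.F) : Prop :=
  ∀ x, Prop1 (A *ᵥ M.Φ x) (M.Φ (g • x))

theorem Acts.mul {g h : G} {A B : Matrix (Fin (M.m + 1)) (Fin (M.m + 1)) M.F} (hg : M.Acts g A)
    (hh : M.Acts h B) : M.Acts (g * h) (A * B) := fun x => by
  rw [← Matrix.mulVec_mulVec, mul_smul]
  exact (Prop1.mulVec A (hh x)).trans (hg _)

theorem Acts.one : M.Acts 1 1 := fun x => by
  rw [Matrix.one_mulVec, one_smul]
  exact prop1_refl _

theorem Acts.unique {g h : G} {A : Matrix (Fin (M.m + 1)) (Fin (M.m + 1)) M.F} (hg : M.Acts g A)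
    (hh : M.Acts h A) : g = h :=
  FaithfulSMul.eq_of_smul_eq_smul fun x : P => M.Φ_inj _ _ ((hg x).symm.trans (hh x))

theorem Acts.inv {g : G} {A B : Matrix (Fin (M.m + 1)) (Fin (M.m + 1)) M.F} (hg : M.Acts g A)
    (hBA : B * A = 1) : M.Acts g⁻¹ B := fun x => by
  have h := Prop1.mulVec B (hg (g⁻¹ • x))
  rw [Matrix.mulVec_mulVec, hBA, Matrix.one_mulVec, smul_inv_smul] at h
  exact h.symm

theorem exists_semi (g : G) : ∃ (A : GL (Fin (M.m + 1)) M.F) (σ : RingAut M.F),
    ∀ x, Prop1 (A.1 *ᵥ fun i => σ (M.Φ x i)) (M.Φ (g • x)) := by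
  classical
  have hm := M.two_le
  choose pt hpt using M.Φ_surj
  let f : (Fin (M.m + 1) → M.F) → (Fin (M.m + 1) → M.F) := fun v =>
    if h : v = 0 then 0 else M.Φ (g • pt v h)
  have hf : ∀ v (h : v ≠ 0), f v = M.Φ (g • pt v h) := fun v h => dif_neg h
  have hptΦ : ∀ x, pt (M.Φ x) (M.Φ_ne x) = x := fun x => (M.Φ_inj _ _ (hpt _ (M.Φ_ne x))).symm
  have hspan : ∀ {a b a' b' : Fin (M.m + 1) → M.F}, Prop1 a a' → Prop1 b b' →
      Submodule.span M.F {a, b} = Submodule.span M.F {a', b'} := by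
    intro a b a' b' ha hb
    refine le_antisymm ?_ ?_ <;>
      rw [Submodule.span_le, Set.insert_subset_iff, Set.singleton_subset_iff]
    · exact ⟨(Prop1.mem_iff ha _).1 (Submodule.subset_span (by simp)),
        (Prop1.mem_iff hb _).1 (Submodule.subset_span (by simp))⟩
    · exact ⟨(Prop1.mem_iff ha _).2 (Submodule.subset_span (by simp)),
        (Prop1.mem_iff hb _).2 (Submodule.subset_span (by simp))⟩
  have hsame : ∀ {a b : P}, M.Φ b ∈ Submodule.span M.F {M.Φ a, M.Φ a} → b = a := by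
    intro a b h
    rw [Set.pair_eq_singleton] at h
    exact (M.Φ_inj _ _ (prop1_of_mem_span_singleton (M.Φ_ne b) h)).symm
  have hfC : IsCollineation f := by
    refine ⟨fun v hv => by rw [hf v hv]; exact M.Φ_ne _, fun u v w hu hv hw => ?_, fun w hw => ?_⟩
    · rw [hf u hu, hf v hv, hf w hw]
      obtain ⟨hpu, hpv, hpw⟩ := And.intro (hpt u hu) (And.intro (hpt v hv) (hpt w hw))
      rw [← Prop1.mem_iff hpu, hspan hpv hpw]
      by_cases hvw : pt v hv = pt w hw
      · rw [hvw]
        constructor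
        · intro h
          rw [MulAction.injective g (hsame h)]
          exact Submodule.subset_span (by simp)
        · intro h
          rw [hsame h]
          exact Submodule.subset_span (by simp)
      · rw [← M.collinear _ _ _ hvw, ← M.collinear _ _ _ (fun e => hvw (MulAction.injective g e))]
        exact smul_mem_line I.compat g
    · obtain ⟨x, hx⟩ := M.Φ_surj w hw
      refine ⟨M.Φ (g⁻¹ • x), M.Φ_ne _, ?_⟩
      rw [hf _ (M.Φ_ne _), hptΦ, smul_inv_smul]
      exact hx
  obtain ⟨A, σ, h⟩ := exists_semilinear (o := (0 : Fin (M.m + 1)))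
    (k₁ := (⟨1, by omega⟩ : Fin (M.m + 1))) (k₂ := (⟨2, by omega⟩ : Fin (M.m + 1)))
    (by simp [Fin.ext_iff]) (by simp [Fin.ext_iff]) (by simp [Fin.ext_iff]) hfC
  refine ⟨A, σ, fun x => ?_⟩
  have h' := h (M.Φ x) (M.Φ_ne x)
  rwa [hf _ (M.Φ_ne x), hptΦ] at h'

theorem exists_acts_transvection {i j : Fin (M.m + 1)} (hij : i ≠ j) (c : M.F) :
    ∃ g : G, M.Acts g (Matrix.transvection i j c) := by
  classical
  revert hij
  refine Fin.cases ?_ (fun j' => ?_) j
  · refine Fin.cases (fun h => absurd rfl h) (fun i' _ => ?_) i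
    obtain ⟨g, -, hg⟩ := M.translation (Pi.single i' c)
    refine ⟨g, fun x => ?_⟩
    rw [transvection_mulVec]
    convert hg x using 2
    funext l
    refine Fin.cases ?_ (fun l => ?_) l
    · simp [(Fin.succ_ne_zero i').symm]
    · rcases eq_or_ne l i' with rfl | hl
      · simp [mul_comm]
      · simp [hl]
  · refine Fin.cases (fun _ => ?_) (fun i' hij => ?_) i
    swap
    · obtain ⟨g, hg⟩ := M.shear j' i' (fun e => hij (by rw [e])) c
      exact ⟨g, fun x => by rw [transvection_mulVec]; exact hg x⟩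
    -- the transvection with centre at the origin
    obtain ⟨B, hB⟩ := M.hyper j'
    obtain ⟨g, hg⟩ := I.exists_smul_block B
    obtain ⟨A, σ, hA⟩ := M.exists_semi g
    set T := Matrix.transvection (0 : Fin (M.m + 1)) j'.succ c with hT
    let e₀ : Fin (M.m + 1) → M.F := Pi.single 0 1
    let τ : (Fin (M.m + 1) → M.F) → Fin (M.m + 1) → M.F := fun v l => σ.symm ((A⁻¹.1 *ᵥ v) l)
    let ν : (Fin (M.m + 1) → M.F) → Fin (M.m + 1) → M.F := fun v => A.1 *ᵥ fun l => σ (v l)
    have hντ : ∀ v, ν (τ v) = v := fun v => by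
      simp only [ν, τ, RingEquiv.apply_symm_apply]
      rw [Matrix.mulVec_mulVec, ← Units.val_mul, mul_inv_cancel, Units.val_one, Matrix.one_mulVec]
    have hτν : ∀ v, τ (ν v) = v := fun v => by
      simp only [ν, τ]
      rw [Matrix.mulVec_mulVec, ← Units.val_mul, inv_mul_cancel, Units.val_one, Matrix.one_mulVec]
      simp
    have hνadd : ∀ u v, ν (u + v) = ν u + ν v := fun u v => by
      simp only [ν]
      rw [← Matrix.mulVec_add]
      congr 1; funext l; simp
    have hνsmul : ∀ (a : M.F) v, ν (a • v) = σ a • ν v := fun a v => by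
      simp only [ν]
      rw [← Matrix.mulVec_smul]
      congr 1; funext l; simp
    -- the image of the hyperplane at infinity
    have hνzero : ∀ v, v 0 = 0 → ν v j'.succ = 0 := by
      intro v hv
      rcases eq_or_ne v 0 with rfl | hv0
      · simp [ν, Matrix.mulVec, dotProduct]
      obtain ⟨x, hx⟩ := M.Φ_surj v hv0
      obtain ⟨a, ha, hax⟩ := hx
      have hxB : D.inc x I.B₀ := (M.inf_iff x).2 (by rw [hax, Pi.smul_apply, hv, smul_zero])
      have hgx : M.Φ (g • x) j'.succ = 0 := (hB _).1 (hg ▸ (I.compat g x I.B₀).2 hxB)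
      obtain ⟨b, hb, hbx⟩ := hA x
      rw [hbx] at hgx
      have h2 : ν (M.Φ x) j'.succ = 0 := (mul_eq_zero.1 hgx).resolve_left hb
      rw [hax, hνsmul, Pi.smul_apply, smul_eq_mul] at h2
      exact (mul_eq_zero.1 h2).resolve_left (by simpa using ha)
    set w := τ e₀ with hw
    have hw0 : w 0 = 0 := by
      have hoB : D.inc M.o B := (hB _).2 (by rw [M.origin]; simp [Fin.succ_ne_zero])
      have hpre : D.inc (g⁻¹ • M.o) I.B₀ := I.inc_smul_iff.1 (hg.symm ▸ hoB)
      obtain ⟨b, hb, hbo⟩ := hA (g⁻¹ • M.o)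
      rw [smul_inv_smul, M.origin] at hbo
      have hτ : τ (b • ν (M.Φ (g⁻¹ • M.o))) = τ e₀ := congrArg τ hbo.symm
      have hτb : τ (b • ν (M.Φ (g⁻¹ • M.o))) = σ.symm b • M.Φ (g⁻¹ • M.o) := by
        apply (Function.LeftInverse.injective hτν)
        rw [hντ, hνsmul, RingEquiv.apply_symm_apply]
      rw [hw, ← hτ, hτb, Pi.smul_apply, (M.inf_iff _).1 hpre, smul_zero]
    let a : Fin M.m → M.F := fun l => σ.symm (c * ν e₀ j'.succ) * w l.succ
    obtain ⟨h, -, hh⟩ := M.translation a
    refine ⟨g * h * g⁻¹, fun x => ?_⟩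
    obtain ⟨y, rfl⟩ : ∃ y, g • y = x := ⟨g⁻¹ • x, smul_inv_smul _ _⟩
    rw [mul_smul, mul_smul, inv_smul_smul]
    have hkey : T *ᵥ ν (M.Φ y) = ν (M.Φ y + M.Φ y 0 • Fin.cons 0 a) := by
      set v := M.Φ y
      have hsplit : v = v 0 • e₀ + (v - v 0 • e₀) := by rw [add_sub_cancel]
      have h1 : ν v j'.succ = σ (v 0) * ν e₀ j'.succ := by
        conv_lhs => rw [hsplit, hνadd, hνsmul, Pi.add_apply,
          hνzero (v - v 0 • e₀) (by simp [e₀]), add_zero, Pi.smul_apply, smul_eq_mul]
      have h2 : (Fin.cons 0 a : Fin (M.m + 1) → M.F) = σ.symm (c * ν e₀ j'.succ) • w := by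
        funext l
        refine Fin.cases ?_ (fun l => ?_) l
        · simp [hw0]
        · simp [a]
      rw [hT, transvection_mulVec, hνadd, hνsmul, h2, hνsmul, hw, hντ, RingEquiv.apply_symm_apply,
        smul_smul, h1]
      funext l
      refine Fin.cases ?_ (fun l => ?_) l
      · simp [e₀]; ring
      · simp [e₀, Fin.succ_ne_zero]
    refine (Prop1.mulVec T (hA y)).symm.trans ?_
    rw [show A.1 *ᵥ (fun l => σ (M.Φ y l)) = ν (M.Φ y) from rfl, hkey]
    exact (Prop1.mulVec A.1 (Prop1.map σ (hh y))).trans (hA _)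

theorem exists_acts (A : Matrix.SpecialLinearGroup (Fin (M.m + 1)) M.F) : ∃ g : G, M.Acts g A.1 := by
  haveI : Nontrivial (Fin (M.m + 1)) := Fin.nontrivial_iff_two_le.2 (by have := M.two_le; omega)
  have htv : ∀ (i j : Fin (M.m + 1)) (hij : i ≠ j) (c : M.F),
      ∃ g : G, M.Acts g (Matrix.SpecialLinearGroup.transvection hij c).1 := fun i j hij c => by
    rw [Matrix.SpecialLinearGroup.transvection_coe]
    exact M.exists_acts_transvection hij c
  have hmul : ∀ B C : Matrix.SpecialLinearGroup (Fin (M.m + 1)) M.F, (∃ g : G, M.Acts g B.1) →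
      (∃ g : G, M.Acts g C.1) → ∃ g : G, M.Acts g (B * C).1 := by
    rintro B C ⟨g, hg⟩ ⟨h, hh⟩
    exact ⟨g * h, Acts.mul M hg hh⟩
  refine Matrix.SpecialLinearGroup.diagonal_transvection_induction'
    (fun A => ∃ g : G, M.Acts g A.1) A (fun i j hij c hc => ?_) htv hmul
  rw [CfsgLib.AutPSL.diag2n_eq hij c hc]
  simp only [CfsgLib.AutPSL.xr_eq_transvection]
  exact hmul _ _ (hmul _ _ (hmul _ _ (hmul _ _ (hmul _ _ (htv _ _ _ _) (htv _ _ _ _)) (htv _ _ _ _))
    (htv _ _ _ _)) (htv _ _ _ _)) (htv _ _ _ _)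

/-- The elements acting as matrices of determinant one. -/
noncomputable def pslHom : Matrix.SpecialLinearGroup (Fin (M.m + 1)) M.F →* G where
  toFun A := (M.exists_acts A).choose
  map_one' := Acts.unique M (M.exists_acts 1).choose_spec (Acts.one M)
  map_mul' A B := Acts.unique M (M.exists_acts (A * B)).choose_spec
    (Acts.mul M (M.exists_acts A).choose_spec (M.exists_acts B).choose_spec)

theorem pslHom_acts (A : Matrix.SpecialLinearGroup (Fin (M.m + 1)) M.F) :
    M.Acts (M.pslHom A) A.1 := (M.exists_acts A).choose_spec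

theorem ker_pslHom : M.pslHom.ker = Subgroup.center _ := by
  classical
  ext A
  rw [MonoidHom.mem_ker, Matrix.SpecialLinearGroup.mem_center_iff]
  constructor
  · intro h
    have hev : ∀ v, ∃ r : M.F, A.1 *ᵥ v = r • v := by
      intro v
      rcases eq_or_ne v 0 with rfl | hv
      · exact ⟨0, by simp⟩
      obtain ⟨x, hx⟩ := M.Φ_surj v hv
      have h1 := M.pslHom_acts A x
      rw [h, one_smul] at h1
      obtain ⟨r, -, hr⟩ := (((Prop1.mulVec A.1 hx).trans h1).trans hx.symm).symm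
      exact ⟨r, hr⟩
    have hdiag : ∀ k l, k ≠ l → A.1 k l = 0 := by
      intro k l hkl
      obtain ⟨r, hr⟩ := hev (Pi.single l 1)
      have := congrFun hr k
      simpa [Matrix.mulVec_single_one, hkl] using this
    have hsame : ∀ k l, A.1 k k = A.1 l l := by
      intro k l
      rcases eq_or_ne k l with rfl | hkl
      · rfl
      obtain ⟨r, hr⟩ := hev (Pi.single k 1 + Pi.single l 1)
      have h1 := congrFun hr k
      have h2 := congrFun hr l
      simp [Matrix.mulVec_add, Matrix.mulVec_single_one, hdiag k l hkl, hdiag l k hkl.symm, hkl,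
        hkl.symm] at h1 h2
      rw [h1, h2]
    have hA : Matrix.scalar (Fin (M.m + 1)) (A.1 0 0) = A.1 := by
      ext k l
      rcases eq_or_ne k l with rfl | hkl
      · simp [hsame k 0]
      · simp [hkl, hdiag k l hkl]
    refine ⟨A.1 0 0, ?_, hA⟩
    have h1 := A.2
    rw [← hA] at h1
    simpa using h1
  · rintro ⟨r, hr, hA⟩
    have hr0 : r ≠ 0 := fun e => by rw [e, zero_pow (by simp)] at hr; exact zero_ne_one hr
    refine Acts.unique M (M.pslHom_acts A) fun x => ⟨r⁻¹, inv_ne_zero hr0, ?_⟩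
    rw [← hA, one_smul, Matrix.scalar_apply]
    funext l
    simp [Matrix.mulVec_diagonal, hr0]

theorem range_normal : M.pslHom.range.Normal := by
  classical
  refine ⟨?_⟩
  rintro _ ⟨S, rfl⟩ g
  obtain ⟨A, σ, hA⟩ := M.exists_semi g
  have hmap : (S.1.map σ).det = 1 := by
    rw [show S.1.map σ = σ.toRingHom.mapMatrix S.1 from rfl, ← RingHom.map_det, S.2, map_one]
  let S' : Matrix.SpecialLinearGroup (Fin (M.m + 1)) M.F :=
    ⟨A.1 * S.1.map σ * A⁻¹.1, by
      rw [Matrix.det_mul, Matrix.det_mul, hmap, mul_one, ← Matrix.det_mul, ← Units.val_mul,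
        mul_inv_cancel, Units.val_one, Matrix.det_one]⟩
  refine ⟨S', Acts.unique M (M.pslHom_acts S') fun x => ?_⟩
  obtain ⟨y, rfl⟩ : ∃ y, g • y = x := ⟨g⁻¹ • x, smul_inv_smul _ _⟩
  rw [mul_smul, mul_smul, inv_smul_smul]
  refine (Prop1.mulVec S'.1 (hA y)).symm.trans ?_
  have e : S'.1 *ᵥ (A.1 *ᵥ fun l => σ (M.Φ y l)) = A.1 *ᵥ fun l => σ ((S.1 *ᵥ M.Φ y) l) := by
    rw [map_mulVec', Matrix.mulVec_mulVec, Matrix.mulVec_mulVec]
    congr 1
    show A.1 * S.1.map σ * A⁻¹.1 * A.1 = A.1 * S.1.map σ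
    rw [Matrix.mul_assoc _ A⁻¹.1, ← Units.val_mul, inv_mul_cancel, Units.val_one, Matrix.mul_one]
  rw [e]
  exact (Prop1.mulVec A.1 (Prop1.map σ (M.pslHom_acts S y))).trans (hA _)

theorem El_le_range : I.El I.B₀ ≤ M.pslHom.range := by
  classical
  intro g hg
  obtain ⟨x, hx⟩ := M.Φ_surj (M.Φ (g • M.o)) (M.Φ_ne _)
  -- the coordinates of the image of the origin
  have hgo : ¬ D.inc (g • M.o) I.B₀ := I.El_out hg M.out
  have h0 : M.Φ (g • M.o) 0 ≠ 0 := fun e => hgo ((M.inf_iff _).2 e)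
  set a : Fin M.m → M.F := fun l => (M.Φ (g • M.o) 0)⁻¹ * M.Φ (g • M.o) l.succ
  obtain ⟨t, ht, hte⟩ := M.translation a
  have hgt : t = g := by
    have h1 := hte M.o
    have h2 : M.Φ (t • M.o) = M.Φ (t • M.o) := rfl
    have h3 : Prop1 (M.Φ (g • M.o)) (M.Φ M.o + M.Φ M.o 0 • Fin.cons 0 a) := by
      refine ⟨(M.Φ (g • M.o) 0)⁻¹, inv_ne_zero h0, ?_⟩
      rw [M.origin]
      funext l
      refine Fin.cases ?_ (fun l => ?_) l
      · simp [inv_mul_cancel₀ h0]
      · simp [a, Fin.succ_ne_zero]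
    have h4 : t • M.o = g • M.o := (M.Φ_inj _ _ (h3.trans h1)).symm
    exact (inv_mul_eq_one.1 (I.El_semi ((I.El I.B₀).mul_mem ((I.El I.B₀).inv_mem hg) ht) M.out
      (by rw [mul_smul, h4, inv_smul_smul]))).symm
  subst hgt
  let T : Fin M.m → Matrix.SpecialLinearGroup (Fin (M.m + 1)) M.F := fun l =>
    Matrix.SpecialLinearGroup.transvection (Fin.succ_ne_zero l) (a l)
  have key : ∀ (s : List (Fin M.m)) (v : Fin (M.m + 1) → M.F), s.Nodup →
      (s.map T).prod.1 *ᵥ v = v + v 0 • ∑ l ∈ s.toFinset, Pi.single l.succ (a l) := by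
    intro s
    induction s with
    | nil => intro v _; simp
    | cons l s ih =>
      intro v hs
      rw [List.nodup_cons] at hs
      rw [List.map_cons, List.prod_cons, Matrix.SpecialLinearGroup.coe_mul, ← Matrix.mulVec_mulVec,
        ih v hs.2, Matrix.SpecialLinearGroup.transvection_coe]
      show Matrix.transvection l.succ 0 (a l) *ᵥ _ = _
      rw [transvection_mulVec, List.toFinset_cons, sum_insert (by simpa using hs.1), smul_add,
        show (v + v 0 • ∑ j ∈ s.toFinset, Pi.single j.succ (a j) : Fin (M.m + 1) → M.F) 0 = v 0 by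
          simp [Finset.sum_apply],
        add_assoc, add_comm (v 0 • _) (Pi.single _ _), ← Pi.single_smul', smul_eq_mul, mul_comm (a l)]
  refine ⟨((univ : Finset (Fin M.m)).toList.map T).prod, Acts.unique M (M.pslHom_acts _) fun x => ?_⟩
  rw [key _ _ (nodup_toList _), toList_toFinset]
  convert hte x using 2
  congr 1
  funext l
  refine Fin.cases ?_ (fun l => ?_) l
  · simp [Finset.sum_apply]
  · simp [Finset.sum_apply, Pi.single_apply, Fin.succ_inj]

theorem centralizer_range : Subgroup.centralizer (M.pslHom.range : Set G) = ⊥ := by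
  classical
  rw [Subgroup.eq_bot_iff_forall]
  intro z hz
  have hN := M.range_normal
  have hblock : ∀ B : Q, z • B = B := by
    intro B
    obtain ⟨g, rfl⟩ := I.exists_smul_block B
    symm
    refine D.ext_pt fun x hx => ?_
    obtain ⟨y, rfl⟩ : ∃ y, z • y = x := ⟨z⁻¹ • x, smul_inv_smul _ _⟩
    rw [I.compat]
    by_contra hy
    obtain ⟨h, hh, h1⟩ := (Subgroup.bot_or_exists_ne_one (I.El I.B₀)).resolve_left I.El_ne_bot
    have hmem : g * h * g⁻¹ ∈ M.pslHom.range := hN.conj_mem h (M.El_le_range hh) g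
    have he := (I.mem_El).1 (I.El_conj g hh)
    refine he.2.resolve_left (fun e => h1 (conj_eq_one_iff.1 e)) y hy ?_
    have h2 := he.1 _ hx
    rw [← mul_smul, Subgroup.mem_centralizer_iff.1 hz _ hmem, mul_smul] at h2
    exact smul_left_cancel z h2
  refine FaithfulSMul.eq_of_smul_eq_smul fun x : P => ?_
  rw [one_smul]
  refine D.dual.ext_pt fun B hB => ?_
  change D.inc x B
  change D.inc (z • x) B at hB
  rw [← hblock B] at hB
  exact (I.compat z x B).1 hB

end Model

/-- The conclusion: a normal projective special linear group with trivial centraliser. -/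
theorem Ito.exists_psl (I : Ito G D) :
    ∃ (m : ℕ) (F : Type) (_ : Field F) (_ : Fintype F), 2 ≤ m ∧
      Nat.card P = (Fintype.card F ^ (m + 1) - 1) / (Fintype.card F - 1) ∧
      ∃ N : Subgroup G, N.Normal ∧
        Nonempty (N ≃* Matrix.ProjectiveSpecialLinearGroup (Fin (m + 1)) F) ∧
        Subgroup.centralizer (N : Set G) = ⊥ := by
  obtain ⟨M⟩ := I.exists_model
  refine ⟨M.m, M.F, M.instField, M.instFintype, M.two_le, ?_, M.pslHom.range, M.range_normal,
    ⟨((QuotientGroup.quotientMulEquivOfEq M.ker_pslHom.symm).trans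
      (QuotientGroup.quotientKerEquivRange M.pslHom)).symm⟩, M.centralizer_range⟩
  rw [M.card_F, Nat.card_eq_fintype_card]
  obtain ⟨hq, -, hn⟩ := I.full.params
  refine (Nat.div_eq_of_eq_mul_left (show 0 < D.q - 1 by omega) ?_).symm
  have hc := M.card_out
  zify [show 1 ≤ D.q by omega, Nat.one_le_pow (M.m + 1) D.q (by omega)]
  have hn' : (Fintype.card P : ℤ) = D.q * D.k + 1 := by exact_mod_cast hn
  have hc' : (Fintype.card P : ℤ) = D.k + (D.q : ℤ) ^ M.m := by exact_mod_cast hc
  rw [pow_succ]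
  linear_combination (D.q : ℤ) * hc' * (-1) + hn'

end CfsgLib.SymDesign
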