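import Cfsg.Agent.Lib.SymDesign.Construct

/-!
# Groups fixing a block pointwise and semiregular outside it

If every block has such a group, two orbits of blocks and a point outside a pencil produce, inside
the group, normal subgroups of order strictly between the index `t` and `2 t`.
-/

set_option autoImplicit false
set_option linter.unusedSectionVars false
set_option linter.style.haveILetI false

namespace CfsgLib.SymDesign

open Finset

variable {G P Q : Type*} [Group G] [MulAction G P] [MulAction G Q] [Fintype P] [Fintype Q]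

/-- The setwise stabiliser of a finite set of points. -/
def finStab (S : Finset P) : Subgroup G where
  carrier := {g | ∀ x, g • x ∈ S ↔ x ∈ S}
  one_mem' x := by rw [one_smul]
  mul_mem' {a b} ha hb x := by rw [mul_smul, ha, hb]
  inv_mem' {a} ha x := by
    conv_rhs => rw [← smul_inv_smul a x, ha]

theorem mem_finStab {S : Finset P} {g : G} : g ∈ finStab S ↔ ∀ x, g • x ∈ S ↔ x ∈ S := Iff.rfl

theorem regular_of_semireg [Finite G] (J : Subgroup G) (S : Finset P) {z : P} (hz : z ∈ S)
    (hinv : ∀ j ∈ J, ∀ w ∈ S, j • w ∈ S) (hsemi : ∀ j ∈ J, ∀ w ∈ S, j • w = w → j = 1)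
    (hlt : S.card < 2 * Nat.card J) :
    S.card = Nat.card J ∧ ∀ w ∈ S, ∃ j ∈ J, j • z = w := by
  classical
  haveI := Fintype.ofFinite J
  let orb : P → Finset P := fun w => (univ : Finset J).image fun j : J => (j : G) • w
  have hcard : ∀ w ∈ S, (orb w).card = Nat.card J := by
    intro w hw
    rw [card_image_of_injective, card_univ, Nat.card_eq_fintype_card]
    intro a b hab
    have := hsemi ((b : G)⁻¹ * a) (J.mul_mem (J.inv_mem b.2) a.2) w hw
      (by rw [mul_smul]; simp only at hab; rw [hab, inv_smul_smul])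
    exact Subtype.ext (inv_mul_eq_one.1 this).symm
  have hsub : ∀ w ∈ S, orb w ⊆ S := by
    intro w hw v hv
    obtain ⟨j, -, rfl⟩ := mem_image.1 hv
    exact hinv j j.2 w hw
  have hall : ∀ w ∈ S, w ∈ orb z := by
    intro w hw
    by_contra hwz
    have hd : Disjoint (orb z) (orb w) := by
      rw [disjoint_left]
      intro v hv hv'
      obtain ⟨a, -, rfl⟩ := mem_image.1 hv
      obtain ⟨b, -, hb⟩ := mem_image.1 hv'
      refine hwz (mem_image.2 ⟨⟨(b : G)⁻¹ * a, J.mul_mem (J.inv_mem b.2) a.2⟩, mem_univ _, ?_⟩)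
      show ((b : G)⁻¹ * a) • z = w
      rw [mul_smul, ← hb, inv_smul_smul]
    have := card_le_card (union_subset (hsub z hz) (hsub w hw))
    rw [card_union_of_disjoint hd, hcard z hz, hcard w hw] at this
    omega
  refine ⟨?_, fun w hw => ?_⟩
  · rw [← hcard z hz]
    exact congrArg Finset.card (Subset.antisymm hall (hsub z hz))
  · obtain ⟨j, -, hj⟩ := mem_image.1 (hall w hw)
    exact ⟨j, j.2, hj⟩

/-- For each block a group fixing it pointwise, semiregular on the other points. -/
structure Elat (G : Type*) {P Q : Type*} [Group G] [MulAction G P] [MulAction G Q] [Fintype P]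
    [Fintype Q] (D : Des P Q) where
  K : Q → Subgroup G
  compat : Compat G D.inc
  conj : ∀ (g : G) (B : Q), ∀ h ∈ K B, g * h * g⁻¹ ∈ K (g • B)
  fixPt : ∀ B, ∀ h ∈ K B, ∀ x, D.inc x B → h • x = x
  semi : ∀ B, ∀ h ∈ K B, ∀ x, ¬ D.inc x B → h • x = x → h = 1
  nontriv : ∀ B, K B ≠ ⊥
  pairs : ∀ B C B' C' : Q, B ≠ C → B' ≠ C' → ∃ g : G, g • B = B' ∧ g • C = C'

namespace Elat

variable {D : Des P Q} (E : Elat G D)

include E

theorem fixBlock {B : Q} {h : G} (hh : h ∈ E.K B) : h • B = B := by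
  classical
  symm
  refine D.ext_pt fun x hx => ?_
  have := (E.compat h x B).2 hx
  rwa [E.fixPt B h hh x hx] at this

theorem inc_iff {g : G} {B : Q} (hg : g • B = B) (x : P) : D.inc (g • x) B ↔ D.inc x B := by
  conv_lhs => rw [← hg]
  exact E.compat g x B

/-- A moved block meets its image only in the axis. -/
theorem inter_moved {B C : Q} {h : G} (hh : h ∈ E.K B) (hC : h • C ≠ C) {x : P} (h1 : D.inc x C)
    (h2 : D.inc x (h • C)) : D.inc x B := by
  classical
  have hCB : C ≠ B := fun e => hC (e ▸ E.fixBlock hh)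
  have hsub : D.pt C ∩ D.pt B ⊆ D.pt C ∩ D.pt (h • C) := by
    intro y hy
    rw [mem_inter, D.mem_pt, D.mem_pt] at hy ⊢
    refine ⟨hy.1, ?_⟩
    have := (E.compat h y C).2 hy.1
    rwa [E.fixPt B h hh y hy.2] at this
  have heq := eq_of_subset_of_card_le hsub (by rw [D.card_pt_inter hCB, D.card_pt_inter hC.symm])
  have : x ∈ D.pt C ∩ D.pt (h • C) := mem_inter.2 ⟨D.mem_pt.2 h1, D.mem_pt.2 h2⟩
  rw [← heq, mem_inter, D.mem_pt, D.mem_pt] at this
  exact this.2

/-- All blocks through an outside point and its image are fixed. -/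
theorem fixed_of_two {B C : Q} {h : G} (hh : h ∈ E.K B) {x : P} (hx : ¬ D.inc x B)
    (h1 : D.inc x C) (h2 : D.inc (h • x) C) : h • C = C := by
  by_contra hC
  exact hx ((E.inc_iff (E.fixBlock hh) x).1 (E.inter_moved hh hC h2 ((E.compat h x C).2 h1)))

theorem disjointK {B C : Q} (hne : B ≠ C) {h : G} (hB : h ∈ E.K B) (hC : h ∈ E.K C) : h = 1 := by
  classical
  obtain ⟨x, hx, hx'⟩ : ∃ x, D.inc x C ∧ ¬ D.inc x B := by
    by_contra hcon
    push Not at hcon
    exact hne (D.ext_pt hcon).symm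
  exact E.semi B h hB x hx' (E.fixPt C h hC x hx)

theorem card_K (B B' : Q) : Nat.card (E.K B) = Nat.card (E.K B') := by
  obtain ⟨g, rfl⟩ : ∃ g : G, g • B = B' := by
    rcases eq_or_ne B B' with rfl | h
    · exact ⟨1, one_smul _ _⟩
    · obtain ⟨g, hg, -⟩ := E.pairs B B' B' B h h.symm
      exact ⟨g, hg⟩
  refine Nat.card_congr ⟨fun h => ⟨g * h * g⁻¹, E.conj g B h h.2⟩,
    fun h => ⟨g⁻¹ * h * g, by simpa using E.conj g⁻¹ (g • B) h h.2⟩, fun h => ?_, fun h => ?_⟩
  · apply Subtype.ext; simp [mul_assoc]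
  · apply Subtype.ext; simp [mul_assoc]

/-- The stabiliser of a block inside the group of another one. -/
def sub (B C : Q) : Subgroup G := E.K B ⊓ MulAction.stabilizer G C

theorem mem_sub {B C : Q} {h : G} : h ∈ E.sub B C ↔ h ∈ E.K B ∧ h • C = C := Iff.rfl

theorem card_sub {B C B' C' : Q} (h : B ≠ C) (h' : B' ≠ C') :
    Nat.card (E.sub B C) = Nat.card (E.sub B' C') := by
  obtain ⟨g, rfl, rfl⟩ := E.pairs B C B' C' h h'
  refine Nat.card_congr ⟨fun a => ⟨g * a * g⁻¹, E.conj g B a a.2.1, ?_⟩,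
    fun a => ⟨g⁻¹ * a * g, by simpa using E.conj g⁻¹ (g • B) a a.2.1, ?_⟩, fun a => ?_, fun a => ?_⟩
  · show (g * (a : G) * g⁻¹) • (g • C) = g • C
    rw [mul_smul, inv_smul_smul, mul_smul, (E.mem_sub.1 a.2).2]
  · show (g⁻¹ * (a : G) * g) • C = C
    rw [mul_smul, mul_smul, (E.mem_sub.1 a.2).2, inv_smul_smul]
  · apply Subtype.ext; simp [mul_assoc]
  · apply Subtype.ext; simp [mul_assoc]

theorem card_eq_orbit_mul [Finite G] (B C : Q) :
    Nat.card (E.K B) = (MulAction.orbit (E.K B) C).ncard * Nat.card (E.sub B C) := by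
  rw [← MulAction.index_stabilizer, ← Subgroup.index_mul_card (MulAction.stabilizer (E.K B) C)]
  congr 1
  refine Nat.card_congr ⟨fun a => ⟨(a : E.K B), (a : E.K B).2, a.2⟩,
    fun a => ⟨⟨a, a.2.1⟩, a.2.2⟩, fun _ => rfl, fun _ => rfl⟩

theorem exists_other (B : Q) : ∃ C, C ≠ B := by
  haveI : Nontrivial Q := Fintype.one_lt_card_iff_nontrivial.1 (by
    have := D.card_eq; have := D.add_two_le; have := D.two_le; omega)
  exact exists_ne B

theorem exists_notInc (B : Q) : ∃ x, ¬ D.inc x B := by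
  classical
  by_contra h
  push Not at h
  have : D.pt B = univ := eq_univ_of_forall fun x => D.mem_pt.2 (h x)
  have h1 := D.card_pt B
  rw [this, card_univ] at h1
  have := D.add_two_le
  omega

theorem exists_fixed_other [Finite G] {B : Q} {h : G} (hh : h ∈ E.K B) :
    ∃ C, C ≠ B ∧ h • C = C := by
  classical
  by_contra hcon
  push Not at hcon
  have h1 := D.fix_card E.compat h
  have h2 : (univ.filter fun C : Q => h • C = C) ⊆ {B} := fun C hC => by
    rw [mem_filter] at hC
    exact mem_singleton.2 (by_contra fun hne => hcon C hne hC.2)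
  have h3 : D.pt B ⊆ univ.filter fun x => h • x = x := fun x hx =>
    mem_filter.2 ⟨mem_univ _, E.fixPt B h hh x (D.mem_pt.1 hx)⟩
  have h4 := card_le_card h2
  have h5 := card_le_card h3
  rw [card_singleton] at h4
  rw [D.card_pt] at h5
  have := D.two_le
  omega

theorem two_le_sub [Finite G] {B C : Q} (hne : B ≠ C) : 2 ≤ Nat.card (E.sub B C) := by
  obtain ⟨h, hh, h1⟩ := (Subgroup.bot_or_exists_ne_one (E.K B)).resolve_left (E.nontriv B)
  obtain ⟨C', hC', hfix⟩ := E.exists_fixed_other hh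
  rw [E.card_sub hne hC'.symm]
  haveI : Nontrivial (E.sub B C') := ⟨⟨h, E.mem_sub.2 ⟨hh, hfix⟩⟩, 1, fun e => h1 (congrArg Subtype.val e)⟩
  exact Finite.one_lt_card

/-- The counting identity. -/
theorem count [Finite G] {B C : Q} (hne : B ≠ C) :
    (D.k : ℤ) * ((Nat.card (E.sub B C) : ℤ) - 1) = (D.lam : ℤ) * ((Nat.card (E.K B) : ℤ) - 1) := by
  classical
  haveI := Fintype.ofFinite G
  obtain ⟨y, hy⟩ := E.exists_notInc B
  let S : Finset G := (univ.filter fun h => h ∈ E.K B).erase 1
  have hkey := Finset.sum_card_bipartiteAbove_eq_sum_card_bipartiteBelow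
    (r := fun (C' : Q) (h : G) => h • C' = C') (s := D.bl y) (t := S)
  have hl : ∀ C' ∈ D.bl y,
      (S.bipartiteAbove (fun (C' : Q) (h : G) => h • C' = C') C').card = Nat.card (E.sub B C) - 1 := by
    intro C' hC'
    have hC'B : B ≠ C' := fun e => hy (e ▸ D.mem_bl.1 hC')
    rw [E.card_sub hne hC'B, Nat.card_eq_fintype_card, Fintype.card_subtype,
      ← card_erase_of_mem (a := (1 : G)) (by simp)]
    congr 1
    ext h
    simp only [bipartiteAbove, mem_filter, S, mem_erase, mem_univ, true_and, E.mem_sub]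
    tauto
  have hr : ∀ h ∈ S,
      ((D.bl y).bipartiteBelow (fun (C' : Q) (h : G) => h • C' = C') h).card = D.lam := by
    intro h hh
    simp only [S, mem_erase, mem_filter, mem_univ, true_and] at hh
    have hne' : y ≠ h • y := fun e => hh.1 (E.semi B h hh.2 y hy e.symm)
    rw [← D.card_bl_inter hne']
    congr 1
    ext C'
    simp only [bipartiteBelow, mem_filter, D.mem_bl, mem_inter]
    refine ⟨fun ⟨a, b⟩ => ⟨a, ?_⟩, fun ⟨a, b⟩ => ⟨a, E.fixed_of_two hh.2 hy a b⟩⟩
    exact (E.inc_iff b y).2 a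
  rw [sum_congr rfl hl, sum_congr rfl hr, sum_const, sum_const, smul_eq_mul, smul_eq_mul,
    D.card_bl] at hkey
  have hS : S.card = Nat.card (E.K B) - 1 := by
    rw [card_erase_of_mem (by simp), Nat.card_eq_fintype_card, Fintype.card_subtype]
  rw [hS] at hkey
  have h1 : 1 ≤ Nat.card (E.sub B C) := Nat.card_pos
  have h2 : 1 ≤ Nat.card (E.K B) := Nat.card_pos
  zify [h1, h2] at hkey
  rw [hkey, mul_comm]

/-- Lines are shorter than twice the length of a block orbit. -/
theorem line_lt [Finite G] {B C : Q} (hne : B ≠ C) {x y : P} (hxy : x ≠ y) :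
    (D.line x y).card < 2 * (MulAction.orbit (E.K B) C).ncard := by
  classical
  have hc := E.count hne
  rw [E.card_eq_orbit_mul B C] at hc
  set t := (MulAction.orbit (E.K B) C).ncard
  set c := Nat.card (E.sub B C)
  have h2 : 2 ≤ c := E.two_le_sub hne
  have hl := D.line_mul_le hxy
  have hlk := D.lam_lt
  have hid := D.ident_int
  have hlam := D.lam_pos
  push_cast at hc
  set k : ℤ := (D.k : ℤ)
  set lam : ℤ := (D.lam : ℤ)
  set n : ℤ := (Fintype.card P : ℤ)
  have hk : k ≤ (2 * (t : ℤ) - 1) * lam := by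
    have h3 : (c : ℤ) * (k - (t : ℤ) * lam) = k - lam := by linarith
    have h4 : 0 < k - (t : ℤ) * lam := by
      by_contra h5
      have : (c : ℤ) * (k - (t : ℤ) * lam) ≤ 0 :=
        mul_nonpos_of_nonneg_of_nonpos (by positivity) (not_lt.1 h5)
      omega
    have h6 : 2 * (k - (t : ℤ) * lam) ≤ (c : ℤ) * (k - (t : ℤ) * lam) :=
      mul_le_mul_of_nonneg_right (by exact_mod_cast h2) h4.le
    nlinarith
  by_contra hcon
  rw [not_lt] at hcon
  have hl' : ((D.line x y).card : ℤ) * (k - lam) + lam ≤ n := by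
    have h7 := Int.ofNat_le.2 hl
    push_cast [Nat.cast_sub hlk.le] at h7
    exact h7
  have hcon' : 2 * (t : ℤ) ≤ ((D.line x y).card : ℤ) := by exact_mod_cast hcon
  have h8 : 2 * (t : ℤ) * (k - lam) + lam ≤ n :=
    le_trans (by nlinarith [mul_le_mul_of_nonneg_right hcon' (show (0 : ℤ) ≤ k - lam by omega)]) hl'
  nlinarith [mul_le_mul_of_nonneg_left h8 (show (0 : ℤ) ≤ lam by positivity),
    mul_le_mul_of_nonneg_right hk (show (0 : ℤ) ≤ k - lam by omega)]

end Elat

end CfsgLib.SymDesign
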