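import Cfsg.Agent.Lib.SymDesign.Shear
import Cfsg.Agent.Lib.ProjGeom.Fundamental

/-!
# The design is a projective space and the group acts semilinearly
-/

set_option autoImplicit false
set_option linter.unusedSectionVars false
set_option linter.style.haveILetI false

namespace CfsgLib.SymDesign

open Finset Matrix CfsgLib.ProjGeom

variable {G P Q : Type*} [Group G] [MulAction G P] [MulAction G Q] [Fintype P] [Fintype Q]
  [Finite G] [FaithfulSMul G P] {D : Des P Q}

/-- Homogeneous coordinates for the points. -/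
structure Model (I : Ito G D) where
  m : ℕ
  two_le : 2 ≤ m
  F : Type
  [instField : Field F]
  [instFintype : Fintype F]
  card_F : Fintype.card F = D.q
  o : P
  out : ¬ D.inc o I.B₀
  Φ : P → Fin (m + 1) → F
  origin : Φ o = Pi.single 0 1
  Φ_ne : ∀ x, Φ x ≠ 0
  Φ_inj : ∀ x y, Prop1 (Φ x) (Φ y) → x = y
  Φ_surj : ∀ v, v ≠ 0 → ∃ x, Prop1 v (Φ x)
  collinear : ∀ x y z, x ≠ y → (z ∈ D.line x y ↔ Φ z ∈ Submodule.span F {Φ x, Φ y})
  inf_iff : ∀ x, D.inc x I.B₀ ↔ Φ x 0 = 0
  card_out : Fintype.card P = D.k + D.q ^ m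
  translation : ∀ a : Fin m → F, ∃ g ∈ I.El I.B₀,
    ∀ x, Prop1 (Φ x + Φ x 0 • Fin.cons 0 a) (Φ (g • x))
  shear : ∀ i j : Fin m, i ≠ j → ∀ f : F, ∃ g : G,
    ∀ x, Prop1 (Φ x + Pi.single j.succ (f * Φ x i.succ)) (Φ (g • x))
  hyper : ∀ i : Fin m, ∃ B, ∀ x, D.inc x B ↔ Φ x i.succ = 0

attribute [instance] Model.instField Model.instFintype

theorem span_pair_cases {F ι : Type*} [Field F] {u v w : ι → F} (hw : w ∈ Submodule.span F {u, v}) :
    (∃ b : F, w = b • v) ∨ ∃ (a : F) (t : F), a ≠ 0 ∧ w = a • (u + t • v) := by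
  obtain ⟨a, b, h⟩ := Submodule.mem_span_pair.1 hw
  rcases eq_or_ne a 0 with rfl | ha
  · exact .inl ⟨b, by rw [← h, zero_smul, zero_add]⟩
  · exact .inr ⟨a, b / a, ha, by rw [← h, smul_add, smul_smul, mul_div_cancel₀ _ ha]⟩

open Classical in
theorem Ito.exists_model (I : Ito G D) : Nonempty (Model I) := by
  obtain ⟨Fr⟩ := I.exists_frame
  obtain ⟨F, instF, instFF, φ, hFq, hφinj, hφadd, hφEl, hφcomp, hφshear⟩ := exists_coords Fr
  have hm := Fr.two_le
  let i₀ : Fin Fr.m := ⟨0, by omega⟩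
  have hφmem : ∀ x, φ x ∈ I.El I.B₀ := fun x => (hφEl _).2 ⟨x, rfl⟩
  have hφ0 : φ 0 = 1 := by
    have h := hφadd 0 0
    rw [add_zero] at h
    exact left_eq_mul.1 h
  have hφne : ∀ x, x ≠ 0 → φ x ≠ 1 := fun x hx h => hx (hφinj (h.trans hφ0.symm))
  -- every non-zero vector spans a component
  let Good : (Fin Fr.m → F) → Prop := fun x => ∃ t : G, t • I.B₀ = I.B₀ ∧
    ∀ f : F, t * φ (Pi.single i₀ f) * t⁻¹ = φ (f • x)
  have hstep : ∀ x, Good x → ∀ i j, i ≠ j → ∀ a : F, Good (x + Pi.single j (a * x i)) := by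
    rintro x ⟨t, ht, hte⟩ i j hij a
    obtain ⟨u, hu, -, hue⟩ := hφshear i j hij a
    refine ⟨u * t, by rw [mul_smul, ht, hu], fun f => ?_⟩
    calc u * t * φ (Pi.single i₀ f) * (u * t)⁻¹ = u * (t * φ (Pi.single i₀ f) * t⁻¹) * u⁻¹ := by group
      _ = φ (f • x + Pi.single j (a * (f • x) i)) := by rw [hte, hue]
      _ = _ := by
        congr 1
        rw [smul_add, ← Pi.single_smul']
        congr 2
        simp only [Pi.smul_apply, smul_eq_mul]
        ring
  have hbase : Good (Pi.single i₀ 1) := ⟨1, one_smul _ _, fun f => by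
    rw [one_mul, inv_one, mul_one, ← Pi.single_smul', smul_eq_mul, mul_one]⟩
  have hgood1 : ∀ x : Fin Fr.m → F, x i₀ = 1 → Good x := by
    intro x hx
    have key : ∀ s : Finset (Fin Fr.m), i₀ ∉ s → Good (Pi.single i₀ 1 + ∑ i ∈ s, Pi.single i (x i)) := by
      intro s
      induction s using Finset.induction with
      | empty => intro _; rwa [sum_empty, add_zero]
      | insert a s ha ih =>
        intro hs
        rw [mem_insert, not_or] at hs
        have h := hstep _ (ih hs.2) i₀ a hs.1 (x a)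
        have h0 : (Pi.single i₀ (1 : F) + ∑ i ∈ s, Pi.single i (x i) : Fin Fr.m → F) i₀ = 1 := by
          rw [Pi.add_apply, Pi.single_eq_same, Finset.sum_apply,
            sum_eq_zero fun i hi => Pi.single_eq_of_ne (fun e : i₀ = i => hs.2 (e ▸ hi)) _, add_zero]
        rw [h0, mul_one, add_assoc, add_comm (∑ i ∈ s, _)] at h
        rwa [sum_insert ha]
    have h := key (univ.erase i₀) (notMem_erase _ _)
    have e : (Pi.single i₀ (1 : F) + ∑ i ∈ univ.erase i₀, Pi.single i (x i) : Fin Fr.m → F) = x := by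
      conv_rhs => rw [← Finset.univ_sum_single x, ← add_sum_erase _ _ (mem_univ i₀), hx]
    rwa [e] at h
  have hgood2 : ∀ x : Fin Fr.m → F, (∃ j, j ≠ i₀ ∧ x j ≠ 0) → Good x := by
    rintro x ⟨j, hj, hxj⟩
    let a := (1 - x i₀) / x j
    have h := hstep _ (hgood1 (x + Pi.single i₀ (a * x j)) (by
      simp [a, div_mul_cancel₀ _ hxj])) j i₀ hj (-a)
    have e : x + Pi.single i₀ (a * x j) + Pi.single i₀ (-a * (x + Pi.single i₀ (a * x j) : Fin Fr.m → F) j) = x := by
      rw [Pi.add_apply, Pi.single_eq_of_ne hj, add_zero, add_assoc, ← Pi.single_add, neg_mul,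
        add_neg_cancel, Pi.single_zero, add_zero]
    rwa [e] at h
  have hgood : ∀ x : Fin Fr.m → F, x ≠ 0 → Good x := by
    intro x hx
    by_cases h : ∃ j, j ≠ i₀ ∧ x j ≠ 0
    · exact hgood2 x h
    push Not at h
    have hx0 : x i₀ ≠ 0 := fun e => hx (funext fun j => (eq_or_ne j i₀).elim (fun hj => hj ▸ e) (h j))
    let j : Fin Fr.m := ⟨1, by omega⟩
    have hj : j ≠ i₀ := by simp [j, i₀]
    have h1 := hstep _ (hgood2 (x + Pi.single j (1 * x i₀)) ⟨j, hj, by simp [h j hj, hx0]⟩) i₀ j hj.symm (-1)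
    have e : x + Pi.single j (1 * x i₀) + Pi.single j (-1 * (x + Pi.single j (1 * x i₀) : Fin Fr.m → F) i₀) = x := by
      rw [Pi.add_apply, Pi.single_eq_of_ne hj.symm, add_zero, add_assoc, ← Pi.single_add, neg_mul,
        add_neg_cancel, Pi.single_zero, add_zero]
    rwa [e] at h1
  have hcomp : ∀ c (hc : D.inc c I.B₀), ∃ x, x ≠ 0 ∧ ∀ g, g ∈ I.El' c hc ↔ ∃ f : F, φ (f • x) = g := by
    intro c hc
    obtain ⟨g₀, hg₀, hg₁⟩ := I.El'_ne_bot c hc
    obtain ⟨x, rfl⟩ := (hφEl _).1 hg₀.1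
    have hx : x ≠ 0 := fun e => hg₁ (by rw [e, hφ0])
    obtain ⟨t, ht, hte⟩ := hgood x hx
    have hc' : D.inc (t • Fr.c i₀) I.B₀ := by
      have := (I.compat t (Fr.c i₀) I.B₀).2 (Fr.axis i₀)
      rwa [ht] at this
    have hmem : ∀ f : F, φ (f • x) ∈ I.El' (t • Fr.c i₀) hc' := fun f => by
      rw [← hte]
      exact I.El'_conj ht hc' ((hφcomp _ _).2 ⟨f, rfl⟩)
    have hceq : t • Fr.c i₀ = c := by
      by_contra hne
      exact hg₁ (I.El'_disjoint hne (by simpa using hmem 1) hg₀)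
    subst hceq
    refine ⟨x, hx, fun g => ⟨fun hg => ?_, fun ⟨f, hf⟩ => hf ▸ hmem f⟩⟩
    have hbij : Function.Bijective fun f : F => (⟨φ (f • x), hmem f⟩ : I.El' (t • Fr.c i₀) hc') :=
      (Nat.bijective_iff_injective_and_card _).2 ⟨fun f f' h =>
        smul_left_injective F hx (hφinj (congrArg Subtype.val h)),
        by rw [Nat.card_eq_fintype_card, hFq, I.card_El.2]⟩
    obtain ⟨f, hf⟩ := hbij.2 ⟨g, hg⟩
    exact ⟨f, congrArg Subtype.val hf⟩
  choose dir hdir0 hdir using hcomp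
  have houtx : ∀ x : Fin Fr.m → F, ¬ D.inc (φ x • Fr.o) I.B₀ := fun x => I.El_out (hφmem x) Fr.out
  choose coord hcoord using fun (p : P) (hp : ¬ D.inc p I.B₀) => show ∃ x, φ x • Fr.o = p from by
    obtain ⟨g, hg, hgp⟩ := I.El_regular Fr.out hp
    obtain ⟨x, rfl⟩ := (hφEl g).1 hg
    exact ⟨x, hgp⟩
  have hsemi : ∀ x y, φ x • Fr.o = φ y • Fr.o → x = y := fun x y h => hφinj
    (inv_mul_eq_one.1 (I.El_semi ((I.El I.B₀).mul_mem ((I.El I.B₀).inv_mem (hφmem y)) (hφmem x)) Fr.out
      (by rw [mul_smul, h, inv_smul_smul]))).symm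
  let Φ : P → Fin (Fr.m + 1) → F := fun p =>
    if hp : D.inc p I.B₀ then Fin.cons 0 (dir p hp) else Fin.cons 1 (coord p hp)
  have hΦin : ∀ p (hp : D.inc p I.B₀), Φ p = Fin.cons 0 (dir p hp) := fun p hp => dif_pos hp
  have hΦout : ∀ x, Φ (φ x • Fr.o) = Fin.cons 1 x := fun x => by
    show (dite _ _ _) = _
    rw [dif_neg (houtx x), hsemi _ _ (hcoord _ (houtx x))]
  have hΦout' : ∀ p, ¬ D.inc p I.B₀ → ∃ x, φ x • Fr.o = p := fun p hp => ⟨coord p hp, hcoord p hp⟩
  have hinf : ∀ p, D.inc p I.B₀ ↔ Φ p 0 = 0 := by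
    intro p
    by_cases hp : D.inc p I.B₀
    · rw [hΦin p hp]; simp [hp]
    · obtain ⟨x, rfl⟩ := hΦout' p hp
      rw [hΦout]; simp [hp]
  have hne : ∀ p, Φ p ≠ 0 := by
    intro p e
    by_cases hp : D.inc p I.B₀
    · rw [hΦin p hp] at e
      exact hdir0 p hp (funext fun i => by simpa using congrFun e i.succ)
    · exact hp ((hinf p).2 (by rw [e]; rfl))
  have hinj : ∀ p p', Prop1 (Φ p) (Φ p') → p = p' := by
    rintro p p' ⟨a, ha, he⟩
    have h0 := congrFun he 0
    by_cases hp : D.inc p I.B₀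
    · have hp' : D.inc p' I.B₀ := (hinf p').2 (by rw [h0, Pi.smul_apply, (hinf p).1 hp, smul_zero])
      have hd : dir p' hp' = a • dir p hp := funext fun i => by
        have := congrFun he i.succ
        rwa [hΦin p hp, hΦin p' hp', Pi.smul_apply, Fin.cons_succ, Fin.cons_succ] at this
      by_contra hne'
      have h1 : φ (dir p' hp') ∈ I.El' p hp := (hdir p hp _).2 ⟨a, by rw [hd]⟩
      exact hφne _ (hdir0 p' hp') (I.El'_disjoint hne' h1 ((hdir p' hp' _).2 ⟨1, by rw [one_smul]⟩))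
    · have hp' : ¬ D.inc p' I.B₀ := fun hp' => hp ((hinf p).2 (by
        rw [(hinf p').1 hp', Pi.smul_apply, smul_eq_mul] at h0
        exact (mul_eq_zero.1 h0.symm).resolve_left ha))
      obtain ⟨x, rfl⟩ := hΦout' p hp
      obtain ⟨x', rfl⟩ := hΦout' p' hp'
      rw [hΦout, hΦout, Pi.smul_apply, Fin.cons_zero, Fin.cons_zero, smul_eq_mul, mul_one] at h0
      rw [hΦout, hΦout, ← h0, one_smul] at he
      rw [(Fin.cons_inj.1 he).2]
  have hsurj : ∀ v, v ≠ 0 → ∃ p, Prop1 v (Φ p) := by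
    intro v hv
    rw [← Fin.cons_self_tail v]
    by_cases h0 : v 0 = 0
    · have ht : Fin.tail v ≠ 0 := fun e => hv (funext fun i => by
        refine Fin.cases h0 (fun i => congrFun e i) i)
      obtain ⟨c, hc, hgc⟩ := I.exists_El' (hφmem (Fin.tail v))
      obtain ⟨f, hf⟩ := (hdir c hc _).1 hgc
      have hfe := hφinj hf
      have hf0 : f ≠ 0 := fun e => ht (by rw [← hfe, e, zero_smul])
      refine ⟨c, f⁻¹, inv_ne_zero hf0, ?_⟩
      rw [hΦin c hc, h0, ← hfe]
      funext i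
      refine Fin.cases ?_ (fun i => ?_) i
      · simp
      · simp [inv_mul_cancel_left₀ hf0]
    · refine ⟨φ ((v 0)⁻¹ • Fin.tail v) • Fr.o, (v 0)⁻¹, inv_ne_zero h0, ?_⟩
      rw [hΦout]
      funext i
      refine Fin.cases ?_ (fun i => ?_) i
      · simp [inv_mul_cancel₀ h0]
      · simp [Fin.tail]
  -- collinearity
  have hin : ∀ u v w, D.inc u I.B₀ → D.inc v I.B₀ → u ≠ v → w ∈ D.line u v →
      Φ w ∈ Submodule.span F {Φ u, Φ v} := by
    intro u v w hu hv huv hw
    have hwB : D.inc w I.B₀ := D.mem_line.1 hw _ hu hv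
    obtain ⟨a, ha, b, hb, he⟩ := I.El'_le_sup Fr.out hu hv hwB huv hw ((hdir w hwB _).2 ⟨1, rfl⟩)
    obtain ⟨fa, rfl⟩ := (hdir u hu a).1 ha
    obtain ⟨fb, rfl⟩ := (hdir v hv b).1 hb
    rw [← hφadd, one_smul] at he
    refine Submodule.mem_span_pair.2 ⟨fa, fb, ?_⟩
    rw [hΦin u hu, hΦin v hv, hΦin w hwB, hφinj he]
    funext i
    refine Fin.cases ?_ (fun i => ?_) i <;> simp
  have hspan : ∀ u v w, u ≠ v → ¬ D.inc u I.B₀ → w ∈ D.line u v →
      Φ w ∈ Submodule.span F {Φ u, Φ v} := by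
    intro u v w huv hu hw
    obtain ⟨c, hc, hcB⟩ := I.full u v huv I.B₀
    have huc : u ≠ c := fun e => hu (e ▸ hcB)
    have heq : D.line u c = D.line u v := D.line_eq_of_mem huv huc hc
    obtain ⟨x, rfl⟩ := hΦout' u hu
    have hpts : ∀ z ∈ D.line (φ x • Fr.o) c, z = c ∨ ∃ f : F, Φ z = Φ (φ x • Fr.o) + f • Φ c := by
      intro z hz
      rcases eq_or_ne z c with rfl | hzc
      · exact .inl rfl
      right
      obtain ⟨g, hg, rfl⟩ := I.El'_regular hcB (houtx x) (by rwa [D.line_comm] at hz) hzc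
      obtain ⟨f, rfl⟩ := (hdir c hcB g).1 hg
      refine ⟨f, ?_⟩
      rw [← mul_smul, ← hφadd, hΦout, hΦout, hΦin c hcB]
      funext i
      refine Fin.cases ?_ (fun i => ?_) i <;> simp [add_comm]
    have hcmem : Φ c ∈ Submodule.span F {Φ (φ x • Fr.o), Φ v} := by
      rcases hpts v (heq ▸ D.right_mem_line _ _) with rfl | ⟨f, hf⟩
      · exact Submodule.subset_span (by simp)
      · rcases eq_or_ne f 0 with rfl | hf0
        · rw [zero_smul, add_zero] at hf
          exact absurd (hinj v _ ⟨1, one_ne_zero, by rw [one_smul, hf]⟩).symm huv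
        · refine Submodule.mem_span_pair.2 ⟨-f⁻¹, f⁻¹, ?_⟩
          rw [hf, smul_add, smul_smul, inv_mul_cancel₀ hf0, one_smul, neg_smul, neg_add_cancel_left]
    rcases hpts w (heq ▸ hw) with rfl | ⟨f, hf⟩
    · exact hcmem
    · rw [hf]
      exact add_mem (Submodule.subset_span (by simp)) (Submodule.smul_mem _ _ hcmem)
  have hforward : ∀ u v w, u ≠ v → w ∈ D.line u v → Φ w ∈ Submodule.span F {Φ u, Φ v} := by
    intro u v w huv hw
    by_cases hu : D.inc u I.B₀
    · by_cases hv : D.inc v I.B₀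
      · exact hin u v w hu hv huv hw
      · rw [Set.pair_comm]
        exact hspan v u w huv.symm hv (by rwa [D.line_comm])
    · exact hspan u v w huv hu hw
  have hcol : ∀ u v w, u ≠ v → (w ∈ D.line u v ↔ Φ w ∈ Submodule.span F {Φ u, Φ v}) := by
    intro u v w huv
    refine ⟨hforward u v w huv, fun hw => ?_⟩
    let S : Finset P := univ.filter fun p => Φ p ∈ Submodule.span F {Φ u, Φ v}
    have hsub : D.line u v ⊆ S := fun p hp => mem_filter.2 ⟨mem_univ _, hforward u v p huv hp⟩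
    choose pt hpt using hsurj
    let tgt : Option F → P := fun t => match t with
      | none => v
      | some t => if h : Φ u + t • Φ v = 0 then v else pt _ h
    have hS : S ⊆ univ.image tgt := by
      intro p hp
      rcases span_pair_cases (mem_filter.1 hp).2 with ⟨b, hb⟩ | ⟨a, t, ha, hat⟩
      · exact mem_image.2 ⟨none, mem_univ _,
          hinj v p ⟨b, fun e => hne p (by rw [hb, e, zero_smul]), hb⟩⟩
      · have hnz : Φ u + t • Φ v ≠ 0 := fun e => hne p (by rw [hat, e, smul_zero])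
        refine mem_image.2 ⟨some t, mem_univ _, ?_⟩
        simp only [tgt, dif_neg hnz]
        exact hinj _ p ((hpt _ hnz).symm.trans ⟨a, ha, hat⟩)
    have hcard : S.card ≤ (D.line u v).card := by
      rw [I.full.line_eq huv, ← hFq]
      exact (card_le_card hS).trans (card_image_le.trans (by simp))
    rw [eq_of_subset_of_card_le hsub hcard]
    exact mem_filter.2 ⟨mem_univ _, hw⟩
  have hcard : Fintype.card P = D.k + D.q ^ Fr.m := by
    have h1 : Nat.card (I.El I.B₀) = D.q ^ Fr.m := by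
      rw [← hFq, show Fintype.card F ^ Fr.m = Fintype.card (Fin Fr.m → F) by simp,
        ← Nat.card_eq_fintype_card (α := Fin Fr.m → F)]
      exact (Nat.card_congr (Equiv.ofBijective (fun x => (⟨φ x, hφmem x⟩ : I.El I.B₀))
        ⟨fun x y h => hφinj (congrArg Subtype.val h), fun g => by
          obtain ⟨x, hx⟩ := (hφEl _).1 g.2; exact ⟨x, Subtype.ext hx⟩⟩)).symm
    have := D.add_two_le
    rw [← h1, I.card_El.1]
    omega
  refine ⟨{
    m := Fr.m, two_le := hm, F := F, card_F := hFq, o := Fr.o, out := Fr.out, Φ := Φ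
    origin := ?_, Φ_ne := hne, Φ_inj := hinj, Φ_surj := hsurj, collinear := hcol
    inf_iff := hinf, card_out := hcard, translation := ?_, shear := ?_, hyper := ?_ }⟩
  · have h := hΦout 0
    rw [hφ0, one_smul] at h
    rw [h]
    funext i
    refine Fin.cases ?_ (fun i => ?_) i <;> simp [Fin.succ_ne_zero]
  · intro a
    refine ⟨φ a, hφmem a, fun p => ⟨1, one_ne_zero, ?_⟩⟩
    rw [one_smul]
    by_cases hp : D.inc p I.B₀
    · rw [((I.mem_El).1 (hφmem a)).1 p hp, (hinf p).1 hp, zero_smul, add_zero]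
    · obtain ⟨x, rfl⟩ := hΦout' p hp
      rw [← mul_smul, ← hφadd, hΦout, hΦout]
      funext i
      refine Fin.cases ?_ (fun i => ?_) i <;> simp [add_comm]
  · intro i j hij f
    obtain ⟨t, ht, hto, hte⟩ := hφshear i j hij f
    refine ⟨t, fun p => ?_⟩
    by_cases hp : D.inc p I.B₀
    · have hp' : D.inc (t • p) I.B₀ := by
        have := (I.compat t p I.B₀).2 hp
        rwa [ht] at this
      have h1 : t * φ (dir p hp) * t⁻¹ ∈ I.El' (t • p) hp' :=
        I.El'_conj ht hp' ((hdir p hp _).2 ⟨1, by rw [one_smul]⟩)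
      rw [hte] at h1
      obtain ⟨a, ha⟩ := (hdir _ hp' _).1 h1
      have hae := hφinj ha
      have ha0 : a ≠ 0 := by
        rintro rfl
        rw [zero_smul] at hae
        have hi : dir p hp i = 0 := by
          have := congrFun hae i
          simp [hij] at this
          exact this.symm
        rw [hi, mul_zero, Pi.single_zero, add_zero] at hae
        exact hdir0 p hp hae.symm
      refine ⟨a⁻¹, inv_ne_zero ha0, ?_⟩
      rw [hΦin p hp, hΦin _ hp']
      funext l
      refine Fin.cases ?_ (fun l => ?_) l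
      · simp [(Fin.succ_ne_zero j).symm]
      · have := congrFun hae l
        simp only [Pi.add_apply, Pi.smul_apply, smul_eq_mul, Fin.cons_succ] at this ⊢
        rw [eq_comm, inv_mul_eq_iff_eq_mul₀ ha0, this]
        congr 1
        rcases eq_or_ne l j with rfl | hlj
        · simp
        · rw [Pi.single_eq_of_ne hlj, Pi.single_eq_of_ne (fun e => hlj (Fin.succ_inj.1 e))]
    · obtain ⟨x, rfl⟩ := hΦout' p hp
      refine ⟨1, one_ne_zero, ?_⟩
      have e : t • φ x • Fr.o = (t * φ x * t⁻¹) • Fr.o := by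
        rw [mul_smul, mul_smul, inv_smul_eq_iff.2 hto.symm]
      rw [one_smul, e, hte, hΦout, hΦout]
      funext l
      refine Fin.cases ?_ (fun l => ?_) l
      · simp [(Fin.succ_ne_zero j).symm]
      · rcases eq_or_ne l j with rfl | hlj
        · simp
        · simp [hlj, Fin.succ_inj]
  · intro i
    refine ⟨Fr.b i, fun p => ?_⟩
    have hstab : ∀ x : Fin Fr.m → F, φ x • Fr.b i = Fr.b i ↔ x i = 0 := by
      intro x
      have hrest : ∀ s : Finset (Fin Fr.m), i ∉ s → φ (∑ j ∈ s, Pi.single j (x j)) • Fr.b i = Fr.b i := by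
        intro s
        induction s using Finset.induction with
        | empty => intro _; rw [sum_empty, hφ0, one_smul]
        | insert a s ha ih =>
          intro hs
          rw [mem_insert, not_or] at hs
          rw [sum_insert ha, hφadd, mul_smul, ih hs.2]
          exact Fr.comp_stab (Ne.symm hs.1) ((hφcomp _ _).2 ⟨_, rfl⟩)
      have e : x = Pi.single i (x i) + ∑ j ∈ univ.erase i, Pi.single j (x j) := by
        rw [add_sum_erase (f := fun j => Pi.single j (x j)) _ (mem_univ i), Finset.univ_sum_single]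
      have e2 : φ x • Fr.b i = φ (Pi.single i (x i)) • Fr.b i := by
        conv_lhs => rw [e, hφadd, mul_smul, hrest _ (notMem_erase _ _)]
      rw [e2]
      constructor
      · intro h
        have := Fr.comp_not_stab ((hφcomp _ _).2 ⟨_, rfl⟩) h
        rw [← hφ0] at this
        have h2 := congrFun (hφinj this) i
        simpa using h2
      · intro h
        rw [h, Pi.single_zero, hφ0, one_smul]
    by_cases hp : D.inc p I.B₀
    · rw [hΦin p hp, Fin.cons_succ, ← hstab]
      have hmem : φ (dir p hp) ∈ I.El' p hp := (hdir p hp _).2 ⟨1, by rw [one_smul]⟩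
      exact ⟨fun h => I.stab_of_centre h hmem,
        I.centre_of_stab Fr.out (Fr.origin i) hmem (hφne _ (hdir0 p hp))⟩
    · obtain ⟨x, rfl⟩ := hΦout' p hp
      rw [hΦout, Fin.cons_succ, ← hstab, I.stab_iff Fr.out (Fr.origin i) (hφmem x)]

end CfsgLib.SymDesign
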