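import Cfsg.Agent.Lib.SymDesign.Leftover

/-!
# Pencils

A point outside all blocks of a pencil gives normal subgroups of the semiregular group, of order
strictly between the orbit length and its double.
-/

set_option autoImplicit false
set_option linter.unusedSectionVars false
set_option linter.style.haveILetI false

namespace CfsgLib.SymDesign

open Finset

variable {G P Q : Type*} [Group G] [MulAction G P] [MulAction G Q] [Fintype P] [Fintype Q]

namespace Elat

variable {D : Des P Q} (E : Elat G D)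

include E

theorem mem_stab_line {x y : P} {g : G} (hg : ∀ B, D.inc x B → D.inc y B → g • B = B) :
    g ∈ finStab (D.line x y) := by
  intro z
  simp only [Des.mem_line]
  exact forall_congr' fun B => forall_congr' fun a => forall_congr' fun b => E.inc_iff (hg B a b) z

/-- The point is on no block of the pencil of `B` and `C`. -/
def Outside (D : Des P Q) (B C : Q) (z : P) : Prop :=
  ∀ R, (∀ x, D.inc x B → D.inc x C → D.inc x R) → ¬ D.inc z R

theorem outside_smul {B C : Q} {z : P} (hz : Outside D B C z) {g : G}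
    (hg : ∀ x, D.inc x B → D.inc x C → g • x = x) : Outside D B C (g • z) := by
  intro R hR hzR
  refine hz (g⁻¹ • R) (fun x a b => ?_) ((E.compat g z (g⁻¹ • R)).1 (by rwa [smul_inv_smul]))
  refine (E.compat g x (g⁻¹ • R)).1 ?_
  rw [smul_inv_smul, hg x a b]
  exact hR x a b

/-- The element `h⁻¹ u h u⁻¹`. -/
def twist (h u : G) : G := h⁻¹ * (u * h * u⁻¹)

theorem twist_mem {B C : Q} {h u : G} (hC : h • C = C) (hu : u ∈ E.K C) : twist h u ∈ E.K C := by
  have h1 := E.conj h⁻¹ C u hu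
  rw [inv_smul_eq_iff.2 hC.symm, inv_inv] at h1
  have h2 := (E.K C).mul_mem h1 ((E.K C).inv_mem hu)
  simpa [twist, mul_assoc] using h2

theorem twist_fix {B C : Q} (hne : B ≠ C) {h u : G} (hh : h ∈ E.sub B C) (hu : u ∈ E.K C) {z : P}
    (hz : Outside D B C z) {R : Q} (h1 : D.inc z R) (h2 : D.inc (h • z) R) :
    twist h u • R = R := by
  classical
  obtain ⟨hhB, hhC⟩ := E.mem_sub.1 hh
  have hzB : ¬ D.inc z B := hz B fun _ a _ => a
  have hzC : ¬ D.inc z C := hz C fun _ _ b => b
  have hR := E.fixed_of_two hhB hzB h1 h2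
  set g := twist h u with hg
  have hgK : g ∈ E.K C := E.twist_mem (B := B) hhC hu
  by_contra hgR
  have he : h * g ∈ E.K (u • B) := by
    have := E.conj u B h hhB
    simpa [hg, twist, ← mul_assoc] using this
  have heR : (h * g) • R ≠ R := fun h' => hgR (by
    rw [mul_smul] at h'
    exact (smul_left_cancel h (h'.trans hR.symm)))
  have huBC : C ≠ u • B := fun h' => hne (smul_left_cancel u (h'.symm.trans (E.fixBlock hu).symm))
  have hRC : R ≠ C := fun h' => hzC (h' ▸ h1)
  have hD : D.pt B ∩ D.pt C = D.pt C ∩ D.pt (u • B) := by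
    refine eq_of_subset_of_card_le (fun x hx => ?_)
      (by rw [D.card_pt_inter hne, D.card_pt_inter huBC])
    rw [mem_inter, D.mem_pt, D.mem_pt] at hx ⊢
    refine ⟨hx.2, ?_⟩
    have := (E.compat u x B).2 hx.1
    rwa [E.fixPt C u hu x hx.2] at this
  have hsub : D.pt R ∩ D.pt C ⊆ D.pt B ∩ D.pt C := by
    intro x hx
    rw [mem_inter, D.mem_pt, D.mem_pt] at hx
    obtain ⟨x', rfl⟩ : ∃ x', h • x' = x := ⟨h⁻¹ • x, smul_inv_smul _ _⟩
    rw [E.inc_iff hR, E.inc_iff hhC] at hx
    have h3 : D.inc (h • x') ((h * g) • R) := by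
      rw [mul_smul, E.compat]
      have := (E.compat g x' R).2 hx.1
      rwa [E.fixPt C g hgK x' hx.2] at this
    have h4 := E.inter_moved he heR ((E.inc_iff hR x').2 hx.1) h3
    rw [hD, mem_inter, D.mem_pt, D.mem_pt]
    exact ⟨(E.inc_iff hhC x').2 hx.2, h4⟩
  have heq := eq_of_subset_of_card_le hsub (by rw [D.card_pt_inter hne, D.card_pt_inter hRC])
  refine hz R (fun x a b => ?_) h1
  have : x ∈ D.pt R ∩ D.pt C := heq ▸ mem_inter.2 ⟨D.mem_pt.2 a, D.mem_pt.2 b⟩
  exact D.mem_pt.1 (mem_inter.1 this).1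

theorem card_le_of_twist [Finite G] {B C : Q} {h : G} (hhB : h ∈ E.K B) (h1 : h ≠ 1)
    (I : Subgroup G) (hI : ∀ u ∈ E.K C, twist h u ∈ I) :
    (MulAction.orbit (E.K C) B).ncard ≤ Nat.card I := by
  choose u hu using fun B' : MulAction.orbit (E.K C) B => B'.2
  rw [← Nat.card_coe_set_eq]
  refine Nat.card_le_card_of_injective (fun B' => ⟨twist h (u B' : G), hI _ (u B').2⟩) ?_
  intro B' B'' heq
  have h2 : (u B' : G) * h * (u B' : G)⁻¹ = (u B'' : G) * h * (u B'' : G)⁻¹ :=
    mul_left_cancel (congrArg Subtype.val heq)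
  apply Subtype.ext
  by_contra hne
  have hm' := E.conj (u B' : G) B h hhB
  have hm'' := E.conj (u B'' : G) B h hhB
  rw [show (u B' : G) • B = B' from hu B'] at hm'
  rw [show (u B'' : G) • B = B'' from hu B'', ← h2] at hm''
  have := E.disjointK hne hm' hm''
  exact h1 (conj_eq_one_iff.1 this)

theorem stab_line_normal [Finite G] {B C : Q} (hne : B ≠ C) {h : G} (hh : h ∈ E.sub B C)
    (h1 : h ≠ 1) {z : P} (hz : Outside D B C z) :
    (MulAction.orbit (E.K C) B).ncard < Nat.card (E.K C ⊓ finStab (D.line z (h • z)) : Subgroup G) ∧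
      Nat.card (E.K C ⊓ finStab (D.line z (h • z)) : Subgroup G) <
        2 * (MulAction.orbit (E.K C) B).ncard ∧
      ∀ u ∈ E.K C, ∀ j ∈ E.K C ⊓ finStab (D.line z (h • z)),
        u * j * u⁻¹ ∈ E.K C ⊓ finStab (D.line z (h • z)) := by
  classical
  haveI := Fintype.ofFinite G
  obtain ⟨hhB, hhC⟩ := E.mem_sub.1 hh
  have hzB : ¬ D.inc z B := hz B fun _ a _ => a
  have hzC : ¬ D.inc z C := hz C fun _ _ b => b
  have hne' : z ≠ h • z := fun e => h1 (E.semi B h hhB z hzB e.symm)
  set J := E.K C ⊓ finStab (D.line z (h • z)) with hJ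
  set t := (MulAction.orbit (E.K C) B).ncard with ht
  have hgen : ∀ u ∈ E.K C, twist h u ∈ J := fun u hu =>
    ⟨E.twist_mem (B := B) hhC hu, E.mem_stab_line fun R a b => E.twist_fix hne hh hu hz a b⟩
  set L' := (D.line z (h • z)).filter fun w => ¬ D.inc w C with hL'
  have hzL : z ∈ L' := mem_filter.2 ⟨D.left_mem_line _ _, hzC⟩
  have hLlt : L'.card < 2 * t :=
    lt_of_le_of_lt (card_filter_le _ _) (E.line_lt hne.symm hne')
  have hinv : ∀ j ∈ J, ∀ w ∈ L', j • w ∈ L' := fun j hj w hw => by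
    rw [hL', mem_filter] at hw ⊢
    exact ⟨(mem_finStab.1 hj.2 w).2 hw.1, fun h' => hw.2 ((E.inc_iff (E.fixBlock hj.1) w).1 h')⟩
  have hsemi : ∀ j ∈ J, ∀ w ∈ L', j • w = w → j = 1 := fun j hj w hw =>
    E.semi C j hj.1 w (mem_filter.1 hw).2
  set I := Subgroup.closure ((fun u => twist h u) '' (E.K C : Set G)) with hI
  have hIJ : I ≤ J := (Subgroup.closure_le _).2 fun g ⟨u, hu, hg⟩ => hg ▸ hgen u hu
  have hIcard : t ≤ Nat.card I :=
    E.card_le_of_twist hhB h1 I fun u hu => Subgroup.subset_closure ⟨u, hu, rfl⟩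
  have hJcard : t ≤ Nat.card J := hIcard.trans (Subgroup.card_le_of_le hIJ)
  obtain ⟨hLJ, htrans⟩ := regular_of_semireg J L' hzL hinv hsemi (by omega)
  obtain ⟨hLI, -⟩ := regular_of_semireg I L' hzL (fun j hj => hinv j (hIJ hj))
    (fun j hj => hsemi j (hIJ hj)) (by omega)
  have hIJeq : I = J := Subgroup.eq_of_le_of_card_ge hIJ (by omega)
  refine ⟨?_, by omega, ?_⟩
  · by_contra hle
    have hJt : Nat.card J = t := by omega
    choose u hu using fun B' : MulAction.orbit (E.K C) B => B'.2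
    let φ : MulAction.orbit (E.K C) B → J := fun B' => ⟨twist h (u B' : G), hgen _ (u B').2⟩
    have hinj : Function.Injective φ := by
      intro B' B'' heq
      have h2 : (u B' : G) * h * (u B' : G)⁻¹ = (u B'' : G) * h * (u B'' : G)⁻¹ :=
        mul_left_cancel (congrArg Subtype.val heq)
      apply Subtype.ext
      by_contra hne''
      have hm' := E.conj (u B' : G) B h hhB
      have hm'' := E.conj (u B'' : G) B h hhB
      rw [show (u B' : G) • B = B' from hu B'] at hm'
      rw [show (u B'' : G) • B = B'' from hu B'', ← h2] at hm''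
      exact h1 (conj_eq_one_iff.1 (E.disjointK hne'' hm' hm''))
    have hbij : Function.Bijective φ :=
      (Nat.bijective_iff_injective_and_card φ).2 ⟨hinj, by rw [Nat.card_coe_set_eq, hJt]⟩
    have hhz : h • z ∈ L' := by
      refine mem_filter.2 ⟨D.right_mem_line _ _, fun h' => hzC ((E.inc_iff hhC z).1 h')⟩
    obtain ⟨j, hj, hjz⟩ := htrans _ hhz
    obtain ⟨B', hB'⟩ := hbij.2 ⟨j⁻¹, J.inv_mem hj⟩
    have hB'' : twist h (u B' : G) = j⁻¹ := congrArg Subtype.val hB'
    have hm := E.conj (u B' : G) B h hhB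
    rw [show (u B' : G) * h * (u B' : G)⁻¹ = h * j⁻¹ by rw [← hB'', twist, mul_inv_cancel_left]] at hm
    have hjout : Outside D B C (j • z) :=
      E.outside_smul hz fun x _ b => E.fixPt C j hj.1 x b
    have h4 := E.semi _ _ hm (j • z) ?_ ?_
    · have hhj : h = j := mul_inv_eq_one.1 h4
      exact h1 (E.disjointK hne hhB (hhj ▸ hj.1))
    · refine hjout _ fun x a b => ?_
      have := (E.compat (u B' : G) x B).2 a
      rwa [E.fixPt C _ (u B').2 x b] at this
    · rw [mul_smul, inv_smul_smul, hjz]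
  · intro w hw j hj
    rw [← hIJeq] at hj ⊢
    have hmap : I.map (MulAut.conj w).toMonoidHom ≤ I := by
      rw [hI, MonoidHom.map_closure, Subgroup.closure_le]
      rintro _ ⟨_, ⟨v, hv, rfl⟩, rfl⟩
      have e : (MulAut.conj w).toMonoidHom (twist h v) = (twist h w)⁻¹ * twist h (w * v) := by
        simp only [twist, MulEquiv.coe_toMonoidHom, MulAut.conj_apply]
        group
      rw [e]
      exact Subgroup.mul_mem _ (Subgroup.inv_mem _ (Subgroup.subset_closure ⟨w, hw, rfl⟩))
        (Subgroup.subset_closure ⟨w * v, (E.K C).mul_mem hw hv, rfl⟩)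
    exact hmap ⟨j, hj, rfl⟩

/-- With a point outside a pencil, the group is no group of prime power order. -/
theorem not_pgroup [Finite G] {B C : Q} (hne : B ≠ C) {z : P} (hz : Outside D B C z) {p : ℕ}
    (hp : p.Prime) (hK : IsPGroup p (E.K C)) : False := by
  haveI : Fact p.Prime := ⟨hp⟩
  obtain ⟨h, hh, h1⟩ : ∃ h ∈ E.sub B C, h ≠ 1 :=
    (Subgroup.bot_or_exists_ne_one _).resolve_left fun e => by
      have := E.two_le_sub hne
      rw [e, Subgroup.card_bot] at this
      omega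
  obtain ⟨h2, h3, -⟩ := E.stab_line_normal hne hh h1 hz
  obtain ⟨a, ha⟩ := IsPGroup.iff_card.1
    (hK.to_le (inf_le_left : E.K C ⊓ finStab (D.line z (h • z)) ≤ E.K C))
  obtain ⟨m, hm⟩ := IsPGroup.iff_card.1 hK
  have hd : (MulAction.orbit (E.K C) B).ncard ∣ p ^ m := by
    rw [← hm, E.card_eq_orbit_mul C B]; exact Dvd.intro _ rfl
  obtain ⟨b, -, hb⟩ := (Nat.dvd_prime_pow hp).1 hd
  rw [ha, hb] at h2 h3
  have hlt : b < a := (Nat.pow_lt_pow_iff_right hp.one_lt).1 h2
  have : 2 * p ^ b ≤ p ^ a := calc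
    2 * p ^ b ≤ p * p ^ b := Nat.mul_le_mul_right _ hp.two_le
    _ = p ^ (b + 1) := (pow_succ' p b).symm
    _ ≤ p ^ a := Nat.pow_le_pow_right hp.pos hlt
  omega

/-- With a point outside a pencil, each element lies in a proper normal subgroup. -/
theorem mem_proper_normal [Finite G] {B C : Q} (hne : B ≠ C) {z : P} (hz : Outside D B C z)
    {h : G} (hh : h ∈ E.sub B C) (h1 : h ≠ 1) :
    ∃ N : Subgroup G, N ≤ E.K B ∧ h ∈ N ∧ N ≠ E.K B ∧ ∀ u ∈ E.K B, ∀ j ∈ N, u * j * u⁻¹ ∈ N := by
  classical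
  obtain ⟨hhB, hhC⟩ := E.mem_sub.1 hh
  have hzB : ¬ D.inc z B := hz B fun _ a _ => a
  have hzC : ¬ D.inc z C := hz C fun _ _ b => b
  have hne' : z ≠ h • z := fun e => h1 (E.semi B h hhB z hzB e.symm)
  obtain ⟨h2, -, -⟩ := E.stab_line_normal hne hh h1 hz
  set J := E.K C ⊓ finStab (D.line z (h • z)) with hJ
  obtain ⟨j, hj, hjB, hj1⟩ : ∃ j ∈ J, j • B = B ∧ j ≠ 1 := by
    by_contra hcon
    push Not at hcon
    refine not_le.2 h2 ?_
    rw [← Nat.card_coe_set_eq]
    refine Nat.card_le_card_of_injective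
      (fun a : J => (⟨(a : G) • B, ⟨⟨a, a.2.1⟩, rfl⟩⟩ : MulAction.orbit (E.K C) B)) ?_
    intro a b hab
    have hab' : (a : G) • B = (b : G) • B := congrArg Subtype.val hab
    have := hcon ((b : G)⁻¹ * a) (J.mul_mem (J.inv_mem b.2) a.2)
      (by rw [mul_smul, hab', inv_smul_smul])
    exact Subtype.ext (inv_mul_eq_one.1 this).symm
  have hjz : z ≠ j • z := fun e => hj1 (E.semi C j hj.1 z hzC e.symm)
  have hline : D.line z (j • z) = D.line z (h • z) :=
    D.line_eq_of_mem hne' hjz ((mem_finStab.1 hj.2 z).2 (D.left_mem_line _ _))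
  have hz' : Outside D C B z := fun R hR => hz R fun x a b => hR x b a
  obtain ⟨h4, h5, h6⟩ := E.stab_line_normal hne.symm (E.mem_sub.2 ⟨hj.1, hjB⟩) hj1 hz'
  rw [hline] at h4 h5 h6
  refine ⟨_, inf_le_left, ⟨hhB, ?_⟩, ?_, h6⟩
  · exact E.mem_stab_line fun R a b => E.fixed_of_two hhB hzB a b
  · intro heq
    rw [heq, E.card_eq_orbit_mul B C, mul_comm] at h5
    have := Nat.lt_of_mul_lt_mul_right h5
    have := E.two_le_sub hne
    omega

end Elat

end CfsgLib.SymDesign
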