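import Cfsg.Agent.Lib.SymDesign.Axial

/-!
# The elations with a given axis form a regular elementary abelian group
-/

set_option autoImplicit false
set_option linter.unusedSectionVars false
set_option linter.style.haveILetI false

namespace CfsgLib.SymDesign

open Finset

variable {G P Q : Type*} [Group G] [MulAction G P] [MulAction G Q] [Fintype P] [Fintype Q]

/-- The hypotheses of the theorem of Ito, with all lines meeting all blocks. -/
structure Ito (G : Type*) {P Q : Type*} [Group G] [MulAction G P] [MulAction G Q] [Fintype P]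
    [Fintype Q] [Finite G] [FaithfulSMul G P] (D : Des P Q) where
  compat : Compat G D.inc
  full : D.Full
  pairs : ∀ B C B' C' : Q, B ≠ C → B' ≠ C' → ∃ g : G, g • B = B' ∧ g • C = C'
  B₀ : Q
  transIn : ∀ x y, D.inc x B₀ → D.inc y B₀ → ∃ g : G, g • B₀ = B₀ ∧ g • x = y
  transOut : ∀ x y, ¬ D.inc x B₀ → ¬ D.inc y B₀ → ∃ g : G, g • B₀ = B₀ ∧ g • x = y
  K : Subgroup G
  nontriv : K ≠ ⊥
  norm : ∀ g : G, g • B₀ = B₀ → ∀ h ∈ K, g * h * g⁻¹ ∈ K
  fixK : ∀ h ∈ K, ∀ x, D.inc x B₀ → h • x = x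

theorem dvd_of_semireg [Finite G] (J : Subgroup G) (S : Finset P)
    (hinv : ∀ j ∈ J, ∀ w ∈ S, j • w ∈ S) (hsemi : ∀ j ∈ J, ∀ w ∈ S, j • w = w → j = 1) :
    Nat.card J ∣ S.card := by
  classical
  haveI := Fintype.ofFinite J
  induction S using Finset.strongInduction with
  | H S ih =>
    rcases S.eq_empty_or_nonempty with rfl | ⟨w, hw⟩
    · simp
    let O := (univ : Finset J).image fun j : J => (j : G) • w
    have hO : O.card = Nat.card J := by
      rw [card_image_of_injective, card_univ, Nat.card_eq_fintype_card]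
      intro a b hab
      have := hsemi ((b : G)⁻¹ * a) (J.mul_mem (J.inv_mem b.2) a.2) w hw
        (by rw [mul_smul]; simp only at hab; rw [hab, inv_smul_smul])
      exact Subtype.ext (inv_mul_eq_one.1 this).symm
    have hsub : O ⊆ S := fun v hv => by
      obtain ⟨j, -, rfl⟩ := mem_image.1 hv
      exact hinv j j.2 w hw
    have hwO : w ∈ O := mem_image.2 ⟨1, mem_univ _, one_smul _ _⟩
    have hrec := ih (S \ O) (sdiff_ssubset hsub ⟨w, hwO⟩) (fun j hj v hv => ?_)
      fun j hj v hv => hsemi j hj v (mem_sdiff.1 hv).1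
    · rw [← card_sdiff_add_card_eq_card hsub, hO]
      exact Nat.dvd_add hrec dvd_rfl
    · rw [mem_sdiff] at hv ⊢
      refine ⟨hinv j hj v hv.1, fun h => hv.2 ?_⟩
      obtain ⟨i, -, hi⟩ := mem_image.1 h
      exact mem_image.2 ⟨⟨j⁻¹ * i, J.mul_mem (J.inv_mem hj) i.2⟩, mem_univ _,
        show (j⁻¹ * (i : G)) • w = v by rw [mul_smul, hi, inv_smul_smul]⟩

namespace Des

variable (D : Des P Q)

/-- The order of the projective space. -/
def q : ℕ := (D.k - 1) / D.lam

theorem Full.line_eq {D : Des P Q} (hF : D.Full) {x y : P} (hxy : x ≠ y) :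
    (D.line x y).card = D.q + 1 := by
  have h := hF.q_spec hxy
  have h2 := D.two_le_line hxy
  have hk : D.k - 1 = ((D.line x y).card - 1) * D.lam := by
    zify [show 1 ≤ D.k by have := D.two_le; omega, show 1 ≤ (D.line x y).card by omega]
    linarith
  rw [q, hk, Nat.mul_div_cancel _ D.lam_pos]
  omega

theorem Full.params {D : Des P Q} (hF : D.Full) :
    2 ≤ D.q ∧ D.k = D.q * D.lam + 1 ∧ Fintype.card P = D.q * D.k + 1 := by
  obtain ⟨x, y, hxy⟩ := Fintype.one_lt_card_iff.1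
    (show 1 < Fintype.card P by have := D.add_two_le; omega)
  have h1 := hF.line_eq hxy
  have h2 := hF.q_spec hxy
  have h3 := hF.line_card hxy
  have h4 := hF.three_le_line hxy
  rw [h1] at h2 h3
  push_cast at h2 h3
  have hk : D.k = D.q * D.lam + 1 := by zify; linarith
  refine ⟨by omega, hk, ?_⟩
  zify
  have hk' : (D.k : ℤ) = D.q * D.lam + 1 := by exact_mod_cast hk
  linear_combination -h3 + hk'

end Des

variable [Finite G] [FaithfulSMul G P] {D : Des P Q}

namespace Ito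

variable (I : Ito G D)

include I

/-- The elations with axis `B`. -/
noncomputable def El (B : Q) : Subgroup G := elations I.compat I.full B

theorem mem_El {B : Q} {h : G} : h ∈ I.El B ↔ IsElation D B h := Iff.rfl

theorem inc_smul_iff {g : G} {x : P} {B : Q} : D.inc x (g • B) ↔ D.inc (g⁻¹ • x) B := by
  conv_lhs => rw [← smul_inv_smul g x]
  exact I.compat g _ B

theorem El_conj (g : G) {B : Q} {h : G} (hh : h ∈ I.El B) : g * h * g⁻¹ ∈ I.El (g • B) := by
  rw [mem_El] at hh ⊢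
  refine ⟨fun x hx => ?_, ?_⟩
  · rw [mul_smul, mul_smul, hh.1 _ ((I.inc_smul_iff).1 hx), smul_inv_smul]
  · rcases hh.2 with rfl | h'
    · exact .inl (by group)
    · refine .inr fun y hy e => h' (g⁻¹ • y) (fun e' => hy ((I.inc_smul_iff).2 e')) ?_
      rw [mul_smul, mul_smul, smul_eq_iff_eq_inv_smul] at e
      exact e

theorem conj_centre (g : G) {B : Q} {h : G} {c : P} (hh : Centre D B h c) :
    Centre D (g • B) (g * h * g⁻¹) (g • c) := by
  refine ⟨(I.compat g c B).2 hh.1, fun y hy => ?_⟩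
  have := (smul_mem_line I.compat g).2 (hh.2 (g⁻¹ • y) fun e => hy ((I.inc_smul_iff).2 e))
  rwa [smul_inv_smul, ← mul_smul g, ← mul_smul (g * h)] at this

/-- The elations with a given centre. -/
noncomputable def El' (c : P) (hc : D.inc c I.B₀) : Subgroup G where
  carrier := {h | h ∈ I.El I.B₀ ∧ Centre D I.B₀ h c}
  one_mem' := ⟨(I.El I.B₀).one_mem, hc, fun y _ => by rw [one_smul]; exact D.right_mem_line _ _⟩
  mul_mem' ha hb := ⟨(I.El I.B₀).mul_mem ha.1 hb.1,
    Centre.mul I.compat ((I.mem_El).1 hb.1).1 ha.2 hb.2⟩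
  inv_mem' {a} ha := by
    refine ⟨(I.El I.B₀).inv_mem ha.1, hc, fun y hy => ?_⟩
    have hy' : ¬ D.inc (a⁻¹ • y) I.B₀ := fun e => hy (by
      have := (Axis.inc_iff I.compat ((I.mem_El).1 ha.1).1 (a⁻¹ • y)).2 e
      rwa [smul_inv_smul] at this)
    have h1 := ha.2.2 _ hy'
    rw [smul_inv_smul] at h1
    rw [D.line_eq_of_mem (show c ≠ a⁻¹ • y from fun e => hy' (e ▸ hc))
      (show c ≠ y from fun e => hy (e ▸ hc)) h1]
    exact D.right_mem_line _ _

theorem mem_El' {c : P} {hc : D.inc c I.B₀} {h : G} :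
    h ∈ I.El' c hc ↔ h ∈ I.El I.B₀ ∧ Centre D I.B₀ h c := Iff.rfl

theorem El'_disjoint {c d : P} {hc : D.inc c I.B₀} {hd : D.inc d I.B₀} (hcd : c ≠ d) {h : G}
    (h1 : h ∈ I.El' c hc) (h2 : h ∈ I.El' d hd) : h = 1 := by
  by_contra hne
  exact hcd (IsElation.centre_unique I.compat h1.1 hne h1.2 h2.2)

theorem exists_El' {h : G} (hh : h ∈ I.El I.B₀) : ∃ c hc, h ∈ I.El' c hc := by
  obtain ⟨c, hc⟩ := IsElation.exists_centre I.compat I.full ((I.mem_El).1 hh)
  exact ⟨c, hc.1, hh, hc⟩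

theorem exists_outside (B : Q) : ∃ y, ¬ D.inc y B := by
  classical
  by_contra hcon
  push Not at hcon
  have : D.pt B = univ := eq_univ_of_forall fun x => D.mem_pt.2 (hcon x)
  have h1 := D.card_pt B
  rw [this, card_univ] at h1
  have := D.add_two_le
  omega

/-- There is a non-trivial elation. -/
theorem El_ne_bot : I.El I.B₀ ≠ ⊥ := by
  classical
  haveI := Fintype.ofFinite G
  intro hbot
  have hone : ∀ h ∈ I.K, h ≠ 1 → ∃ z, ¬ D.inc z I.B₀ ∧ h • z = z := by
    intro h hh h1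
    by_contra hcon
    push Not at hcon
    have : h ∈ I.El I.B₀ := (I.mem_El).2 ⟨I.fixK h hh, .inr hcon⟩
    rw [hbot, Subgroup.mem_bot] at this
    exact h1 this
  let O := (univ : Finset P).filter fun z => ¬ D.inc z I.B₀
  let S : P → Subgroup G := fun z => I.K ⊓ MulAction.stabilizer G z
  have hS : ∀ z ∈ O, ∀ w ∈ O, Nat.card (S z) = Nat.card (S w) := by
    intro z hz w hw
    obtain ⟨g, hg, rfl⟩ := I.transOut z w (mem_filter.1 hz).2 (mem_filter.1 hw).2
    refine Nat.card_congr ⟨fun a => ⟨g * a * g⁻¹, I.norm g hg a a.2.1, ?_⟩,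
      fun a => ⟨g⁻¹ * a * g, by simpa using I.norm g⁻¹ (inv_smul_eq_iff.2 hg.symm) a a.2.1, ?_⟩,
      fun a => Subtype.ext (by simp [mul_assoc]), fun a => Subtype.ext (by simp [mul_assoc])⟩
    · show (g * (a : G) * g⁻¹) • (g • z) = g • z
      rw [mul_smul, inv_smul_smul, mul_smul, MulAction.mem_stabilizer_iff.1 a.2.2]
    · show (g⁻¹ * (a : G) * g) • z = z
      rw [mul_smul, mul_smul, MulAction.mem_stabilizer_iff.1 a.2.2, inv_smul_smul]
  obtain ⟨h₀, hh₀, h₀1⟩ := (Subgroup.bot_or_exists_ne_one I.K).resolve_left I.nontriv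
  obtain ⟨z, hz, hz'⟩ := hone h₀ hh₀ h₀1
  have hzO : z ∈ O := mem_filter.2 ⟨mem_univ _, hz⟩
  set c := Nat.card (S z) with hcdef
  have hc2 : 2 ≤ c := by
    haveI : Nontrivial (S z) := ⟨⟨h₀, hh₀, hz'⟩, 1, fun e => h₀1 (congrArg Subtype.val e)⟩
    exact Finite.one_lt_card
  have hcount : Nat.card I.K - 1 = O.card * (c - 1) := by
    have e : ((univ : Finset G).filter fun h => h ∈ I.K).erase 1 =
        O.biUnion fun w => ((univ : Finset G).filter fun h => h ∈ S w).erase 1 := by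
      ext h
      simp only [mem_erase, mem_filter, mem_univ, true_and, mem_biUnion, O, S, Subgroup.mem_inf,
        MulAction.mem_stabilizer_iff]
      constructor
      · rintro ⟨h1, hh⟩
        obtain ⟨w, hw, hw'⟩ := hone h hh h1
        exact ⟨w, hw, h1, hh, hw'⟩
      · rintro ⟨w, -, h1, hh, -⟩
        exact ⟨h1, hh⟩
    rw [Nat.card_eq_fintype_card, Fintype.card_subtype, ← card_erase_of_mem (a := (1 : G)) (by simp),
      e, card_biUnion]
    · rw [← smul_eq_mul, ← sum_const]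
      refine sum_congr rfl fun w hw => ?_
      rw [card_erase_of_mem (by simp [S, I.K.one_mem]), hcdef, hS z hzO w hw,
        Nat.card_eq_fintype_card, Fintype.card_subtype]
    · intro a ha b hb hab
      simp only [Function.onFun, disjoint_left, mem_erase, mem_filter, mem_univ, true_and, S,
        Subgroup.mem_inf, MulAction.mem_stabilizer_iff]
      rintro h ⟨h1, hh, h2⟩ ⟨-, -, h3⟩
      exact hab (Axis.fix_unique I.compat I.full (I.fixK h hh) h1 (mem_filter.1 ha).2
        (mem_filter.1 hb).2 h2 h3)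
  have horb : ∀ w ∈ O, (MulAction.orbit I.K w).ncard * c = Nat.card I.K := by
    intro w hw
    rw [hcdef, hS z hzO w hw, ← MulAction.index_stabilizer,
      ← Subgroup.index_mul_card (MulAction.stabilizer I.K w)]
    congr 1
    exact Nat.card_congr ⟨fun a => ⟨⟨a, a.2.1⟩, a.2.2⟩, fun a => ⟨(a : I.K), (a : I.K).2, a.2⟩,
      fun _ => rfl, fun _ => rfl⟩
  have hin : ∀ w ∈ O, (MulAction.orbit I.K w).toFinset ⊆ O := by
    intro w hw v hv
    obtain ⟨a, rfl⟩ := Set.mem_toFinset.1 hv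
    refine mem_filter.2 ⟨mem_univ _, fun e => (mem_filter.1 hw).2 ?_⟩
    exact (Axis.inc_iff I.compat (I.fixK a a.2) w).1 e
  have h1 := horb z hzO
  have hKpos : 1 ≤ Nat.card I.K := Nat.card_pos
  have hO2 : 2 ≤ O.card := by
    have e1 : O = (D.pt I.B₀)ᶜ := by ext w; simp [O, D.mem_pt]
    rw [e1, card_compl, D.card_pt]
    have := D.add_two_le; omega
  by_cases hall : ∀ w ∈ O, w ∈ MulAction.orbit I.K z
  · have e : (MulAction.orbit I.K z).ncard = O.card := by
      rw [Set.ncard_eq_toFinset_card']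
      exact congrArg Finset.card (Subset.antisymm (hin z hzO) fun w hw => Set.mem_toFinset.2 (hall w hw))
    rw [e] at h1
    rw [← h1] at hcount
    have h3 : O.card * (c - 1) + O.card = O.card * c := by
      rw [← Nat.mul_succ, Nat.succ_eq_add_one, Nat.sub_add_cancel (by omega)]
    omega
  · push Not at hall
    obtain ⟨w, hw, hwz⟩ := hall
    have hd : Disjoint (MulAction.orbit I.K z).toFinset (MulAction.orbit I.K w).toFinset := by
      rw [disjoint_left]
      intro v hv hv'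
      rw [Set.mem_toFinset] at hv hv'
      exact hwz (by rw [← MulAction.orbit_eq_iff.2 hv, MulAction.orbit_eq_iff.2 hv']; exact MulAction.mem_orbit_self w)
    have h4 := card_le_card (union_subset (hin z hzO) (hin w hw))
    rw [card_union_of_disjoint hd, ← Set.ncard_eq_toFinset_card', ← Set.ncard_eq_toFinset_card'] at h4
    have h2 := horb w hw
    have h5 : (MulAction.orbit I.K w).ncard = (MulAction.orbit I.K z).ncard :=
      Nat.eq_of_mul_eq_mul_right (show 0 < c by omega) (h2.trans h1.symm)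
    rw [h5] at h4
    set s := (MulAction.orbit I.K z).ncard
    have h6 : (s + s) * (c - 1) ≤ O.card * (c - 1) := Nat.mul_le_mul_right _ h4
    rw [← hcount, ← h1] at h6
    have h7 : s * (c - 1) + s = s * c := by
      rw [← Nat.mul_succ, Nat.succ_eq_add_one, Nat.sub_add_cancel (by omega)]
    rw [add_mul] at h6
    have h8 : s ≤ s * (c - 1) := Nat.le_mul_of_pos_right _ (by omega)
    have h9 : 1 ≤ s * c := h1 ▸ hKpos
    omega

theorem El'_conj {c : P} {hc : D.inc c I.B₀} {g : G} (hg : g • I.B₀ = I.B₀)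
    (hc' : D.inc (g • c) I.B₀) {h : G} (hh : h ∈ I.El' c hc) : g * h * g⁻¹ ∈ I.El' (g • c) hc' := by
  rw [mem_El'] at hh ⊢
  have h1 := I.El_conj g hh.1
  have h2 := I.conj_centre g hh.2
  rw [hg] at h1 h2
  exact ⟨h1, h2⟩

theorem card_El'_eq {c d : P} (hc : D.inc c I.B₀) (hd : D.inc d I.B₀) :
    Nat.card (I.El' c hc) = Nat.card (I.El' d hd) := by
  obtain ⟨g, hg, rfl⟩ := I.transIn c d hc hd
  refine Nat.card_congr ⟨fun a => ⟨g * a * g⁻¹, I.El'_conj hg hd a.2⟩, fun a => ⟨g⁻¹ * a * g, ?_⟩,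
    fun a => Subtype.ext (by simp [mul_assoc]), fun a => Subtype.ext (by simp [mul_assoc])⟩
  have h3 : ∀ (c' : P) (hc' : D.inc c' I.B₀), c' = c → g⁻¹ * (a : G) * g ∈ I.El' c' hc' →
      g⁻¹ * (a : G) * g ∈ I.El' c hc := by rintro c' hc' rfl h; exact h
  refine h3 (g⁻¹ • g • c) (by rw [inv_smul_smul]; exact hc) (inv_smul_smul _ _) ?_
  simpa using I.El'_conj (g := g⁻¹) (inv_smul_eq_iff.2 hg.symm) (by rw [inv_smul_smul]; exact hc) a.2

open Classical in
/-- Orders of the elation groups. -/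
theorem card_El : Nat.card (I.El I.B₀) = Fintype.card P - D.k ∧
    ∀ c hc, Nat.card (I.El' c hc) = D.q := by
  haveI := Fintype.ofFinite G
  obtain ⟨hq, hk, hn⟩ := I.full.params
  obtain ⟨c₀, hc₀⟩ := card_pos.1 (show 0 < (D.pt I.B₀).card by
    rw [D.card_pt]; have := D.two_le; omega)
  rw [D.mem_pt] at hc₀
  set e := Nat.card (I.El' c₀ hc₀) with he
  obtain ⟨y, hy⟩ := I.exists_outside I.B₀
  have hcy : c₀ ≠ y := fun h => hy (h ▸ hc₀)
  have hle : e ≤ D.q := by
    have hd := dvd_of_semireg (I.El' c₀ hc₀) ((D.line c₀ y).erase c₀) (fun j hj w hw => ?_)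
      (fun j hj w hw hjw => ?_)
    · rw [card_erase_of_mem (D.left_mem_line _ _), I.full.line_eq hcy] at hd
      exact Nat.le_of_dvd (by omega) hd
    · rw [mem_erase] at hw ⊢
      have hwB : ¬ D.inc w I.B₀ := fun h =>
        hw.1 (D.meet_unique hcy (.inr hy) hw.2 (D.left_mem_line _ _) h hc₀)
      refine ⟨fun h => hwB ((Axis.inc_iff I.compat ((I.mem_El).1 hj.1).1 w).1 (by rw [h]; exact hc₀)), ?_⟩
      rw [← D.line_eq_of_mem hcy (Ne.symm hw.1) hw.2]
      exact hj.2.2 w hwB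
    · rw [mem_erase] at hw
      have hwB : ¬ D.inc w I.B₀ := fun h =>
        hw.1 (D.meet_unique hcy (.inr hy) hw.2 (D.left_mem_line _ _) h hc₀)
      by_contra h1
      exact ((I.mem_El).1 hj.1).2.resolve_left h1 w hwB hjw
  have hpos : 1 ≤ Nat.card (I.El I.B₀) := Nat.card_pos
  have hcount : Nat.card (I.El I.B₀) = 1 + D.k * (e - 1) := by
    have hbi : ((univ : Finset G).filter fun h => h ∈ I.El I.B₀).erase 1 = (D.pt I.B₀).attach.biUnion
        fun c => ((univ : Finset G).filter fun h => h ∈ I.El' c.1 (D.mem_pt.1 c.2)).erase 1 := by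
      ext h
      simp only [mem_erase, mem_filter, mem_univ, true_and, mem_biUnion, mem_attach]
      constructor
      · rintro ⟨h1, hh⟩
        obtain ⟨c, hc, hhc⟩ := I.exists_El' hh
        exact ⟨⟨c, D.mem_pt.2 hc⟩, h1, hhc⟩
      · rintro ⟨c, h1, hh⟩
        exact ⟨h1, hh.1⟩
    have h2 : Nat.card (I.El I.B₀) - 1 = D.k * (e - 1) := by
      rw [Nat.card_eq_fintype_card, Fintype.card_subtype, ← card_erase_of_mem (a := (1 : G)) (by simp),
        hbi, card_biUnion, ← D.card_pt I.B₀, ← card_attach, ← smul_eq_mul, ← sum_const]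
      · refine sum_congr rfl fun c _ => ?_
        rw [card_erase_of_mem (by simp), he, I.card_El'_eq hc₀ (D.mem_pt.1 c.2),
          Nat.card_eq_fintype_card, Fintype.card_subtype]
      · intro a _ b _ hab
        simp only [Function.onFun, disjoint_left, mem_erase, mem_filter, mem_univ, true_and]
        rintro h ⟨h1, ha⟩ ⟨-, hb⟩
        exact h1 (I.El'_disjoint (fun e => hab (Subtype.ext e)) ha hb)
    omega
  have he2 : 2 ≤ e := by
    by_contra hcon
    refine I.El_ne_bot (Subgroup.card_eq_one.1 ?_)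
    rw [hcount, show e - 1 = 0 by omega, mul_zero, add_zero]
  have hdvd : Nat.card (I.El I.B₀) ∣ Fintype.card P - D.k := by
    have hd := dvd_of_semireg (I.El I.B₀) ((univ : Finset P).filter fun w => ¬ D.inc w I.B₀)
      (fun j hj w hw => ?_) (fun j hj w hw hjw => ?_)
    · rwa [show ((univ : Finset P).filter fun w => ¬ D.inc w I.B₀) = (D.pt I.B₀)ᶜ by
        ext w; simp [D.mem_pt], card_compl, D.card_pt] at hd
    · exact mem_filter.2 ⟨mem_univ _, fun h =>
        (mem_filter.1 hw).2 ((Axis.inc_iff I.compat ((I.mem_El).1 hj).1 w).1 h)⟩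
    · by_contra h1
      exact ((I.mem_El).1 hj).2.resolve_left h1 w (mem_filter.1 hw).2 hjw
  have hnk : Fintype.card P - D.k = (D.q - 1) * D.k + 1 := by
    have hkq : D.k ≤ D.q * D.k := Nat.le_mul_of_pos_left _ (by omega)
    rw [hn, Nat.sub_mul, one_mul]
    omega
  have heq : e = D.q := by
    by_contra hne
    have hlt : e < D.q := lt_of_le_of_ne hle hne
    have h3 : Nat.card (I.El I.B₀) ∣ (D.q - e) * D.k := by
      have h9 := Nat.dvd_sub hdvd (dvd_refl (Nat.card (I.El I.B₀)))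
      have h10 : Fintype.card P - D.k - Nat.card (I.El I.B₀) = (D.q - e) * D.k := by
        rw [hnk, hcount, Nat.mul_comm D.k, show (D.q - 1) = (D.q - e) + (e - 1) by omega, add_mul]
        omega
      rwa [h10] at h9
    have h4 : Nat.Coprime (Nat.card (I.El I.B₀)) D.k := by
      rw [hcount, Nat.coprime_add_mul_left_left]; exact Nat.coprime_one_left _
    have h5 := Nat.le_of_dvd (by omega) (h4.dvd_of_dvd_mul_right h3)
    rw [hcount] at h5
    have h6 : D.k ≤ D.k * (e - 1) := Nat.le_mul_of_pos_right _ (by omega)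
    have h7 : D.q ≤ D.q * D.lam := Nat.le_mul_of_pos_right _ D.lam_pos
    omega
  refine ⟨?_, fun c hc => (I.card_El'_eq hc hc₀).trans heq⟩
  rw [hcount, hnk, heq, Nat.mul_comm]
  omega

theorem El_semi {h : G} (hh : h ∈ I.El I.B₀) {y : P} (hy : ¬ D.inc y I.B₀) (he : h • y = y) :
    h = 1 := by
  by_contra h1
  exact ((I.mem_El).1 hh).2.resolve_left h1 y hy he

theorem El_out {h : G} (hh : h ∈ I.El I.B₀) {y : P} (hy : ¬ D.inc y I.B₀) :
    ¬ D.inc (h • y) I.B₀ := fun e => hy ((Axis.inc_iff I.compat ((I.mem_El).1 hh).1 y).1 e)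

open Classical in
/-- The elation group is regular outside its axis. -/
theorem El_regular {y z : P} (hy : ¬ D.inc y I.B₀) (hz : ¬ D.inc z I.B₀) :
    ∃ h ∈ I.El I.B₀, h • y = z := by
  have hO : ((D.pt I.B₀)ᶜ).card = Nat.card (I.El I.B₀) := by
    rw [card_compl, D.card_pt, I.card_El.1]
  refine (regular_of_semireg (I.El I.B₀) (D.pt I.B₀)ᶜ (z := y) (by simp [D.mem_pt, hy])
    (fun j hj w hw => ?_) (fun j hj w hw => I.El_semi hj (by simpa [D.mem_pt] using hw)) ?_).2 z
    (by simp [D.mem_pt, hz])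
  · simp only [mem_compl, D.mem_pt] at hw ⊢
    exact I.El_out hj hw
  · have h1 : 0 < Nat.card (I.El I.B₀) := Nat.card_pos
    omega

open Classical in
/-- The elations with one centre are transitive on the other points of their lines. -/
theorem El'_regular {c : P} (hc : D.inc c I.B₀) {y z : P} (hy : ¬ D.inc y I.B₀)
    (hz : z ∈ D.line c y) (hzc : z ≠ c) : ∃ h ∈ I.El' c hc, h • y = z := by
  have hcy : c ≠ y := fun e => hy (e ▸ hc)
  have hout : ∀ w ∈ (D.line c y).erase c, ¬ D.inc w I.B₀ := fun w hw h => (mem_erase.1 hw).1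
    (D.meet_unique hcy (.inr hy) (mem_erase.1 hw).2 (D.left_mem_line _ _) h hc)
  have hcard : ((D.line c y).erase c).card = Nat.card (I.El' c hc) := by
    rw [card_erase_of_mem (D.left_mem_line _ _), I.full.line_eq hcy, I.card_El.2 c hc]
    omega
  refine (regular_of_semireg (I.El' c hc) ((D.line c y).erase c) (z := y)
    (mem_erase.2 ⟨hcy.symm, D.right_mem_line _ _⟩) (fun j hj w hw => ?_)
    (fun j hj w hw => I.El_semi hj.1 (hout w hw)) ?_).2 z (mem_erase.2 ⟨hzc, hz⟩)
  · refine mem_erase.2 ⟨fun e => I.El_out hj.1 (hout w hw) (by rw [e]; exact hc), ?_⟩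
    rw [← D.line_eq_of_mem hcy (Ne.symm (mem_erase.1 hw).1) (mem_erase.1 hw).2]
    exact hj.2.2 w (hout w hw)
  · have h1 : 0 < Nat.card (I.El' c hc) := Nat.card_pos
    omega

theorem exists_centre_ne (c : P) : ∃ d, D.inc d I.B₀ ∧ d ≠ c := by
  classical
  obtain ⟨d, hd, hdc⟩ := exists_mem_ne (show 1 < (D.pt I.B₀).card by
    rw [D.card_pt]; have := D.two_le; omega) c
  exact ⟨d, D.mem_pt.1 hd, hdc⟩

theorem El'_ne_bot (c : P) (hc : D.inc c I.B₀) : ∃ h ∈ I.El' c hc, h ≠ 1 := by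
  refine (Subgroup.bot_or_exists_ne_one (I.El' c hc)).resolve_left fun e => ?_
  have := I.card_El.2 c hc
  rw [e, Subgroup.card_bot] at this
  have := I.full.params.1
  omega

theorem El_comm {a b : G} (ha : a ∈ I.El I.B₀) (hb : b ∈ I.El I.B₀) : a * b = b * a := by
  have hdiff : ∀ c d (hc : D.inc c I.B₀) (hd : D.inc d I.B₀), c ≠ d →
      ∀ x ∈ I.El' c hc, ∀ y ∈ I.El' d hd, x * y = y * x := by
    intro c d hc hd hcd x hx y hy
    have hconj : ∀ (u : G), u ∈ I.El I.B₀ → ∀ (e : P) (he : D.inc e I.B₀), ∀ w ∈ I.El' e he,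
        u * w * u⁻¹ ∈ I.El' e he := by
      intro u hu e he w hw
      have hue : u • e = e := ((I.mem_El).1 hu).1 e he
      have h1 := I.El_conj u hw.1
      have h2 := I.conj_centre u hw.2
      rw [Axis.fixBlock I.compat ((I.mem_El).1 hu).1] at h1 h2
      rw [hue] at h2
      exact ⟨h1, h2⟩
    have h1 : x * y * x⁻¹ * y⁻¹ ∈ I.El' d hd := Subgroup.mul_mem _ (hconj x hx.1 d hd y hy) (Subgroup.inv_mem _ hy)
    have h2 : x * y * x⁻¹ * y⁻¹ ∈ I.El' c hc := by
      rw [show x * y * x⁻¹ * y⁻¹ = x * (y * x⁻¹ * y⁻¹) by group]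
      exact Subgroup.mul_mem _ hx (hconj y hy.1 c hc _ (Subgroup.inv_mem _ hx))
    have := I.El'_disjoint hcd h2 h1
    rwa [mul_inv_eq_one, mul_inv_eq_iff_eq_mul] at this
  obtain ⟨c, hc, hac⟩ := I.exists_El' ha
  obtain ⟨d, hd, hbd⟩ := I.exists_El' hb
  by_cases hcd : c = d
  · subst hcd
    obtain ⟨e, he, hec⟩ := I.exists_centre_ne c
    obtain ⟨w, hw, hw1⟩ := I.El'_ne_bot e he
    obtain ⟨x, hx, hbwx⟩ := I.exists_El' ((I.El I.B₀).mul_mem hb hw.1)
    have hxc : c ≠ x := by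
      rintro rfl
      refine hw1 (I.El'_disjoint (hd := hc) hec hw ?_)
      have := Subgroup.mul_mem _ (Subgroup.inv_mem _ hbd) hbwx
      rwa [inv_mul_cancel_left] at this
    have h1 := hdiff c x hc hx hxc a hac _ hbwx
    have h2 := hdiff c e hc he (Ne.symm hec) a hac w hw
    calc a * b = a * (b * w) * w⁻¹ := by group
      _ = b * (w * a) * w⁻¹ := by rw [h1]; group
      _ = b * (a * w) * w⁻¹ := by rw [h2]
      _ = b * a := by group
  · exact hdiff c d hc hd hcd a hac b hbd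

/-- The elation group has prime exponent. -/
theorem El_exponent : ∃ p : ℕ, p.Prime ∧ ∀ h ∈ I.El I.B₀, h ^ p = 1 := by
  have key : ∀ c d (hc : D.inc c I.B₀) (hd : D.inc d I.B₀), c ≠ d →
      ∀ a ∈ I.El' c hc, a ≠ 1 → ∀ b ∈ I.El' d hd, ∀ m : ℕ, a ^ m = 1 → b ^ m = 1 := by
    intro c d hc hd hcd a ha ha1 b hb m hm
    obtain ⟨x, hx, habx⟩ := I.exists_El' ((I.El I.B₀).mul_mem ha.1 hb.1)
    have hxd : x ≠ d := by
      rintro rfl
      refine ha1 (I.El'_disjoint (hd := hd) hcd ha ?_)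
      have := Subgroup.mul_mem _ habx (Subgroup.inv_mem _ hb)
      rwa [mul_inv_cancel_right] at this
    have h1 : (a * b) ^ m = b ^ m := by
      rw [Commute.mul_pow (I.El_comm ha.1 hb.1), hm, one_mul]
    exact I.El'_disjoint hxd (h1 ▸ Subgroup.pow_mem _ habx m) (Subgroup.pow_mem _ hb m)
  obtain ⟨h₀, hh₀, h₀1⟩ := (Subgroup.bot_or_exists_ne_one (I.El I.B₀)).resolve_left I.El_ne_bot
  obtain ⟨p, hp, hpd⟩ := Nat.exists_prime_and_dvd (show orderOf h₀ ≠ 1 from
    fun e => h₀1 (orderOf_eq_one_iff.1 e))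
  set h := h₀ ^ (orderOf h₀ / p) with hh
  have hmem : h ∈ I.El I.B₀ := Subgroup.pow_mem _ hh₀ _
  have hp1 : h ^ p = 1 := by rw [hh, ← pow_mul, Nat.div_mul_cancel hpd, pow_orderOf_eq_one]
  have h1 : h ≠ 1 := by
    intro e
    have hpos := orderOf_pos h₀
    have h3 := Nat.le_of_dvd (Nat.div_pos (Nat.le_of_dvd hpos hpd) hp.pos) (orderOf_dvd_of_pow_eq_one e)
    have h4 := Nat.div_lt_self hpos hp.one_lt
    omega
  refine ⟨p, hp, fun b hb => ?_⟩
  obtain ⟨c, hc, hhc⟩ := I.exists_El' hmem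
  obtain ⟨d, hd, hbd⟩ := I.exists_El' hb
  by_cases hcd : c = d
  · subst hcd
    obtain ⟨e, he, hec⟩ := I.exists_centre_ne c
    obtain ⟨w, hw, hw1⟩ := I.El'_ne_bot e he
    exact key e c he hd hec w hw hw1 b hbd p (key c e hc he (Ne.symm hec) h hhc h1 w hw p hp1)
  · exact key c d hc hd hcd h hhc h1 b hbd p hp1

end Ito

end CfsgLib.SymDesign
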