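import Cfsg.Agent.Lib.SymDesign.Frame
import Cfsg.Agent.Lib.SymDesign.Coord

/-!
# Coordinates on the elation group, with all shears
-/

set_option autoImplicit false
set_option linter.unusedSectionVars false
set_option linter.style.haveILetI false

namespace CfsgLib.SymDesign

open Finset

variable {G P Q : Type*} [Group G] [MulAction G P] [MulAction G Q] [Fintype P] [Fintype Q]
  [Finite G] [FaithfulSMul G P] {D : Des P Q}

noncomputable instance instCommGroupEl (I : Ito G D) : CommGroup ↥(I.El I.B₀) :=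
  { (inferInstance : Group ↥(I.El I.B₀)) with
    mul_comm := fun a b => Subtype.ext (I.El_comm a.2 b.2) }

noncomputable instance instCommGroupEl' (I : Ito G D) (c : P) (hc : D.inc c I.B₀) :
    CommGroup ↥(I.El' c hc) :=
  { (inferInstance : Group ↥(I.El' c hc)) with
    mul_comm := fun a b => Subtype.ext (I.El_comm a.2.1 b.2.1) }

namespace Ito

variable (I : Ito G D)

theorem exists_smul_block (B : Q) : ∃ g : G, g • I.B₀ = B := by
  rcases eq_or_ne I.B₀ B with rfl | h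
  · exact ⟨1, one_smul _ _⟩
  · obtain ⟨g, hg, -⟩ := I.pairs I.B₀ B B I.B₀ h h.symm
    exact ⟨g, hg⟩

/-- The same configuration seen from another block. -/
noncomputable def atBlock (B : Q) : Ito G D where
  compat := I.compat
  full := I.full
  pairs := I.pairs
  B₀ := B
  transIn x y hx hy := by
    obtain ⟨g, rfl⟩ := I.exists_smul_block B
    obtain ⟨a, ha, he⟩ := I.transIn _ _ (I.inc_smul_iff.1 hx) (I.inc_smul_iff.1 hy)
    exact ⟨g * a * g⁻¹, by rw [mul_smul, mul_smul, inv_smul_smul, ha],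
      by rw [mul_smul, mul_smul, he, smul_inv_smul]⟩
  transOut x y hx hy := by
    obtain ⟨g, rfl⟩ := I.exists_smul_block B
    obtain ⟨a, ha, he⟩ := I.transOut _ _ (fun e => hx (I.inc_smul_iff.2 e)) (fun e => hy (I.inc_smul_iff.2 e))
    exact ⟨g * a * g⁻¹, by rw [mul_smul, mul_smul, inv_smul_smul, ha],
      by rw [mul_smul, mul_smul, he, smul_inv_smul]⟩
  K := I.K.map (MulAut.conj (Classical.choose (I.exists_smul_block B))).toMonoidHom
  nontriv := by
    rw [Ne, Subgroup.map_eq_bot_iff_of_injective _ (MulEquiv.injective _)]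
    exact I.nontriv
  norm := by
    rintro g hg _ ⟨a, ha, rfl⟩
    set w := Classical.choose (I.exists_smul_block B) with hw
    have hwB : w • I.B₀ = B := Classical.choose_spec (I.exists_smul_block B)
    refine ⟨(w⁻¹ * g * w) * a * (w⁻¹ * g * w)⁻¹, I.norm _ ?_ a ha, ?_⟩
    · rw [mul_smul, mul_smul, hwB, hg, inv_smul_eq_iff, hwB]
    · simp only [MulEquiv.coe_toMonoidHom, MulAut.conj_apply]; group
  fixK := by
    rintro _ ⟨a, ha, rfl⟩ x hx
    set w := Classical.choose (I.exists_smul_block B) with hw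
    have hwB : w • I.B₀ = B := Classical.choose_spec (I.exists_smul_block B)
    simp only [MulEquiv.coe_toMonoidHom, MulAut.conj_apply, mul_smul]
    rw [I.fixK a ha _ (I.inc_smul_iff.1 (hwB.symm ▸ hx)), smul_inv_smul]

theorem atBlock_B₀ (B : Q) : (I.atBlock B).B₀ = B := rfl

theorem atBlock_El (B C : Q) : (I.atBlock B).El C = I.El C := rfl

end Ito

namespace Frame

variable {I : Ito G D} (Fr : Frame I)

include Fr

theorem c_inj {i j : Fin Fr.m} (h : i ≠ j) : Fr.c i ≠ Fr.c j := fun e =>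
  Fr.notMem j (e ▸ Fr.mem i j h)

/-- The component with index `i`. -/
noncomputable def comp (i : Fin Fr.m) : Subgroup G := I.El' (Fr.c i) (Fr.axis i)

theorem comp_le (i : Fin Fr.m) : Fr.comp i ≤ I.El I.B₀ := fun _ h => h.1

theorem comp_stab {i j : Fin Fr.m} (h : i ≠ j) {a : G} (ha : a ∈ Fr.comp i) :
    a • Fr.b j = Fr.b j := I.stab_of_centre (Fr.mem i j h) ha

theorem comp_not_stab {i : Fin Fr.m} {a : G} (ha : a ∈ Fr.comp i) (he : a • Fr.b i = Fr.b i) :
    a = 1 := by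
  by_contra h1
  exact Fr.notMem i (I.centre_of_stab Fr.out (Fr.origin i) ha h1 he)

open Classical in
theorem exists_proj (i : Fin Fr.m) {e : G} (he : e ∈ I.El I.B₀) :
    ∃ a ∈ Fr.comp i, (a⁻¹ * e) • Fr.b i = Fr.b i := by
  haveI := Fintype.ofFinite G
  set W : Subgroup G := I.El I.B₀ ⊓ MulAction.stabilizer G (Fr.b i)
  let f : Fr.comp i × W → I.El I.B₀ := fun x =>
    ⟨(x.1 : G) * x.2, (I.El I.B₀).mul_mem x.1.2.1 x.2.2.1⟩
  have hinj : Function.Injective f := by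
    rintro ⟨a, w⟩ ⟨a', w'⟩ h
    have h' : (a : G) * w = a' * w' := congrArg Subtype.val h
    have h2 : (a' : G)⁻¹ * a = w' * (w : G)⁻¹ := by
      rw [eq_mul_inv_iff_mul_eq, mul_assoc, inv_mul_eq_iff_eq_mul, h']
    have h3 : (a' : G)⁻¹ * a = 1 := Fr.comp_not_stab ((Fr.comp i).mul_mem ((Fr.comp i).inv_mem a'.2) a.2)
      (by rw [h2]; exact (W.mul_mem w'.2 (W.inv_mem w.2)).2)
    have haa : (a : G) = a' := (inv_mul_eq_one.1 h3).symm
    rw [haa] at h'
    exact Prod.ext (Subtype.ext haa) (Subtype.ext (mul_left_cancel h'))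
  have hbij : Function.Bijective f := (Nat.bijective_iff_injective_and_card f).2 ⟨hinj, by
    rw [Nat.card_prod, I.card_El.1, show Nat.card (Fr.comp i) = D.q from I.card_El.2 _ _,
      I.card_stab Fr.out (Fr.origin i)]
    obtain ⟨hq, hk, hn⟩ := I.full.params
    have hlam := D.lam_lt
    have hkq : D.k ≤ D.q * D.k := Nat.le_mul_of_pos_left _ (by omega)
    rw [Nat.mul_sub, hn]
    have : D.q * D.lam ≤ D.q * D.k := Nat.mul_le_mul_left _ hlam.le
    omega⟩
  obtain ⟨⟨a, w⟩, haw⟩ := hbij.2 ⟨e, he⟩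
  refine ⟨a, a.2, ?_⟩
  rw [show e = (a : G) * w from (congrArg Subtype.val haw).symm, inv_mul_cancel_left]
  exact w.2.2

variable {i j : Fin Fr.m} {t : G}

/-- An elation of a frame block with centre on the axis. -/
def IsShear (i j : Fin Fr.m) (t : G) : Prop :=
  i ≠ j ∧ t ∈ I.El (Fr.b i) ∧ Centre D (Fr.b i) t (Fr.c j)

theorem IsShear.axis_stable (ht : Fr.IsShear i j t) : t • I.B₀ = I.B₀ := by
  classical
  obtain ⟨hij, ht, htc⟩ := ht
  symm
  refine D.ext_pt fun y hy => ?_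
  obtain ⟨y', rfl⟩ : ∃ y', t • y' = y := ⟨t⁻¹ • y, smul_inv_smul _ _⟩
  rw [I.compat]
  by_cases h : D.inc y' (Fr.b i)
  · rwa [((I.mem_El).1 ht).1 y' h] at hy
  · have hne : Fr.c j ≠ y' := fun e => h (e ▸ Fr.mem j i hij.symm)
    have hne' : Fr.c j ≠ t • y' := fun e => h
      ((Axis.inc_iff I.compat ((I.mem_El).1 ht).1 y').1 (e ▸ Fr.mem j i hij.symm))
    exact D.line_subset_block hne hne' (D.left_mem_line _ _) (htc.2 y' h) (Fr.axis j) hy y'
      (D.right_mem_line _ _)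

theorem IsShear.origin (ht : Fr.IsShear i j t) : t • Fr.o = Fr.o :=
  ((I.mem_El).1 ht.2.1).1 _ (Fr.origin i)

theorem IsShear.conj_smul (ht : Fr.IsShear i j t) (e : G) : (t * e * t⁻¹) • Fr.o = t • (e • Fr.o) := by
  rw [mul_smul, mul_smul, inv_smul_eq_iff.2 (IsShear.origin Fr ht).symm]

theorem IsShear.conj_mem (ht : Fr.IsShear i j t) {e : G} (he : e ∈ I.El I.B₀) :
    t * e * t⁻¹ ∈ I.El I.B₀ := by
  have := I.El_conj t he
  rwa [IsShear.axis_stable Fr ht] at this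

theorem IsShear.fix (ht : Fr.IsShear i j t) {e : G} (he : e ∈ I.El I.B₀)
    (hb : e • Fr.b i = Fr.b i) : t * e * t⁻¹ = e := by
  have := I.El_semi ((I.El I.B₀).mul_mem ((I.El I.B₀).inv_mem he) (IsShear.conj_mem Fr ht he)) Fr.out (by
    rw [mul_smul, IsShear.conj_smul Fr ht, ((I.mem_El).1 ht.2.1).1 _ ((I.stab_iff Fr.out (Fr.origin i) he).1 hb),
      inv_smul_smul])
  exact (inv_mul_eq_one.1 this).symm

/-- Shears between two components. -/
noncomputable def shears (i j : Fin Fr.m) :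
    AddSubgroup (Additive ↥(Fr.comp i) →+ Additive ↥(I.El' (Fr.c j) (Fr.axis j))) where
  carrier := {σ | σ = 0 ∨ i ≠ j ∧ ∃ t, t ∈ I.El (Fr.b i) ∧ Centre D (Fr.b i) t (Fr.c j) ∧
    ∀ a, t * (((Additive.toMul a : ↥(Fr.comp i))) : G) * t⁻¹ =
      ((Additive.toMul (σ a) : ↥(I.El' (Fr.c j) (Fr.axis j))) : G) * ((Additive.toMul a : ↥(Fr.comp i)) : G)}
  zero_mem' := .inl rfl
  add_mem' := by
    rintro σ τ (rfl | ⟨hij, t, ht, htc, hσ⟩) hτ
    · rwa [zero_add]
    rcases hτ with rfl | ⟨-, u, hu, huc, hτ⟩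
    · rw [add_zero]; exact .inr ⟨hij, t, ht, htc, hσ⟩
    refine .inr ⟨hij, t * u, (I.El _).mul_mem ht hu, Centre.mul I.compat ((I.mem_El).1 hu).1 htc huc, fun a => ?_⟩
    set x := ((Additive.toMul (τ a) : ↥(I.El' (Fr.c j) (Fr.axis j))) : G) with hx
    have hxmem : x ∈ Fr.comp j := (Additive.toMul (τ a) : ↥(I.El' (Fr.c j) (Fr.axis j))).2
    have hfix : t * x * t⁻¹ = x :=
      IsShear.fix Fr ⟨hij, ht, htc⟩ hxmem.1 (Fr.comp_stab hij.symm hxmem)
    show t * u * ((Additive.toMul a : ↥(Fr.comp i)) : G) * (t * u)⁻¹ = _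
    calc _ = t * (u * ((Additive.toMul a : ↥(Fr.comp i)) : G) * u⁻¹) * t⁻¹ := by group
      _ = (t * x * t⁻¹) * (t * ((Additive.toMul a : ↥(Fr.comp i)) : G) * t⁻¹) := by rw [hτ a, ← hx]; group
      _ = x * (_ * ((Additive.toMul a : ↥(Fr.comp i)) : G)) := by rw [hfix, hσ a]
      _ = _ := by
        rw [AddMonoidHom.add_apply, toMul_add, Subgroup.coe_mul, ← mul_assoc, hx,
          I.El_comm (Additive.toMul (τ a) : ↥(I.El' (Fr.c j) (Fr.axis j))).2.1
            (Additive.toMul (σ a) : ↥(I.El' (Fr.c j) (Fr.axis j))).2.1]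
  neg_mem' := by
    rintro σ (rfl | ⟨hij, t, ht, htc, hσ⟩)
    · rw [neg_zero]; exact .inl rfl
    refine .inr ⟨hij, t⁻¹, (I.El _).inv_mem ht,
      ((I.atBlock (Fr.b i)).El' (Fr.c j) (Fr.mem j i hij.symm) |>.inv_mem ⟨ht, htc⟩).2, fun a => ?_⟩
    set x := ((Additive.toMul (σ a) : ↥(I.El' (Fr.c j) (Fr.axis j))) : G) with hx
    set a' := ((Additive.toMul a : ↥(Fr.comp i)) : G) with ha'
    have hxmem : x ∈ Fr.comp j := (Additive.toMul (σ a) : ↥(I.El' (Fr.c j) (Fr.axis j))).2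
    have hfix : t * x * t⁻¹ = x :=
      IsShear.fix Fr ⟨hij, ht, htc⟩ hxmem.1 (Fr.comp_stab hij.symm hxmem)
    rw [AddMonoidHom.neg_apply, toMul_neg, Subgroup.coe_inv, ← hx, inv_inv]
    have h2 := hσ a
    rw [← hx, ← ha'] at h2
    have h3 : a' = t⁻¹ * x * t * (t⁻¹ * a' * t) := by
      calc a' = t⁻¹ * (t * a' * t⁻¹) * t := by group
        _ = _ := by rw [h2]; group
    rw [show t⁻¹ * x * t = x by
      calc t⁻¹ * x * t = t⁻¹ * (t * x * t⁻¹) * t := by rw [hfix]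
        _ = x := by group] at h3
    rw [eq_inv_mul_iff_mul_eq]
    exact h3.symm

theorem mem_shears {i j : Fin Fr.m}
    {σ : Additive ↥(Fr.comp i) →+ Additive ↥(I.El' (Fr.c j) (Fr.axis j))} :
    σ ∈ Fr.shears i j ↔ σ = 0 ∨ i ≠ j ∧ ∃ t, t ∈ I.El (Fr.b i) ∧ Centre D (Fr.b i) t (Fr.c j) ∧
      ∀ a, t * (((Additive.toMul a : ↥(Fr.comp i))) : G) * t⁻¹ =
        ((Additive.toMul (σ a) : ↥(I.El' (Fr.c j) (Fr.axis j))) : G) *
          ((Additive.toMul a : ↥(Fr.comp i)) : G) := Iff.rfl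

theorem IsShear.exists_image (ht : Fr.IsShear i j t) {a : G} (ha : a ∈ Fr.comp i) :
    ∃ x ∈ Fr.comp j, t * a * t⁻¹ = x * a := by
  rcases eq_or_ne a 1 with rfl | h1
  · exact ⟨1, Subgroup.one_mem _, by group⟩
  have hao : ¬ D.inc (a • Fr.o) I.B₀ := I.El_out ha.1 Fr.out
  have hab : ¬ D.inc (a • Fr.o) (Fr.b i) := fun h =>
    h1 (Fr.comp_not_stab ha ((I.stab_iff Fr.out (Fr.origin i) ha.1).2 h))
  have hne : Fr.c j ≠ t • a • Fr.o := fun e =>
    hab ((Axis.inc_iff I.compat ((I.mem_El).1 ht.2.1).1 _).1 (e ▸ Fr.mem j i ht.1.symm))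
  obtain ⟨x, hx, hxa⟩ := I.El'_regular (Fr.axis j) hao (ht.2.2.2 _ hab) hne.symm
  refine ⟨x, hx, ?_⟩
  have := I.El_semi ((I.El I.B₀).mul_mem ((I.El I.B₀).inv_mem ((I.El I.B₀).mul_mem hx.1 ha.1))
    (IsShear.conj_mem Fr ht ha.1)) Fr.out (by
      rw [mul_smul, IsShear.conj_smul Fr ht, ← hxa, ← mul_smul x a, inv_smul_smul])
  exact (inv_mul_eq_one.1 this).symm

theorem exists_shear_map (ht : Fr.IsShear i j t) :
    ∃ σ ∈ Fr.shears i j, ∀ a, t * (((Additive.toMul a : ↥(Fr.comp i))) : G) * t⁻¹ =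
      ((Additive.toMul (σ a) : ↥(I.El' (Fr.c j) (Fr.axis j))) : G) *
        ((Additive.toMul a : ↥(Fr.comp i)) : G) := by
  choose x hx hxe using fun a : Additive ↥(Fr.comp i) =>
    IsShear.exists_image Fr ht (Additive.toMul a : ↥(Fr.comp i)).2
  let σ : Additive ↥(Fr.comp i) →+ Additive ↥(I.El' (Fr.c j) (Fr.axis j)) :=
    AddMonoidHom.mk' (fun a => Additive.ofMul (⟨x a, hx a⟩ : ↥(I.El' (Fr.c j) (Fr.axis j)))) fun a b => by
      apply congrArg Additive.ofMul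
      apply Subtype.ext
      show x (a + b) = x a * x b
      have h := hxe (a + b)
      rw [toMul_add, Subgroup.coe_mul] at h
      set a' := ((Additive.toMul a : ↥(Fr.comp i)) : G)
      set b' := ((Additive.toMul b : ↥(Fr.comp i)) : G)
      have h2 : t * (a' * b') * t⁻¹ = (x a * x b) * (a' * b') := by
        calc t * (a' * b') * t⁻¹ = (t * a' * t⁻¹) * (t * b' * t⁻¹) := by group
          _ = x a * (a' * x b) * b' := by
            rw [show t * a' * t⁻¹ = x a * a' from hxe a, show t * b' * t⁻¹ = x b * b' from hxe b]; group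
          _ = _ := by
            rw [show a' * x b = x b * a' from I.El_comm (Additive.toMul a : ↥(Fr.comp i)).2.1 (hx b).1]
            group
      exact mul_right_cancel (h.symm.trans h2)
  exact ⟨σ, .inr ⟨ht.1, t, ht.2.1, ht.2.2, hxe⟩, hxe⟩

theorem shears_surj (hij : i ≠ j) (a : Additive ↥(Fr.comp i)) (ha : a ≠ 0)
    (b : Additive ↥(I.El' (Fr.c j) (Fr.axis j))) : ∃ σ ∈ Fr.shears i j, σ a = b := by
  set a' := ((Additive.toMul a : ↥(Fr.comp i)) : G) with ha'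
  set b' := ((Additive.toMul b : ↥(I.El' (Fr.c j) (Fr.axis j))) : G) with hb'
  have hamem : a' ∈ Fr.comp i := (Additive.toMul a : ↥(Fr.comp i)).2
  have hbmem : b' ∈ I.El' (Fr.c j) (Fr.axis j) := (Additive.toMul b : ↥(I.El' (Fr.c j) (Fr.axis j))).2
  have h1 : a' ≠ 1 := fun h => ha (Additive.toMul.injective (Subtype.ext h))
  have hab : ¬ D.inc (a' • Fr.o) (Fr.b i) := fun h =>
    h1 (Fr.comp_not_stab hamem ((I.stab_iff Fr.out (Fr.origin i) hamem.1).2 h))
  have hao : ¬ D.inc (a' • Fr.o) I.B₀ := I.El_out hamem.1 Fr.out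
  obtain ⟨t, ht, hte⟩ := (I.atBlock (Fr.b i)).El'_regular (c := Fr.c j) (Fr.mem j i hij.symm) hab
    (hbmem.2.2 _ hao) (fun e => I.El_out hbmem.1 hao (e ▸ Fr.axis j))
  have hts : Fr.IsShear i j t := ⟨hij, ht.1, ht.2⟩
  obtain ⟨σ, hσ, hσe⟩ := Fr.exists_shear_map hts
  refine ⟨σ, hσ, Additive.toMul.injective (Subtype.ext ?_)⟩
  have h := congrArg (fun g : G => g • Fr.o) (hσe a)
  simp only [← ha', IsShear.conj_smul Fr hts, hte, mul_smul] at h
  set x := ((Additive.toMul (σ a) : ↥(I.El' (Fr.c j) (Fr.axis j))) : G) with hx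
  have hxmem : x ∈ I.El' (Fr.c j) (Fr.axis j) := (Additive.toMul (σ a) : ↥(I.El' (Fr.c j) (Fr.axis j))).2
  have := I.El_semi ((I.El I.B₀).mul_mem ((I.El I.B₀).inv_mem hxmem.1) hbmem.1) hao
    (by rw [mul_smul, h, inv_smul_smul])
  exact inv_mul_eq_one.1 this

theorem shears_inj (hij : i ≠ j) {σ : Additive ↥(Fr.comp i) →+ Additive ↥(I.El' (Fr.c j) (Fr.axis j))}
    (hσ : σ ∈ Fr.shears i j) (h0 : σ ≠ 0) (a : Additive ↥(Fr.comp i)) (ha : σ a = 0) : a = 0 := by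
  obtain ⟨-, t, ht, htc, hte⟩ := hσ.resolve_left h0
  by_contra ha0
  set a' := ((Additive.toMul a : ↥(Fr.comp i)) : G) with ha'
  have hamem : a' ∈ Fr.comp i := (Additive.toMul a : ↥(Fr.comp i)).2
  have h1 : a' ≠ 1 := fun h => ha0 (Additive.toMul.injective (Subtype.ext h))
  have hab : ¬ D.inc (a' • Fr.o) (Fr.b i) := fun h =>
    h1 (Fr.comp_not_stab hamem ((I.stab_iff Fr.out (Fr.origin i) hamem.1).2 h))
  have h := hte a
  rw [ha, toMul_zero, Subgroup.coe_one, one_mul, ← ha'] at h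
  have h2 := congrArg (fun g : G => g • Fr.o) h
  simp only [IsShear.conj_smul Fr ⟨hij, ht, htc⟩] at h2
  have ht1 : t = 1 := ((I.mem_El).1 ht).2.resolve_right fun h' => h' _ hab h2
  refine h0 (AddMonoidHom.ext fun b => Additive.toMul.injective (Subtype.ext ?_))
  have h3 := hte b
  rw [ht1] at h3
  simp only [one_mul, inv_one, mul_one] at h3
  exact mul_eq_right.1 h3.symm

theorem shears_inv (hij : i ≠ j) {σ : Additive ↥(Fr.comp i) →+ Additive ↥(I.El' (Fr.c j) (Fr.axis j))}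
    (hσ : σ ∈ Fr.shears i j) (h0 : σ ≠ 0) :
    ∃ τ ∈ Fr.shears j i, ∀ a, τ (σ a) = a := by
  classical
  obtain ⟨-, t, ht, htc, hte⟩ := hσ.resolve_left h0
  have hts : Fr.IsShear i j t := ⟨hij, ht, htc⟩
  obtain ⟨g, hg, hg1⟩ := I.El'_ne_bot (Fr.c i) (Fr.axis i)
  set a₀ : Additive ↥(Fr.comp i) := Additive.ofMul (⟨g, hg⟩ : ↥(Fr.comp i)) with ha₀def
  have ha₀ : a₀ ≠ 0 := fun h => hg1 (congrArg Subtype.val (Additive.ofMul.injective h))
  have hb₀ : σ a₀ ≠ 0 := fun h => ha₀ (Fr.shears_inj hij hσ h0 a₀ h)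
  obtain ⟨τ, hτ, hτe⟩ := Fr.shears_surj hij.symm (σ a₀) hb₀ a₀
  have hτ0 : τ ≠ 0 := fun h => ha₀ (by rw [← hτe, h]; rfl)
  obtain ⟨-, u, hu, huc, hue⟩ := hτ.resolve_left hτ0
  have hus : Fr.IsShear j i u := ⟨hij.symm, hu, huc⟩
  refine ⟨τ, hτ, fun a => ?_⟩
  have hB := IsShear.axis_stable Fr hts
  have hBu := IsShear.axis_stable Fr hus
  have hx1 : D.inc (t • Fr.c i) I.B₀ := by
    have := (I.compat t (Fr.c i) I.B₀).2 (Fr.axis i)
    rwa [hB] at this
  have hx2 : D.inc (u • Fr.c j) I.B₀ := by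
    have := (I.compat u (Fr.c j) I.B₀).2 (Fr.axis j)
    rwa [hBu] at this
  have hm1 : ∀ a : Additive ↥(Fr.comp i),
      ((Additive.toMul (σ a) : ↥(I.El' (Fr.c j) (Fr.axis j))) : G) *
        ((Additive.toMul a : ↥(Fr.comp i)) : G) ∈ I.El' (t • Fr.c i) hx1 := fun a => by
    rw [← hte a]
    exact I.El'_conj hB hx1 (Additive.toMul a : ↥(Fr.comp i)).2
  have hm2 : ∀ w : Additive ↥(Fr.comp j),
      ((Additive.toMul (τ w) : ↥(I.El' (Fr.c i) (Fr.axis i))) : G) *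
        ((Additive.toMul w : ↥(Fr.comp j)) : G) ∈ I.El' (u • Fr.c j) hx2 := fun w => by
    rw [← hue w]
    exact I.El'_conj hBu hx2 (Additive.toMul w : ↥(Fr.comp j)).2
  have hcomm : ∀ (x : Additive ↥(I.El' (Fr.c i) (Fr.axis i))) (y : Additive ↥(I.El' (Fr.c j) (Fr.axis j))),
      ((Additive.toMul x : ↥(I.El' (Fr.c i) (Fr.axis i))) : G) *
        ((Additive.toMul y : ↥(I.El' (Fr.c j) (Fr.axis j))) : G) =
      ((Additive.toMul y : ↥(I.El' (Fr.c j) (Fr.axis j))) : G) *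
        ((Additive.toMul x : ↥(I.El' (Fr.c i) (Fr.axis i))) : G) := fun x y =>
    I.El_comm (Additive.toMul x : ↥(I.El' (Fr.c i) (Fr.axis i))).2.1
      (Additive.toMul y : ↥(I.El' (Fr.c j) (Fr.axis j))).2.1
  have hsplit : ∀ {x x' : ↥(I.El' (Fr.c i) (Fr.axis i))} {y y' : ↥(I.El' (Fr.c j) (Fr.axis j))},
      (x : G) * y = x' * y' → x = x' ∧ y = y' := by
    intro x x' y y' h
    have h2 : (x' : G)⁻¹ * x = y' * (y : G)⁻¹ := by
      rw [eq_mul_inv_iff_mul_eq, mul_assoc, inv_mul_eq_iff_eq_mul, h]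
    have h3 := I.El'_disjoint (Fr.c_inj hij) (Subgroup.mul_mem _ (Subgroup.inv_mem _ x'.2) x.2)
      (h2 ▸ Subgroup.mul_mem _ y'.2 (Subgroup.inv_mem _ y.2))
    have hxx : (x : G) = x' := (inv_mul_eq_one.1 h3).symm
    rw [hxx] at h
    exact ⟨Subtype.ext hxx, Subtype.ext (mul_left_cancel h)⟩
  have hxeq : t • Fr.c i = u • Fr.c j := by
    by_contra hne
    have h2 := hm2 (σ a₀)
    rw [hτe] at h2
    erw [hcomm] at h2
    have h1 := I.El'_disjoint hne (hm1 a₀) h2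
    refine ha₀ (Additive.toMul.injective ?_)
    erw [← hcomm] at h1
    have := hsplit (x := Additive.toMul a₀) (x' := 1) (y := Additive.toMul (σ a₀)) (y' := 1)
      (by rw [Subgroup.coe_one, Subgroup.coe_one, one_mul]; exact h1)
    exact this.1
  -- the conjugation is onto the component
  obtain ⟨w, hw⟩ : ∃ w : Additive ↥(Fr.comp j),
      ((Additive.toMul (τ w) : ↥(I.El' (Fr.c i) (Fr.axis i))) : G) *
        ((Additive.toMul w : ↥(Fr.comp j)) : G) =
      ((Additive.toMul (σ a) : ↥(I.El' (Fr.c j) (Fr.axis j))) : G) *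
        ((Additive.toMul a : ↥(Fr.comp i)) : G) := by
    let f : ↥(Fr.comp j) → ↥(I.El' (u • Fr.c j) hx2) := fun y =>
      ⟨u * y * u⁻¹, I.El'_conj hBu hx2 y.2⟩
    have hf : Function.Bijective f := (Nat.bijective_iff_injective_and_card f).2
      ⟨fun y y' h => Subtype.ext (mul_left_cancel (mul_right_cancel (congrArg Subtype.val h))), by
        rw [show Nat.card (Fr.comp j) = D.q from I.card_El.2 _ _, I.card_El.2]⟩
    have hmem : ((Additive.toMul (σ a) : ↥(I.El' (Fr.c j) (Fr.axis j))) : G) *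
        ((Additive.toMul a : ↥(Fr.comp i)) : G) ∈ I.El' (u • Fr.c j) hx2 :=
      ⟨(hm1 a).1, hxeq ▸ (hm1 a).2⟩
    obtain ⟨y, hy⟩ := hf.2 ⟨_, hmem⟩
    exact ⟨Additive.ofMul y, by rw [← hue]; exact congrArg Subtype.val hy⟩
  erw [← hcomm] at hw
  obtain ⟨h1, h2⟩ := hsplit (x := Additive.toMul (τ w)) (x' := Additive.toMul a)
    (y := Additive.toMul w) (y' := Additive.toMul (σ a)) hw
  have hwe : w = σ a := Additive.toMul.injective h2
  rw [← hwe]
  exact Additive.toMul.injective h1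

theorem shears_comp {l : Fin Fr.m} (hij : i ≠ j) (hjl : j ≠ l) (hil : i ≠ l)
    {σ : Additive ↥(Fr.comp i) →+ Additive ↥(I.El' (Fr.c j) (Fr.axis j))} (hσ : σ ∈ Fr.shears i j)
    {τ : Additive ↥(Fr.comp j) →+ Additive ↥(I.El' (Fr.c l) (Fr.axis l))} (hτ : τ ∈ Fr.shears j l) :
    (τ.comp σ : Additive ↥(Fr.comp i) →+ Additive ↥(I.El' (Fr.c l) (Fr.axis l))) ∈ Fr.shears i l := by
  rcases eq_or_ne (τ.comp σ : Additive ↥(Fr.comp i) →+ Additive ↥(I.El' (Fr.c l) (Fr.axis l))) 0 with h | hts0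
  · rw [h]; exact AddSubgroup.zero_mem _
  obtain ⟨-, t, ht, htc, hte⟩ := hσ.resolve_left fun h => hts0 (by rw [h]; exact AddMonoidHom.comp_zero _)
  obtain ⟨-, v, hv, hvc, hve⟩ := hτ.resolve_left fun h => hts0 (by rw [h]; exact AddMonoidHom.zero_comp _)
  have hts : Fr.IsShear i j t := ⟨hij, ht, htc⟩
  have hvs : Fr.IsShear j l v := ⟨hjl, hv, hvc⟩
  have hvB := IsShear.axis_stable Fr hvs
  have hvb : v • Fr.b i = Fr.b i := by
    have ho : D.inc Fr.o (v • Fr.b i) := by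
      have := (I.compat v Fr.o (Fr.b i)).2 (Fr.origin i)
      rwa [IsShear.origin Fr hvs] at this
    refine (I.block_ext Fr.out (Fr.origin i) ho fun e he hfix => ?_).symm
    obtain ⟨a, ha, hr⟩ := Fr.exists_proj j he
    obtain ⟨x, hx, hxe⟩ := IsShear.exists_image Fr hvs ha
    have hr' := IsShear.fix Fr hvs ((I.El I.B₀).mul_mem ((I.El I.B₀).inv_mem ha.1) he) hr
    have hxb : x • Fr.b i = Fr.b i := Fr.comp_stab hil.symm hx
    have h4 : v * e * v⁻¹ = x * e := by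
      calc v * e * v⁻¹ = (v * a * v⁻¹) * (v * (a⁻¹ * e) * v⁻¹) := by group
        _ = _ := by rw [hxe, hr']; group
    have h5 : v⁻¹ * e * v = x⁻¹ * e := by
      have hxfix := IsShear.fix Fr hvs hx.1 (Fr.comp_stab hjl.symm hx)
      have h6 : v * (x⁻¹ * e) * v⁻¹ = e := by
        calc v * (x⁻¹ * e) * v⁻¹ = (v * x * v⁻¹)⁻¹ * (v * e * v⁻¹) := by group
          _ = e := by rw [hxfix, h4, inv_mul_cancel_left]
      calc v⁻¹ * e * v = v⁻¹ * (v * (x⁻¹ * e) * v⁻¹) * v := by rw [h6]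
        _ = _ := by group
    calc e • v • Fr.b i = v • ((v⁻¹ * e * v) • Fr.b i) := by rw [mul_smul, mul_smul, smul_inv_smul]
      _ = _ := by rw [h5, mul_smul, hfix, inv_smul_eq_iff.2 hxb.symm]
  set u := v * t * v⁻¹ * t⁻¹ with hu
  have humem : u ∈ I.El (Fr.b i) := by
    refine (I.El _).mul_mem ?_ ((I.El _).inv_mem ht)
    have := I.El_conj v ht
    rwa [hvb] at this
  have hue : ∀ a : Additive ↥(Fr.comp i), u * ((Additive.toMul a : ↥(Fr.comp i)) : G) * u⁻¹ =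
      ((Additive.toMul (τ (σ a)) : ↥(I.El' (Fr.c l) (Fr.axis l))) : G) *
        ((Additive.toMul a : ↥(Fr.comp i)) : G) := by
    intro a
    set a' := ((Additive.toMul a : ↥(Fr.comp i)) : G) with ha'
    set x := ((Additive.toMul (σ a) : ↥(I.El' (Fr.c j) (Fr.axis j))) : G) with hx
    set y := ((Additive.toMul (τ (σ a)) : ↥(I.El' (Fr.c l) (Fr.axis l))) : G) with hy
    have hamem : a' ∈ Fr.comp i := (Additive.toMul a : ↥(Fr.comp i)).2
    have hxmem : x ∈ Fr.comp j := (Additive.toMul (σ a) : ↥(I.El' (Fr.c j) (Fr.axis j))).2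
    have hymem : y ∈ Fr.comp l := (Additive.toMul (τ (σ a)) : ↥(I.El' (Fr.c l) (Fr.axis l))).2
    have f1 : v * a' * v⁻¹ = a' := IsShear.fix Fr hvs hamem.1 (Fr.comp_stab hij hamem)
    have f2 : t * x * t⁻¹ = x := IsShear.fix Fr hts hxmem.1 (Fr.comp_stab hij.symm hxmem)
    have f3 : t * y * t⁻¹ = y := IsShear.fix Fr hts hymem.1 (Fr.comp_stab hil.symm hymem)
    have f4 : v * y * v⁻¹ = y := IsShear.fix Fr hvs hymem.1 (Fr.comp_stab hjl.symm hymem)
    have e1 : t * a' * t⁻¹ = x * a' := hte a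
    have e2 : v * x * v⁻¹ = y * x := hve (σ a)
    have g1 : t⁻¹ * a' * t = x⁻¹ * a' := by
      have : t * (x⁻¹ * a') * t⁻¹ = a' := by
        calc t * (x⁻¹ * a') * t⁻¹ = (t * x * t⁻¹)⁻¹ * (t * a' * t⁻¹) := by group
          _ = a' := by rw [f2, e1, inv_mul_cancel_left]
      calc t⁻¹ * a' * t = t⁻¹ * (t * (x⁻¹ * a') * t⁻¹) * t := by rw [this]
        _ = _ := by group
    have g2 : v⁻¹ * (x⁻¹ * a') * v = y * x⁻¹ * a' := by
      have : v * (y * x⁻¹ * a') * v⁻¹ = x⁻¹ * a' := by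
        calc v * (y * x⁻¹ * a') * v⁻¹ = (v * y * v⁻¹) * (v * x * v⁻¹)⁻¹ * (v * a' * v⁻¹) := by group
          _ = y * (y * x)⁻¹ * a' := by rw [f4, e2, f1]
          _ = _ := by
            rw [mul_inv_rev, I.El_comm ((I.El I.B₀).inv_mem hxmem.1) ((I.El I.B₀).inv_mem hymem.1)]
            group
      calc v⁻¹ * (x⁻¹ * a') * v = v⁻¹ * (v * (y * x⁻¹ * a') * v⁻¹) * v := by rw [this]
        _ = _ := by group
    have g3 : t * (y * x⁻¹ * a') * t⁻¹ = y * a' := by
      calc t * (y * x⁻¹ * a') * t⁻¹ = (t * y * t⁻¹) * (t * x * t⁻¹)⁻¹ * (t * a' * t⁻¹) := by group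
        _ = _ := by rw [f3, f2, e1]; group
    calc u * a' * u⁻¹ = v * (t * (v⁻¹ * (t⁻¹ * a' * t) * v) * t⁻¹) * v⁻¹ := by rw [hu]; group
      _ = v * (y * a') * v⁻¹ := by rw [g1, g2, g3]
      _ = (v * y * v⁻¹) * (v * a' * v⁻¹) := by group
      _ = _ := by rw [f4, f1]
  obtain ⟨a₀, ha₀⟩ : ∃ a₀, τ (σ a₀) ≠ 0 := by
    by_contra hcon
    push Not at hcon
    exact hts0 (AddMonoidHom.ext hcon)
  refine .inr ⟨hil, u, humem, ?_, hue⟩
  obtain ⟨x, hx⟩ := IsElation.exists_centre I.compat I.full ((I.mem_El).1 humem)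
  suffices x = Fr.c l from this ▸ hx
  set a' := ((Additive.toMul a₀ : ↥(Fr.comp i)) : G) with ha'
  set y := ((Additive.toMul (τ (σ a₀)) : ↥(I.El' (Fr.c l) (Fr.axis l))) : G) with hy
  have hamem : a' ∈ Fr.comp i := (Additive.toMul a₀ : ↥(Fr.comp i)).2
  have hymem : y ∈ I.El' (Fr.c l) (Fr.axis l) :=
    (Additive.toMul (τ (σ a₀)) : ↥(I.El' (Fr.c l) (Fr.axis l))).2
  have hy1 : y ≠ 1 := fun h => ha₀ (Additive.toMul.injective (Subtype.ext h))
  have ha1 : a' ≠ 1 := fun h => by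
    have h0 : a₀ = 0 := Additive.toMul.injective (Subtype.ext h)
    subst h0
    exact ha₀ ((congrArg τ (map_zero σ)).trans (map_zero τ))
  have hao : ¬ D.inc (a' • Fr.o) I.B₀ := I.El_out hamem.1 Fr.out
  have hab : ¬ D.inc (a' • Fr.o) (Fr.b i) := fun h =>
    ha1 (Fr.comp_not_stab hamem ((I.stab_iff Fr.out (Fr.origin i) hamem.1).2 h))
  have huo : u • Fr.o = Fr.o := ((I.mem_El).1 humem).1 _ (Fr.origin i)
  have hval : u • a' • Fr.o = y • a' • Fr.o := by
    have := congrArg (fun g : G => g • Fr.o) (hue a₀)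
    simp only [mul_smul, inv_smul_eq_iff.2 huo.symm] at this
    exact this
  have hne : a' • Fr.o ≠ y • a' • Fr.o := fun e => hy1 (I.El_semi hymem.1 hao e.symm)
  have hxa : x ≠ a' • Fr.o := fun e => hab (e ▸ hx.1)
  have hla : Fr.c l ≠ a' • Fr.o := fun e => hao (e ▸ Fr.axis l)
  have e1 := D.line_eq_of_mem_mem hxa hne (D.right_mem_line _ _) (hval ▸ hx.2 _ hab)
  have e2 := D.line_eq_of_mem_mem hla hne (D.right_mem_line _ _) (hymem.2.2 _ hao)
  exact D.meet_unique hxa (.inr hab) (D.left_mem_line _ _) (by rw [← e1, e2]; exact D.left_mem_line _ _)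
    hx.1 (Fr.mem l i hil.symm)

end Frame

/-- Coordinates on the elation group: the components are lines and all shears are realised. -/
theorem exists_coords {I : Ito G D} (Fr : Frame I) :
    ∃ (F : Type) (_ : Field F) (_ : Fintype F) (φ : (Fin Fr.m → F) → G),
      Fintype.card F = D.q ∧ Function.Injective φ ∧ (∀ x y, φ (x + y) = φ x * φ y) ∧
      (∀ g, g ∈ I.El I.B₀ ↔ ∃ x, φ x = g) ∧
      (∀ i g, g ∈ Fr.comp i ↔ ∃ f, φ (Pi.single i f) = g) ∧
      ∀ i j, i ≠ j → ∀ f : F, ∃ t : G, t • I.B₀ = I.B₀ ∧ t • Fr.o = Fr.o ∧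
        ∀ x, t * φ x * t⁻¹ = φ (x + Pi.single j (f * x i)) := by
  classical
  obtain ⟨p, hp, hexp⟩ := I.El_exponent
  haveI : Fact p.Prime := ⟨hp⟩
  have hm := Fr.two_le
  let i₀ : Fin Fr.m := ⟨0, by omega⟩
  let i₁ : Fin Fr.m := ⟨1, by omega⟩
  let A : Fin Fr.m → Type _ := fun i => Additive ↥(I.El' (Fr.c i) (Fr.axis i))
  have hnt : Nontrivial (A i₀) := by
    obtain ⟨g, hg, hg1⟩ := I.El'_ne_bot (Fr.c i₀) (Fr.axis i₀)
    exact ⟨Additive.ofMul (⟨g, hg⟩ : ↥(I.El' (Fr.c i₀) (Fr.axis i₀))), 0,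
      fun h => hg1 (congrArg Subtype.val (Additive.ofMul.injective h))⟩
  have hcard : ∀ i, Nat.card (A i) = D.q := fun i =>
    (Nat.card_congr (Additive.toMul (α := ↥(I.El' (Fr.c i) (Fr.axis i))))).trans (I.card_El.2 _ _)
  obtain ⟨F, instF, instFF, ψ, hψ⟩ := exists_field (A := A) (i₀ := i₀) (i₁ := i₁)
    (by simp [i₀, i₁]) (p := p)
    (fun a => Additive.toMul.injective (Subtype.ext (by
      rw [toMul_nsmul, Subgroup.coe_pow, toMul_zero, Subgroup.coe_one]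
      exact hexp _ (Additive.toMul a : ↥(I.El' (Fr.c i₀) (Fr.axis i₀))).2.1)))
    (fun i j => Fr.shears i j) hnt (fun i => (hcard i).trans (hcard i₀).symm)
    (fun i j hij a ha b => Fr.shears_surj hij a ha b)
    (fun i j hij σ hσ h0 a ha => Fr.shears_inj hij hσ h0 a ha)
    (fun i j hij σ hσ h0 => Fr.shears_inv hij hσ h0)
    (fun i j l hij hjl hil σ hσ τ hτ => Fr.shears_comp hij hjl hil hσ hτ)
  let emb : ∀ i, F → ↥(I.El I.B₀) := fun i f =>
    ⟨((Additive.toMul (ψ i f) : ↥(I.El' (Fr.c i) (Fr.axis i))) : G),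
      (Additive.toMul (ψ i f) : ↥(I.El' (Fr.c i) (Fr.axis i))).2.1⟩
  have hemb : ∀ i f g, emb i (f + g) = emb i f * emb i g := fun i f g => by
    apply Subtype.ext
    show ((Additive.toMul (ψ i (f + g)) : ↥(I.El' (Fr.c i) (Fr.axis i))) : G) = _
    rw [map_add]; rfl
  have hemb0 : ∀ i, emb i 0 = 1 := fun i => by
    apply Subtype.ext
    show ((Additive.toMul (ψ i 0) : ↥(I.El' (Fr.c i) (Fr.axis i))) : G) = _
    rw [map_zero]; rfl
  let φ : (Fin Fr.m → F) → G := fun x => ((∏ i, emb i (x i) : ↥(I.El I.B₀)) : G)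
  have hφadd : ∀ x y, φ (x + y) = φ x * φ y := fun x y => by
    simp only [φ, Pi.add_apply, hemb, prod_mul_distrib, Subgroup.coe_mul]
  have hcompmem : ∀ i f, (emb i f : G) ∈ Fr.comp i := fun i f =>
    (Additive.toMul (ψ i f) : ↥(I.El' (Fr.c i) (Fr.axis i))).2
  have hφsingle : ∀ i f, φ (Pi.single i f) = (emb i f : G) := fun i f => by
    simp only [φ]
    rw [prod_eq_single i (fun j _ hj => by rw [Pi.single_eq_of_ne hj, hemb0]) (by simp),
      Pi.single_eq_same]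
  have hprodstab : ∀ (i : Fin Fr.m) (s : Finset (Fin Fr.m)), i ∉ s → ∀ x : Fin Fr.m → F,
      ((∏ j ∈ s, emb j (x j) : ↥(I.El I.B₀)) : G) • Fr.b i = Fr.b i := by
    intro i s hi x
    induction s using Finset.induction with
    | empty => rw [prod_empty, Subgroup.coe_one, one_smul]
    | insert a s ha ih =>
      rw [mem_insert, not_or] at hi
      rw [prod_insert ha, Subgroup.coe_mul, mul_smul, ih hi.2, Fr.comp_stab (Ne.symm hi.1) (hcompmem a _)]
  have hsplit : ∀ i x, φ x = (emb i (x i) : G) * ((∏ j ∈ univ.erase i, emb j (x j) : ↥(I.El I.B₀)) : G) := by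
    intro i x
    simp only [φ]
    rw [← mul_prod_erase _ _ (mem_univ i), Subgroup.coe_mul]
  have hinjF : ∀ i f, (emb i f : G) = 1 → f = 0 := fun i f h => by
    have : (Additive.toMul (ψ i f) : ↥(I.El' (Fr.c i) (Fr.axis i))) = 1 := Subtype.ext h
    exact (ψ i).map_eq_zero_iff.1 (Additive.toMul.injective this)
  have hinj : Function.Injective φ := by
    intro x y h
    have h0 : φ (x - y) = 1 := by
      have e := hφadd (x - y) y
      rw [sub_add_cancel] at e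
      exact (mul_eq_right.1 (e.symm.trans h))
    rw [← sub_eq_zero]
    funext i
    refine hinjF i _ (Fr.comp_not_stab (hcompmem i _) ?_)
    have h3 := hsplit i (x - y)
    rw [h0] at h3
    rw [eq_inv_of_mul_eq_one_left h3.symm, inv_smul_eq_iff]
    exact (hprodstab i _ (notMem_erase i univ) _).symm
  have hsurj : ∀ g ∈ I.El I.B₀, ∃ x, φ x = g := by
    intro g hg
    choose a ha hrest using fun i => Fr.exists_proj i hg
    let x : Fin Fr.m → F := fun i =>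
      (ψ i).symm (Additive.ofMul (⟨a i, ha i⟩ : ↥(I.El' (Fr.c i) (Fr.axis i))))
    refine ⟨x, ?_⟩
    have hmem : ∀ y, φ y ∈ I.El I.B₀ := fun y => (∏ i, emb i (y i) : ↥(I.El I.B₀)).2
    have := Fr.sep ((φ x)⁻¹ * g) ((I.El I.B₀).mul_mem ((I.El I.B₀).inv_mem (hmem x)) hg) fun i => by
      have he : (emb i (x i) : G) = a i := by
        show ((Additive.toMul (ψ i (x i)) : ↥(I.El' (Fr.c i) (Fr.axis i))) : G) = a i
        rw [AddEquiv.apply_symm_apply]; rfl
      rw [hsplit i x, he, mul_inv_rev, mul_assoc, mul_smul, hrest i, inv_smul_eq_iff]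
      exact (hprodstab i _ (notMem_erase i univ) _).symm
    exact inv_mul_eq_one.1 this
  refine ⟨F, instF, instFF, φ, ?_, hinj, hφadd, fun g => ⟨hsurj g, ?_⟩, fun i g => ⟨fun hg => ?_, ?_⟩, ?_⟩
  · rw [← Nat.card_eq_fintype_card, Nat.card_congr (ψ i₀).toEquiv, hcard]
  · rintro ⟨x, rfl⟩
    exact (∏ i, emb i (x i) : ↥(I.El I.B₀)).2
  · refine ⟨(ψ i).symm (Additive.ofMul (⟨g, hg⟩ : ↥(I.El' (Fr.c i) (Fr.axis i)))), ?_⟩
    rw [hφsingle]
    show ((Additive.toMul (ψ i ((ψ i).symm _)) : ↥(I.El' (Fr.c i) (Fr.axis i))) : G) = g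
    rw [AddEquiv.apply_symm_apply]; rfl
  · rintro ⟨f, rfl⟩
    rw [hφsingle]
    exact hcompmem i f
  intro i j hij f
  obtain ⟨σ, hσ, hσe⟩ := hψ i j hij f
  rcases hσ with rfl | ⟨-, t, ht, htc, hte⟩
  · refine ⟨1, one_smul _ _, one_smul _ _, fun x => ?_⟩
    have h1 : (ψ j (f * x i)) = 0 := by rw [← hσe]; rfl
    rw [(ψ j).map_eq_zero_iff.1 h1, Pi.single_zero, add_zero]
    group
  have hts : Fr.IsShear i j t := ⟨hij, ht, htc⟩
  refine ⟨t, Frame.IsShear.axis_stable Fr hts, Frame.IsShear.origin Fr hts, fun x => ?_⟩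
  set r := ((∏ l ∈ univ.erase i, emb l (x l) : ↥(I.El I.B₀)) : G) with hr
  have hr' : t * r * t⁻¹ = r := Frame.IsShear.fix Fr hts (∏ l ∈ univ.erase i, emb l (x l)).2
    (hprodstab i _ (notMem_erase i univ) x)
  have hei : t * (emb i (x i) : G) * t⁻¹ = (emb j (f * x i) : G) * (emb i (x i) : G) := by
    exact (hte (ψ i (x i))).trans (congrArg (fun z : Additive ↥(I.El' (Fr.c j) (Fr.axis j)) =>
      ((Additive.toMul z : ↥(I.El' (Fr.c j) (Fr.axis j))) : G) * (emb i (x i) : G)) (hσe (x i)))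
  rw [hφadd, hφsingle, hsplit i x, ← hr]
  calc t * ((emb i (x i) : G) * r) * t⁻¹ = (t * (emb i (x i) : G) * t⁻¹) * (t * r * t⁻¹) := by group
    _ = (emb j (f * x i) : G) * ((emb i (x i) : G) * r) := by rw [hei, hr', mul_assoc]
    _ = _ := I.El_comm (emb j (f * x i)).2 ((I.El I.B₀).mul_mem (emb i (x i)).2
        (∏ l ∈ univ.erase i, emb l (x l)).2)

end CfsgLib.SymDesign
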